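import Groth.Agent.L10.RelPC.Basic
import Groth.Prelude.Def_MoreMor
import Mathlib.RingTheory.IntegralClosure.IsIntegralClosure.Basic

/-! Formal properties of relative pseudo-coherence. -/

universe u

open CategoryTheory CategoryTheory.Limits CategoryTheory.Pretriangulated

attribute [local instance] HasDerivedCategory.standard

set_option backward.defeqAttrib.useBackward true
set_option backward.isDefEq.respectTransparency false
namespace Groth.L10.RelPC

open Groth.L02.PC Groth.L10.DR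

variable {R A : Type u} [CommRing R] [CommRing A] [Algebra R A] [Algebra.FiniteType R A]

theorem triangle (m : ℤ) (T : Triangle (Dual.D A)) (hT : T ∈ distinguishedTriangles) :
    (DerCA.IsRelPseudoCoherent R A (m + 1) T.obj₁ → DerCA.IsRelPseudoCoherent R A m T.obj₂ →
        DerCA.IsRelPseudoCoherent R A m T.obj₃) ∧
      (DerCA.IsRelPseudoCoherent R A m T.obj₁ → DerCA.IsRelPseudoCoherent R A m T.obj₃ →
        DerCA.IsRelPseudoCoherent R A m T.obj₂) ∧
      (DerCA.IsRelPseudoCoherent R A (m + 1) T.obj₂ → DerCA.IsRelPseudoCoherent R A m T.obj₃ →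
        DerCA.IsRelPseudoCoherent R A (m + 1) T.obj₁) ∧
      ((DerCA.IsRelPseudoCoherentAll R A T.obj₁ → DerCA.IsRelPseudoCoherentAll R A T.obj₂ →
          DerCA.IsRelPseudoCoherentAll R A T.obj₃) ∧
        (DerCA.IsRelPseudoCoherentAll R A T.obj₁ → DerCA.IsRelPseudoCoherentAll R A T.obj₃ →
          DerCA.IsRelPseudoCoherentAll R A T.obj₂) ∧
        (DerCA.IsRelPseudoCoherentAll R A T.obj₂ → DerCA.IsRelPseudoCoherentAll R A T.obj₃ →
          DerCA.IsRelPseudoCoherentAll R A T.obj₁)) := by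
  obtain ⟨n, α, hα⟩ := exists_presentation R A
  have hT' := (DRing.restrictD (α : MvPolynomial (Fin n) R →+* A)).map_distinguished T hT
  simp only [DerCA.IsRelPseudoCoherentAll, rel_iff α hα]
  exact ⟨fun h1 h2 => pc_third _ hT' m h1 h2, fun h1 h3 => pc_second _ hT' m h1 h3,
    fun h2 h3 => pc_first _ hT' m h2 h3, fun h1 h2 k => pc_third _ hT' k (h1 _) (h2 k),
    fun h1 h3 k => pc_second _ hT' k (h1 k) (h3 k),
    fun h2 h3 k => by simpa using pc_first _ hT' (k - 1) (h2 (k - 1 + 1)) (h3 (k - 1))⟩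

theorem module_iff {n : ℕ} (α : MvPolynomial (Fin n) R →ₐ[R] A)
    (hα : Function.Surjective α) (M : Type u) [AddCommGroup M] [Module A M] :
    (DerCA.IsRelPseudoCoherentModule R A 0 M ↔ Module.Finite A M) ∧
      (DerCA.IsRelPseudoCoherentModule R A (-1) M ↔
        @Module.FinitePresentation (MvPolynomial (Fin n) R) M _ _ (Module.compHom M α.toRingHom)) := by
  letI : Module (MvPolynomial (Fin n) R) M := Module.compHom M α.toRingHom
  let e := inDIso (α : MvPolynomial (Fin n) R →+* A) M (fun _ _ => rfl)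
  have h : ∀ m, DerCA.IsRelPseudoCoherentModule R A m M ↔
      DRing.IsPseudoCoherentModule (MvPolynomial (Fin n) R) m M := fun m =>
    (rel_iff α hα).trans ⟨pc_of_iso e, pc_of_iso e.symm⟩
  have hf : Module.Finite (MvPolynomial (Fin n) R) M ↔ Module.Finite A M :=
    finite_res_iff (α : MvPolynomial (Fin n) R →+* A) hα (ModuleCat.of A M)
  refine ⟨(h 0).trans ⟨fun hp => hf.1 (finite_of_pcModule_zero hp), fun hp => ?_⟩,
    (h (-1)).trans ⟨finitePresentation_of_pcModule, fun hp => pcModule_negOne M⟩⟩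
  haveI := hf.2 hp
  exact pcModule_zero M

theorem biprod (m : ℤ) (K L : Dual.D A) [HasBinaryBiproduct K L] :
    (DerCA.IsRelPseudoCoherent R A m (K ⊞ L) →
        DerCA.IsRelPseudoCoherent R A m K ∧ DerCA.IsRelPseudoCoherent R A m L) ∧
      (DerCA.IsRelPseudoCoherentAll R A (K ⊞ L) →
        DerCA.IsRelPseudoCoherentAll R A K ∧ DerCA.IsRelPseudoCoherentAll R A L) := by
  obtain ⟨n, α, hα⟩ := exists_presentation R A
  let G := DRing.restrictD (α : MvPolynomial (Fin n) R →+* A)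
  haveI := preservesBinaryBiproducts_of_preservesBiproducts G
  simp only [DerCA.IsRelPseudoCoherentAll, rel_iff α hα]
  exact ⟨fun h => pc_biprod_iff_aux _ _ m (pc_of_iso (G.mapBiprod K L) h),
    fun h => ⟨fun k => (pc_biprod_iff_aux _ _ k (pc_of_iso (G.mapBiprod K L) (h k))).1,
      fun k => (pc_biprod_iff_aux _ _ k (pc_of_iso (G.mapBiprod K L) (h k))).2⟩⟩

theorem termwise (m : ℤ) (K : DRing.Cx A) (b : ℤ) (hb : DRing.VanishesAbove K b) :
    ((∀ i : ℤ, DerCA.IsRelPseudoCoherentModule R A (m - i) (K.X i)) →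
        DerCA.IsRelPseudoCoherent R A m (DRing.toD K)) ∧
      ((∀ i : ℤ, DerCA.IsRelPseudoCoherentModuleAll R A (K.X i)) →
        DerCA.IsRelPseudoCoherentAll R A (DRing.toD K)) := by
  obtain ⟨n, α, hα⟩ := exists_presentation R A
  exact ⟨fun h => (rel_iff α hα).2 (Pc.of_terms _ m K b hb fun i _ => (rel_iff α hα).1 (h i)),
    fun h k => (rel_iff α hα).2 (Pc.of_terms _ k K b hb fun i _ => (rel_iff α hα).1 (h i _))⟩

theorem homologywise (m : ℤ) (K : Dual.D A)
    (hb : ∃ b : ℤ, ∀ i : ℤ, b < i → Subsingleton (Dual.HD A K i)) :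
    ((∀ i : ℤ, DerCA.IsRelPseudoCoherentModule R A (m - i) (Dual.HD A K i)) →
        DerCA.IsRelPseudoCoherent R A m K) ∧
      ((∀ i : ℤ, DerCA.IsRelPseudoCoherentModuleAll R A (Dual.HD A K i)) →
        DerCA.IsRelPseudoCoherentAll R A K) := by
  obtain ⟨n, α, hα⟩ := exists_presentation R A
  obtain ⟨b, hb⟩ := hb
  have hl : Groth.L02.PC.LEH K b := fun i hi => (isZero_HH_iff_subsingleton K i).2 (hb i hi)
  exact ⟨fun h => (rel_iff α hα).2 (Pc.of_homology _ m K b hl fun i _ => (rel_iff α hα).1 (h i)),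
    fun h k => (rel_iff α hα).2 (Pc.of_homology _ k K b hl fun i _ => (rel_iff α hα).1 (h i _))⟩

theorem noetherian [IsNoetherianRing R] (m : ℤ) (K : Dual.D A) (M : Type u) [AddCommGroup M] [Module A M] :
    (DerCA.IsRelPseudoCoherent R A m K ↔
      (∃ b : ℤ, ∀ i : ℤ, b < i → Subsingleton (Dual.HD A K i)) ∧ ∀ i : ℤ, m ≤ i → Module.Finite A (Dual.HD A K i)) ∧
    (DerCA.IsRelPseudoCoherentAll R A K ↔
      (∃ b : ℤ, ∀ i : ℤ, b < i → Subsingleton (Dual.HD A K i)) ∧ ∀ i : ℤ, Module.Finite A (Dual.HD A K i)) ∧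
    (DerCA.IsRelPseudoCoherentModuleAll R A M ↔ Module.Finite A M) := by
  obtain ⟨n, α, hα⟩ := exists_presentation R A
  have key : ∀ (k : ℤ) (L : Dual.D A), DerCA.IsRelPseudoCoherent R A k L ↔
      (∃ b : ℤ, ∀ i : ℤ, b < i → Subsingleton (Dual.HD A L i)) ∧
        ∀ i : ℤ, k ≤ i → Module.Finite A (Dual.HD A L i) := fun k L =>
    (rel_iff α hα).trans (Pc.iff_noetherian _ hα k L)
  refine ⟨key m K, ⟨fun h => ⟨((key 0 K).1 (h 0)).1, fun i => ((key i K).1 (h i)).2 i le_rfl⟩,
    fun h k => (key k K).2 ⟨h.1, fun i _ => h.2 i⟩⟩, fun h => (module_iff α hα M).1.1 (h 0), fun h k => ?_⟩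
  letI : Module (MvPolynomial (Fin n) R) M := Module.compHom M α.toRingHom
  haveI : Module.Finite (MvPolynomial (Fin n) R) M :=
    (finite_res_iff (α : MvPolynomial (Fin n) R →+* A) hα (ModuleCat.of A M)).2 h
  exact (rel_iff α hα).2 (pc_of_iso (inDIso (α : MvPolynomial (Fin n) R →+* A) M (fun _ _ => rfl)).symm
    (pc_of_pc' (pcModule'_noetherian M) k))

omit [Algebra.FiniteType R A] in
theorem of_pseudoCoherentHom (hRA : MoreMor.IsPseudoCoherentHom R A) (m : ℤ) (K : Dual.D A) :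
    DerCA.IsRelPseudoCoherent R A m K ↔ DRing.IsPseudoCoherent A m K := by
  obtain ⟨n, φ, hφ, h⟩ := hRA
  exact (rel_iff φ hφ).trans (PCHom.pc_iff (φ := (φ : MvPolynomial (Fin n) R →+* A)) h m K).symm

/-- finite maps -/
theorem finite {B : Type u} [CommRing B] [Algebra A B] [Algebra R B] [IsScalarTower R A B]
    [Algebra.FiniteType R B] [Module.Finite A B] (K : Dual.D B) (m : ℤ) :
    DerCA.IsRelPseudoCoherent R B m K ↔
      DerCA.IsRelPseudoCoherent R A m ((DRing.restrictD (algebraMap A B)).obj K) := by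
  obtain ⟨n, α, hα⟩ := exists_presentation R A
  obtain ⟨k, β, hβ⟩ := exists_presentation R B
  let φ₀ : MvPolynomial (Fin n) R →+* B := (algebraMap A B).comp (α : MvPolynomial (Fin n) R →+* A)
  let γ : MvPolynomial (Fin k) (MvPolynomial (Fin n) R) →+* B :=
    MvPolynomial.eval₂Hom φ₀ fun i => β (MvPolynomial.X i)
  have hC : γ.comp MvPolynomial.C = φ₀ := RingHom.ext fun r => MvPolynomial.eval₂Hom_C _ _ r
  have hint : ∀ i, (γ.comp MvPolynomial.C).IsIntegralElem (γ (MvPolynomial.X i)) := fun i => by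
    rw [hC]
    rcases subsingleton_or_nontrivial A with hA | hA
    · haveI : Subsingleton B := Module.subsingleton A B
      exact ⟨Polynomial.X, Polynomial.monic_X, Subsingleton.elim _ _⟩
    obtain ⟨p, hp, hp0⟩ := Algebra.IsIntegral.isIntegral (R := A) (β (MvPolynomial.X i))
    obtain ⟨q, hq⟩ := Polynomial.lifts_and_degree_eq_and_monic
      ((Polynomial.lifts_iff_coeff_lifts (f := (α : MvPolynomial (Fin n) R →+* A)) p).2 fun j => hα _) hp
    refine ⟨q, hq.2.2, ?_⟩
    simp only [γ, MvPolynomial.eval₂Hom_X', φ₀]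
    rw [← Polynomial.eval₂_map, hq.1]
    exact hp0
  rw [rel_iff α hα, ← Pc.comp_iff (h := φ₀) _ _ rfl, ← hC, ← Pc.poly_integral_iff k γ hint,
    rel_iff β hβ]
  let ψ : MvPolynomial (Fin n) R →ₐ[R] B := (IsScalarTower.toAlgHom R A B).comp α
  have hψ : (ψ : MvPolynomial (Fin n) R →+* B) = φ₀ := RingHom.ext fun _ => rfl
  rw [via_iff_extend β hβ (fun i => ψ (MvPolynomial.X i))]
  refine Pc.equiv_iff (MvPolynomial.commAlgEquiv R (Fin n) (Fin k)).toRingEquiv γ ?_ K
  refine MvPolynomial.ringHom_ext (fun r => ?_) (fun i => by simp [γ, φ₀, ψ])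
  have : (MvPolynomial.eval₂Hom (β : MvPolynomial (Fin k) R →+* B) fun i => ψ (MvPolynomial.X i)).comp
        MvPolynomial.C = (γ.comp
        (MvPolynomial.commAlgEquiv R (Fin n) (Fin k)).toRingEquiv.toRingHom).comp MvPolynomial.C :=
    MvPolynomial.ringHom_ext (fun r => by simp [γ, φ₀, IsScalarTower.algebraMap_apply R A B])
      (fun i => by simp [γ, MvPolynomial.commAlgEquiv_C_X])
  exact RingHom.congr_fun this r

end Groth.L10.RelPC
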