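import Groth.Agent.L10.RelPC.BC
import Groth.Agent.L10.RelPC.Formal
import Mathlib.RingTheory.Localization.Away.AdjoinRoot
import Mathlib.RingTheory.Localization.BaseChange

/-! Relative pseudo-coherence: intermediate rings and localization. -/

universe u

open CategoryTheory CategoryTheory.Limits CategoryTheory.Pretriangulated

attribute [local instance] HasDerivedCategory.standard MvPolynomial.algebraMvPolynomial

set_option backward.defeqAttrib.useBackward true
set_option backward.isDefEq.respectTransparency false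
namespace Groth.L10.RelPC

open Groth.L02.PC Groth.L10.DR

variable {R A B : Type u} [CommRing R] [CommRing A] [CommRing B]

/-- two groups of variables -/
noncomputable def doubleEquiv (R : Type u) [CommRing R] (k n : ℕ) :
    MvPolynomial (Fin (k + n)) R ≃ₐ[R] MvPolynomial (Fin k) (MvPolynomial (Fin n) R) :=
  (MvPolynomial.renameEquiv R finSumFinEquiv.symm).trans (MvPolynomial.sumAlgEquiv R (Fin k) (Fin n))

theorem rel_iff_of_equiv [Algebra R A] {T : Type u} [CommRing T] [Algebra R T] {N : ℕ}
    (e : MvPolynomial (Fin N) R ≃ₐ[R] T) (γ : T →+* A)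
    (hR : ∀ r, γ (algebraMap R T r) = algebraMap R A r) (hγ : Function.Surjective γ) {m : ℤ} {K : Dual.D A} :
    DerCA.IsRelPseudoCoherent R A m K ↔ Pc γ m K := by
  let γ' : T →ₐ[R] A := { γ with commutes' := hR }
  refine (rel_iff (γ'.comp e.toAlgHom) (hγ.comp e.surjective)).trans ?_
  exact Pc.equiv_iff e.toRingEquiv γ (RingHom.ext fun _ => rfl) K

theorem PCHom.poly_map (φ : A →+* B) (h : PCHom φ) (k : ℕ) :
    PCHom (MvPolynomial.map φ : MvPolynomial (Fin k) A →+* MvPolynomial (Fin k) B) := by
  letI := φ.toAlgebra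
  have h' : PCHom (algebraMap A B) := h
  have hfl : (algebraMap A (MvPolynomial (Fin k) A)).Flat := RingHom.flat_algebraMap_iff.mpr inferInstance
  have := PCHom.baseChange (A := A) (A' := MvPolynomial (Fin k) A) (S := B) (S' := MvPolynomial (Fin k) B) hfl h'
  exact this

/-- intermediate base -/
theorem intermediate [Algebra R A] [Algebra A B] [Algebra R B] [IsScalarTower R A B] [Algebra.FiniteType R A]
    [Algebra.FiniteType A B] (hA : DerCA.IsRelPseudoCoherentModuleAll R A A) (K : Dual.D B) (m : ℤ) :
    DerCA.IsRelPseudoCoherent A B m K ↔ DerCA.IsRelPseudoCoherent R B m K := by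
  obtain ⟨n, α, hα⟩ := exists_presentation R A
  obtain ⟨k, β, hβ⟩ := exists_presentation A B
  have hα' : PCHom (α : MvPolynomial (Fin n) R →+* A) :=
    PCHom.of_forall fun i => (rel_iff α hα).1 (hA i)
  have hmap := PCHom.poly_map _ hα' k
  rw [rel_iff β hβ, rel_iff_of_equiv (doubleEquiv R k n)
    ((β : MvPolynomial (Fin k) A →+* B).comp (MvPolynomial.map (α : MvPolynomial (Fin n) R →+* A)))
    (fun r => by
      rw [IsScalarTower.algebraMap_apply R (MvPolynomial (Fin n) R) (MvPolynomial (Fin k) (MvPolynomial (Fin n) R))]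
      simp [IsScalarTower.algebraMap_apply R A B]) (hβ.comp (MvPolynomial.map_surjective _ hα)),
    Pc.comp_iff _ _ rfl, ← hmap.pc_iff]

/-- the presentation of a localization -/
noncomputable def awayHom (g : A) : MvPolynomial (Fin 1) A →+* Localization.Away g :=
  ((Localization.awayEquivAdjoin g).symm : AdjoinRoot (Polynomial.C g * Polynomial.X - 1) →+*
      Localization.Away g).comp
    ((AdjoinRoot.mk (Polynomial.C g * Polynomial.X - 1)).comp
      ((MvPolynomial.uniqueAlgEquiv A (Fin 1)).toRingEquiv : MvPolynomial (Fin 1) A →+* Polynomial A))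

theorem awayHom_C (g : A) (r : A) :
    awayHom g (MvPolynomial.C r) = algebraMap A (Localization.Away g) r := by
  simp only [awayHom, RingHom.comp_apply]
  have h1 : (MvPolynomial.uniqueAlgEquiv A (Fin 1)).toRingEquiv (MvPolynomial.C r) = Polynomial.C r :=
    (MvPolynomial.uniqueAlgEquiv A (Fin 1)).commutes r
  rw [RingEquiv.coe_toRingHom, h1]
  exact (Localization.awayEquivAdjoin g).symm.commutes r

theorem awayHom_surjective (g : A) : Function.Surjective (awayHom g) :=
  (Localization.awayEquivAdjoin g).symm.surjective.comp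
    (AdjoinRoot.mk_surjective.comp (MvPolynomial.uniqueAlgEquiv A (Fin 1)).surjective)

theorem PCHom.awayHom (g : A) : PCHom (awayHom g) := by
  have hx : ∀ a b : Polynomial A, (Polynomial.C g * Polynomial.X - 1) * a =
      (Polynomial.C g * Polynomial.X - 1) * b → a = b := fun a b h => by
    rw [← sub_eq_zero]
    generalize hq : a - b = q
    have hq0 : (Polynomial.C g * Polynomial.X - 1) * q = 0 := by
      rw [← hq, mul_sub, h, sub_self]
    rw [sub_mul, one_mul, sub_eq_zero, mul_assoc] at hq0
    ext i
    induction i with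
    | zero => rw [← hq0, Polynomial.coeff_C_mul, Polynomial.coeff_X_mul_zero, mul_zero, Polynomial.coeff_zero]
    | succ i ih => rw [← hq0]; simp [ih]
  exact ((PCHom.ringEquiv (MvPolynomial.uniqueAlgEquiv A (Fin 1)).toRingEquiv).comp
    (PCHom.of_regular _ hx AdjoinRoot.mk_surjective fun _ => AdjoinRoot.mk_eq_zero)).comp
      (PCHom.ringEquiv (Localization.awayEquivAdjoin g).symm.toRingEquiv)

theorem away_surjective {P : Type u} [CommRing P] (φ : P →+* A) (hφ : Function.Surjective φ) (g : P) {f : A}
    (hf : φ g = f) : ∃ ψ : Localization.Away g →+* Localization.Away f,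
      ψ.comp (algebraMap P _) = (algebraMap A _).comp φ ∧ Function.Surjective ψ := by
  subst hf
  refine ⟨IsLocalization.map (Localization.Away (φ g)) φ (M := Submonoid.powers g)
    (T := Submonoid.powers (φ g)) ?_, IsLocalization.map_comp _, fun z => ?_⟩
  · rintro _ ⟨k, rfl⟩
    exact ⟨k, (map_pow φ g k).symm⟩
  obtain ⟨a, ⟨_, k, rfl⟩, rfl⟩ := IsLocalization.exists_mk'_eq (Submonoid.powers (φ g)) z
  obtain ⟨p, rfl⟩ := hφ a
  refine ⟨IsLocalization.mk' _ p (⟨g ^ k, Submonoid.mem_powers_iff _ _ |>.2 ⟨k, rfl⟩⟩ : Submonoid.powers g), ?_⟩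
  rw [IsLocalization.map_mk']
  congr 1
  exact Subtype.ext (map_pow φ g k)

variable {P : Type u} [CommRing P]

/-- localization commutes with restriction -/
theorem Pc.loc_iff (φ : P →+* A) (hφ : Function.Surjective φ) (g : P) {f : A} (hf : φ g = f)
    (ψ : Localization.Away g →+* Localization.Away f)
    (hψ : ψ.comp (algebraMap P _) = (algebraMap A _).comp φ) (K : DRing.Cx A) (m : ℤ) :
    Pc ψ m (DRing.toD ((bcCx (algebraMap A (Localization.Away f))).obj K)) ↔
      DRing.IsPseudoCoherent (Localization.Away g) m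
        (DRing.toD ((bcCx (algebraMap P (Localization.Away g))).obj ((DRing.restrictCx φ).obj K))) := by
  subst hf
  letI : Algebra P A := φ.toAlgebra
  letI : Algebra (Localization.Away g) (Localization.Away (φ g)) := ψ.toAlgebra
  haveI : IsScalarTower P (Localization.Away g) (Localization.Away (φ g)) :=
    IsScalarTower.of_algebraMap_eq fun x => ((RingHom.congr_fun hψ x).trans (IsScalarTower.algebraMap_apply P A (Localization.Away (φ g)) x).symm).symm
  haveI : IsLocalization (Algebra.algebraMapSubmonoid A (Submonoid.powers g)) (Localization.Away (φ g)) := by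
    rw [show Algebra.algebraMapSubmonoid A (Submonoid.powers g) = Submonoid.powers (φ g) from
      Submonoid.map_powers _ _]
    infer_instance
  haveI : Algebra.IsPushout P (Localization.Away g) A (Localization.Away (φ g)) :=
    (Algebra.isPushout_of_isLocalization (R := P) (A := Localization.Away g) (Submonoid.powers g) A
      (Localization.Away (φ g))).symm
  let e : (bcCx (algebraMap P (Localization.Away g))).obj ((DRing.restrictCx (algebraMap P A)).obj K) ≅
      (DRing.restrictCx (algebraMap (Localization.Away g) (Localization.Away (φ g)))).obj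
        ((bcCx (algebraMap A (Localization.Away (φ g)))).obj K) :=
    HomologicalComplex.Hom.isoOfComponents
      (fun i => (extResNat P (Localization.Away g) A (Localization.Away (φ g))).app (K.X i))
      (fun i j _ => ((extResNat P (Localization.Away g) A (Localization.Away (φ g))).hom.naturality (K.d i j)).symm)
  exact ⟨fun h => pc_of_iso (resQ _ _ ≪≫ DerivedCategory.Q.mapIso e.symm) h,
    fun h => pc_of_iso (DerivedCategory.Q.mapIso e ≪≫ (resQ _ _).symm) h⟩

/-- pseudo-coherence along a surjection is local -/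
theorem Pc.local (φ : P →+* A) (hφ : Function.Surjective φ) (K : DRing.Cx A) (m : ℤ) {r : ℕ} (f : Fin r → A)
    (hf : Ideal.span (Set.range f) = ⊤) (g : Fin r → P) (hg : ∀ i, φ (g i) = f i)
    (h : ∀ i, ∀ ψ : Localization.Away (g i) →+* Localization.Away (f i),
      ψ.comp (algebraMap P _) = (algebraMap A _).comp φ →
      Pc ψ m (DRing.toD ((bcCx (algebraMap A (Localization.Away (f i)))).obj K))) :
    Pc φ m (DRing.toD K) := by
  have h1 : (1 : A) ∈ Ideal.map φ (Ideal.span (Set.range g)) := by
    rw [Ideal.map_span, ← Set.range_comp, show φ ∘ g = f from funext hg, hf]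
    trivial
  obtain ⟨x, hx, hx1⟩ := (Ideal.mem_map_iff_of_surjective _ hφ).1 h1
  let G : Fin (r + 1) → P := Fin.cons (1 - x) g
  have hG : Ideal.span (Set.range G) = ⊤ := by
    rw [Ideal.eq_top_iff_one, show (1 : P) = (1 - x) + x by ring]
    refine add_mem (Ideal.subset_span ⟨0, rfl⟩) (Ideal.span_mono ?_ hx)
    rintro _ ⟨i, rfl⟩
    exact ⟨i.succ, rfl⟩
  refine pc_of_iso (resQ φ K).symm (pc_of_local hG _ m fun i => ?_)
  refine Fin.cases ?_ (fun j => ?_) i
  · obtain ⟨ψ, hψ, -⟩ := away_surjective φ hφ (G 0) (f := (0 : A)) (by simp [G, hx1])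
    refine (Pc.loc_iff φ hφ _ (by simp [G, hx1]) ψ hψ K m).1 ?_
    haveI : Subsingleton (Localization.Away (0 : A)) :=
      IsLocalization.subsingleton (M := Submonoid.powers (0 : A)) (Submonoid.mem_powers 0)
    refine pc_mono (show (m - 1) + 1 ≤ m by omega) (pc_of_LEH fun i _ => (HH i).map_isZero
      ((DRing.restrictD ψ).map_isZero ?_))
    rw [IsZero.iff_id_eq_zero, ← DerivedCategory.Q.map_id, ← DerivedCategory.Q.map_zero]
    congr 1
    ext i : 1
    haveI := Module.subsingleton (Localization.Away (0 : A))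
      (((bcCx (algebraMap A (Localization.Away (0 : A)))).obj K).X i)
    exact (ModuleCat.isZero_of_subsingleton _).eq_of_src _ _
  · obtain ⟨ψ, hψ, -⟩ := away_surjective φ hφ (g j) (hg j)
    exact (Pc.loc_iff φ hφ (g j) (hg j) ψ hψ K m).1 (h j ψ hψ)

/-- relative pseudo-coherence of a localization -/
theorem rel_away [Algebra R A] {n : ℕ} (α : MvPolynomial (Fin n) R →ₐ[R] A) (hα : Function.Surjective α)
    (g : MvPolynomial (Fin n) R) {f : A} (hg : α g = f)
    (ψ : Localization.Away g →+* Localization.Away f)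
    (hψ : ψ.comp (algebraMap (MvPolynomial (Fin n) R) _) =
      (algebraMap A _).comp (α : MvPolynomial (Fin n) R →+* A))
    (L : Dual.D (Localization.Away f)) (m : ℤ) :
    DerCA.IsRelPseudoCoherent R (Localization.Away f) m L ↔ Pc ψ m L := by
  have hs : Function.Surjective ψ := by
    obtain ⟨ψ', h1, h2⟩ := away_surjective (α : MvPolynomial (Fin n) R →+* A) hα g hg
    have : ψ = ψ' := IsLocalization.ringHom_ext (Submonoid.powers g) (hψ.trans h1.symm)
    exact this ▸ h2
  rw [rel_iff_of_equiv (doubleEquiv R 1 n) (ψ.comp (awayHom g)) (fun r => ?_)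
    (hs.comp (awayHom_surjective g)), Pc.comp_iff _ _ rfl, ← (PCHom.awayHom g).pc_iff]
  rw [IsScalarTower.algebraMap_apply R (MvPolynomial (Fin n) R) (MvPolynomial (Fin 1) (MvPolynomial (Fin n) R)),
    MvPolynomial.algebraMap_eq, RingHom.comp_apply, awayHom_C]
  have := RingHom.congr_fun hψ (algebraMap R (MvPolynomial (Fin n) R) r)
  simp only [RingHom.comp_apply] at this
  rw [this, IsScalarTower.algebraMap_apply R A (Localization.Away f)]
  exact congrArg _ (α.commutes r)

theorem localization_forward [Algebra R A] [Algebra.FiniteType R A] (K : DRing.Cx A) (m : ℤ) (f : A)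
    (h : DerCA.IsRelPseudoCoherent R A m (DRing.toD K)) :
    DerCA.IsRelPseudoCoherent R (Localization.Away f) m
      (DRing.toD ((bcCx (algebraMap A (Localization.Away f))).obj K)) := by
  obtain ⟨n, α, hα⟩ := exists_presentation R A
  obtain ⟨g, hg⟩ := hα f
  obtain ⟨ψ, hψ, -⟩ := away_surjective (α : MvPolynomial (Fin n) R →+* A) hα g hg
  rw [rel_away α hα g hg ψ hψ, Pc.loc_iff _ hα g hg ψ hψ]
  exact pc_ext_flat _ (RingHom.flat_algebraMap_iff.mpr inferInstance)
    (pc_of_iso (resQ _ K) ((rel_iff α hα).1 h))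

theorem localization_iff [Algebra R A] [Algebra.FiniteType R A] (K : DRing.Cx A) (m : ℤ) {r : ℕ} (f : Fin r → A)
    (hf : Ideal.span (Set.range f) = ⊤) :
    DerCA.IsRelPseudoCoherent R A m (DRing.toD K) ↔
      ∀ i, DerCA.IsRelPseudoCoherent R (Localization.Away (f i)) m
        (DRing.toD ((bcCx (algebraMap A (Localization.Away (f i)))).obj K)) := by
  refine ⟨fun h i => localization_forward K m (f i) h, fun h => ?_⟩
  obtain ⟨n, α, hα⟩ := exists_presentation R A
  choose g hg using fun i => hα (f i)
  exact (rel_iff α hα).2 (Pc.local _ hα K m f hf g hg fun i ψ hψ =>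
    (rel_away α hα (g i) (hg i) ψ hψ _ m).1 (h i))

/-- relative to a localization of the base -/
theorem rel_of_away (f : R) [Algebra R A] [Algebra (Localization.Away f) A]
    [IsScalarTower R (Localization.Away f) A] {m : ℤ} {K : Dual.D A}
    (h : DerCA.IsRelPseudoCoherent (Localization.Away f) A m K) : DerCA.IsRelPseudoCoherent R A m K := by
  obtain ⟨n, β, hβ, hp⟩ := h
  rw [rel_iff_of_equiv (doubleEquiv R n 1)
    ((β : MvPolynomial (Fin n) (Localization.Away f) →+* A).comp (MvPolynomial.map (awayHom f)))
    (fun r => ?_) (hβ.comp (MvPolynomial.map_surjective _ (awayHom_surjective f))),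
    Pc.comp_iff _ _ rfl, ← (PCHom.poly_map _ (PCHom.awayHom f) n).pc_iff]
  · exact hp
  · rw [IsScalarTower.algebraMap_apply R (MvPolynomial (Fin 1) R) (MvPolynomial (Fin n) (MvPolynomial (Fin 1) R)),
      MvPolynomial.algebraMap_eq, RingHom.comp_apply, MvPolynomial.map_C, MvPolynomial.algebraMap_eq, awayHom_C,
      IsScalarTower.algebraMap_apply R (Localization.Away f) A]
    exact β.commutes _

end Groth.L10.RelPC
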