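import Groth.Agent.L29.DCoh.Gen.Amp

/-!
The amplitude of `Rf_*` from a vanishing bound on quasi-coherent modules.
-/

set_option autoImplicit false
set_option linter.style.haveILetI false
set_option backward.defeqAttrib.useBackward true
set_option backward.isDefEq.respectTransparency false
set_option backward.isDefEq.respectTransparency.types false

universe u

open CategoryTheory CategoryTheory.Limits AlgebraicGeometry DerivedCategory

attribute [local instance] HasDerivedCategory.standard

namespace Groth.L10.RelPC.RpushBound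

open Groth.L29.DC

variable {X S : Scheme.{u}} (f : X ⟶ S) [QuasiCompact f] [QuasiSeparated f] [CompactSpace S] [DCoh.HasRpush f]

theorem isLE_Rpush (N : ℕ)
    (hN : ∀ M : X.Modules, Coh.IsQCoh M → ∀ i : ℤ, (N : ℤ) < i → IsZero (DCoh.HD ((DCoh.Rpush f).obj (DCoh.inD X M)) i))
    (E : DCoh.D X) (hE : DCoh.IsQCohD E) (m : ℤ) (hm : E.IsLE m) :
    ((DCoh.Rpush f).obj E).IsLE (m + N) := by
  haveI : HasInjectiveResolutions X.Modules := Groth.L17.PushQCoh.hasInjectiveResolutions X
  haveI := QRlim.enoughKInj X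
  haveI : HasInjectiveResolutions (ModSite.Mod X.sheaf) := ‹HasInjectiveResolutions X.Modules›
  haveI : EnoughInjectives X.Modules := (ModRDer.insts X.sheaf).1
  letI := Gen.commShiftRpush f
  obtain ⟨N₀, hN₀⟩ := RpushQC.exists_bound f
  have hN' : ∀ (M : X.Modules), Coh.IsQCoh M → ∀ p : ℕ, N + 1 ≤ p → IsZero ((Coh.Rpush f p).obj M) := by
    intro M hM p hp
    obtain ⟨-, -, h3⟩ := RDerBound.single_H (F := Scheme.Modules.pushforward f)
      ((DCoh.pushKh f).totalRightDerivedUnit DerivedCategory.Qh (HomotopyCategory.quasiIso X.Modules (ComplexShape.up ℤ)))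
      0 M N₀ (fun q hq => hN₀ M hM q (by omega))
    exact (hN M hM ((0 : ℤ) + p) (by omega)).of_iso (h3 p).some.symm
  let t := DerivedCategory.TStructure.t (C := X.Modules)
  haveI : t.IsLE E m := hm
  have h0 : DerivedCategory.IsLE (E⟦m⟧) 0 := t.isLE_shift E m m 0 (by omega)
  have hF : ((DCoh.Rpush f).obj (E⟦m⟧)).IsLE (N : ℤ) := (DerivedCategory.isLE_iff _ _).2 fun i hi =>
    RpushQC.isZero_HD_Rpush f (N + 1) hN' _ (Gen.isQCohD_shift hE m) h0 i (by push_cast; omega)
  haveI hF' : (DerivedCategory.TStructure.t (C := S.Modules)).IsLE (((DCoh.Rpush f).obj E)⟦m⟧) (N : ℤ) :=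
    haveI : (DerivedCategory.TStructure.t (C := S.Modules)).IsLE ((shiftFunctor (DCoh.D X) m ⋙ DCoh.Rpush f).obj E) (N : ℤ) := hF
    (DerivedCategory.TStructure.t).isLE_of_iso (((DCoh.Rpush f).commShiftIso m).app E) _
  exact (DerivedCategory.TStructure.t (C := S.Modules)).isLE_of_shift _ (m + N) m N (by omega)

end Groth.L10.RelPC.RpushBound
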