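import Groth.Agent.S6235
import Groth.Agent.L29.DCoh.PCNoeth
import Groth.Agent.L29.DCoh.RpushCoh
import Groth.Agent.L10.RelPC.RpushBound
import Groth.Agent.L16.HomSh.FullyFaithful
import Groth.Agent.L29.DCoh.RHomCoh
import Groth.Agent.L22.ExtSh.TwistDual

/-!
Direct images of relatively pseudo-coherent objects along proper morphisms to Noetherian schemes.
-/

set_option autoImplicit false
set_option linter.style.haveILetI false
set_option backward.defeqAttrib.useBackward true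
set_option backward.isDefEq.respectTransparency false
set_option backward.isDefEq.respectTransparency.types false

universe u

open CategoryTheory CategoryTheory.Limits AlgebraicGeometry

attribute [local instance] HasDerivedCategory.standard

namespace Groth.L10.RelPC.PushCoh

open Groth.L29.DC

variable {X Y : Scheme.{u}}

theorem isQCohD_inD (M : X.Modules) (hM : Coh.IsQCoh M) : DCoh.IsQCohD (DCoh.inD X M) := fun i => by
  rcases eq_or_ne i 0 with rfl | hi
  · exact isQCoh_of_iso' ((DerivedCategory.singleFunctorCompHomologyFunctorIso X.Modules 0).app M).symm hM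
  · refine isQCoh_of_isZero ?_
    rcases lt_or_gt_of_ne hi with h | h
    · exact DerivedCategory.isZero_of_isGE _ 0 i h
    · exact DerivedCategory.isZero_of_isLE _ 0 i h

theorem exists_chart_affine {f : X ⟶ Y} {m : ℤ} {K : DCoh.D X} (hK : DerSch.IsPseudoCoherentRel f m K) (x : X) :
    ∃ (V : Y.Opens) (U : X.Opens) (n : ℕ) (φ : MvPolynomial (Fin n) Γ(Y, V) →+* Γ(X, U)),
      x ∈ U ∧ IsAffineOpen V ∧ IsAffineOpen U ∧ Function.Surjective φ ∧ DerSch.ChartPC m K U V φ := by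
  obtain ⟨-, 𝒱, h𝒱, h⟩ := hK
  obtain ⟨V, hV⟩ := TopologicalSpace.Opens.mem_iSup.1 (show f x ∈ (⨆ V ∈ 𝒱, (V : Y.Opens)) by rw [h𝒱]; trivial)
  obtain ⟨hV𝒱, hxV⟩ := TopologicalSpace.Opens.mem_iSup.1 hV
  obtain ⟨𝒰, h𝒰, h'⟩ := h V hV𝒱
  obtain ⟨U, hU⟩ := TopologicalSpace.Opens.mem_iSup.1
    (show x ∈ (⨆ U ∈ 𝒰, (U : X.Opens)) by rw [h𝒰]; exact hxV)
  obtain ⟨hU𝒰, hxU⟩ := TopologicalSpace.Opens.mem_iSup.1 hU
  obtain ⟨n, φ, hc, hp⟩ := h' U hU𝒰 (h𝒰 ▸ le_iSup₂_of_le U hU𝒰 le_rfl)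
  exact ⟨V, U, n, φ, hxU, V.2, U.2, hc.1, hp⟩

/-- pseudo-coherent relative to a locally Noetherian base: coherent cohomology -/
theorem isCohD_of_relAll [IsLocallyNoetherian Y] (f : X ⟶ Y) [LocallyOfFiniteType f] (E : DCoh.D X)
    (hE : DerSch.IsPseudoCoherentRelAll f E) : DCoh.IsCohD E := by
  haveI : IsLocallyNoetherian X := LocallyOfFiniteType.isLocallyNoetherian f
  have hq : DCoh.IsQCohD E := Groth.Agent.S6235.result f E hE
  intro i
  refine RHomC.isCoh_of_cover fun x => ?_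
  obtain ⟨V, U, n, φ, hx, hV, hU, hφ, h⟩ := exists_chart_affine (hE i) x
  refine ⟨U, hx, ?_⟩
  haveI := Groth.L29.KSix.isClosedImmersion_chartImm hU hφ
  haveI : IsNoetherianRing Γ(Y, V) := IsLocallyNoetherian.component_noetherian ⟨V, hV⟩
  let e : DCoh.toD X (DerivedCategory.Q.objPreimage E) ≅ E := DerivedCategory.Q.objObjPreimageIso E
  obtain ⟨a⟩ := Groth.L29.KSix.nonempty_HD_push (φ := φ) _ e i
  refine Groth.L22.ExtSh.isCoh_of_push (DerSch.chartImm U φ)
    (Groth.L16.CohSupport.isCoh_of_iso a (PCNoeth.coh_of_pc (fun k => ?_) (h _ ⟨e⟩) i le_rfl))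
  obtain ⟨b⟩ := Groth.L29.KSix.nonempty_HD_push (φ := φ) _ e k
  haveI : Coh.IsQCoh (DCoh.HD E k) := hq k
  haveI : Coh.IsQCoh ((DCoh.HD E k).restrict U.ι) :=
    Scheme.Modules.isQuasicoherent_restrictFunctor U.ι (DCoh.HD E k)
  exact isQCoh_of_iso' b.symm (Groth.L16.QcqsPush.isQCoh_push _ (DerSch.chartImm U φ))

/-- proper direct images over a Noetherian base are pseudo-coherent -/
theorem pc_Rpush [IsNoetherian Y] (f : X ⟶ Y) [IsProper f] [DCoh.HasRpush f] (E : DCoh.D X) (a b : ℤ)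
    [E.IsGE a] [E.IsLE b] (hE : DerSch.IsPseudoCoherentRelAll f E) (m : ℤ) :
    DCoh.IsPseudoCoherentD m ((DCoh.Rpush f).obj E) := by
  haveI := Groth.L17.PushQCoh.hasInjectiveResolutions X
  haveI : CompactSpace X := QuasiCompact.compactSpace_of_compactSpace f
  haveI : IsLocallyNoetherian X := LocallyOfFiniteType.isLocallyNoetherian f
  have hc := isCohD_of_relAll f E hE
  have hcoh : DCoh.IsCohD ((DCoh.Rpush f).obj E) := RpushCoh.isCohD_Rpush f E a hc fun i =>
    Groth.L16.HomSh.isProperOver_mono f (Z := Set.univ) ⟨isClosed_univ, inferInstance⟩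
      (Groth.L16.CohSupport.isClosed_support _ (hc i).2) (Set.subset_univ _)
  obtain ⟨N, hN⟩ := RpushQC.exists_bound f
  have hN' : ∀ M : X.Modules, Coh.IsQCoh M → ∀ i : ℤ, (N : ℤ) < i →
      IsZero (DCoh.HD ((DCoh.Rpush f).obj (DCoh.inD X M)) i) := fun M hM i hi =>
    RpushQC.isZero_HD_Rpush f N hN _ (isQCohD_inD M hM) inferInstance i hi.le
  haveI := RpushBound.isLE_Rpush f N hN' E (fun i => (hc i).1) b inferInstance
  exact PCNoeth.pc_of_coh (fun i => (hcoh i).1) m (b + N) fun i _ => hcoh i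

end Groth.L10.RelPC.PushCoh
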