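import Groth.Agent.L10.RelPC.PcTensorCx
import Groth.Agent.L02.PC.Finite
import Groth.Agent.L02.PC.Local
import Groth.Agent.L10.DRing.KFlatLBC

/-!
Tensor products of pseudo-coherent complexes with degree bounds.
-/

set_option autoImplicit false
set_option linter.style.haveILetI false
set_option backward.defeqAttrib.useBackward true
set_option backward.isDefEq.respectTransparency false
set_option backward.isDefEq.respectTransparency.types false

universe u

open CategoryTheory CategoryTheory.Limits CategoryTheory.Pretriangulated MonoidalCategory CochainComplex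

attribute [local instance] HasDerivedCategory.standard

namespace Groth.L10.RelPC.PcTensorMax

open Groth.L02.PC

/-- a free module mapping onto the top homology -/
theorem exists_top_map {A : Type u} [CommRing A] (C : DRing.Cx A) (n : ℤ) [Module.Finite A (C.homology n)]
    (h : ∀ i, n < i → IsZero (C.homology i)) :
    ∃ (k : ℕ) (φ : (HomologicalComplex.single (ModuleCat.{u} A) (ComplexShape.up ℤ) n).obj
      (ModuleCat.of A (Fin k → A)) ⟶ C), ∀ i, n ≤ i → IsZero ((mappingCone φ).homology i) := by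
  have : Module.Finite A (cyc C n ⧸ LinearMap.range (C.sc' (n - 1) n (n + 1)).moduleCatToCycles) :=
    Module.Finite.equiv (homologyEquiv C n)
  obtain ⟨k, π, hπ⟩ := Module.Finite.exists_fin' A
    (cyc C n ⧸ LinearMap.range (C.sc' (n - 1) n (n + 1)).moduleCatToCycles)
  obtain ⟨σ, hσ⟩ := Module.projective_lifting_property
    (LinearMap.range (C.sc' (n - 1) n (n + 1)).moduleCatToCycles).mkQ π (Submodule.mkQ_surjective _)
  let E : DRing.Cx A := (HomologicalComplex.single _ _ n).obj (ModuleCat.of A (Fin k → A))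
  let φ : E ⟶ C := HomologicalComplex.mkHomFromSingle
    (ModuleCat.ofHom ((cyc C n).subtype.comp σ)) (fun j hj => by
      simp only [ComplexShape.up_Rel] at hj
      subst hj
      refine ModuleCat.hom_ext (LinearMap.ext fun x => ?_)
      exact (σ x).2)
  have hE : DRing.VanishesOutside E n n := fun i hi =>
    HomologicalComplex.isZero_single_obj_X _ _ _ _ (by omega)
  refine ⟨k, φ, ?_⟩
  intro i hi
  rw [← coneExact_iff φ (i - 1) i (i + 1) (i + 2) (by omega) rfl (by omega)]
  intro p x _ hx
  have hp : p = 0 := by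
    have := ModuleCat.subsingleton_of_isZero (hE (i + 1) (by omega))
    exact Subsingleton.elim _ _
  rw [hp, map_zero] at hx
  rcases eq_or_lt_of_le hi with rfl | hi'
  · obtain ⟨c, hc⟩ := hπ (Submodule.Quotient.mk ⟨x, hx.symm⟩)
    rw [← hσ] at hc
    change (LinearMap.range (C.sc' (n - 1) n (n + 1)).moduleCatToCycles).mkQ (σ c) = _ at hc
    obtain ⟨y, hy⟩ := (Submodule.Quotient.eq _).1 hc.symm
    have hy' : C.d (n - 1) n y = x - ((cyc C n).subtype.comp σ) c := congrArg Subtype.val hy
    refine ⟨(HomologicalComplex.singleObjXSelf (ComplexShape.up ℤ) n (ModuleCat.of A (Fin k → A))).inv c, y, ?_, ?_⟩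
    · rw [hp]
      have := ModuleCat.subsingleton_of_isZero (hE (n + 1) (by omega))
      exact Subsingleton.elim _ _
    · show (φ.f n).hom _ + _ = x
      rw [HomologicalComplex.mkHomFromSingle_f]
      show ((cyc C n).subtype.comp σ)
        ((HomologicalComplex.singleObjXSelf (ComplexShape.up ℤ) n (ModuleCat.of A (Fin k → A))).hom.hom
          ((HomologicalComplex.singleObjXSelf (ComplexShape.up ℤ) n (ModuleCat.of A (Fin k → A))).inv.hom c)) +
        _ = x
      erw [Iso.inv_hom_id_apply]
      rw [hy', add_sub_cancel]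
  · obtain ⟨y, hy⟩ := (range_eq_cyc (h i hi')).ge (show x ∈ cyc C i from hx.symm)
    refine ⟨0, y, ?_, ?_⟩
    · rw [hp, map_zero]
    · rw [map_zero, zero_add]; exact hy

variable {Q T : Type u} [CommRing Q] [CommRing T] (ψ : Q →+* T)

open Groth.L10.KFlat in
set_option maxHeartbeats 800000 in
/-- tensoring with a pseudo-coherent complex, with bounds -/
theorem pc_tensor_max {C : DRing.Cx T} (hCf : DRing.TermwiseFlat C) {d : ℤ} (hCb : DRing.VanishesAbove C d)
    {c : ℤ} (hC : Pc ψ c (DRing.toD C)) {a b m : ℤ} (P : DRing.Cx T) (hPb : DRing.VanishesAbove P b)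
    (hPf : DRing.TermwiseFlat P) (hP : DRing.IsPseudoCoherent T a (DRing.toD P))
    (h1 : a + d ≤ m) (h2 : c + b ≤ m) : Pc ψ m (DRing.toD ((KFlat.T C).obj P)) := by
  have hCk : DRing.IsKFlat T C := of_bounded C d hCb hCf
  suffices ∀ (k : ℕ) (b : ℤ) (P : DRing.Cx T), DRing.VanishesAbove P b → DRing.TermwiseFlat P →
      DRing.IsPseudoCoherent T a (DRing.toD P) → b < a + k → c + b ≤ m →
      Pc ψ m (DRing.toD ((KFlat.T C).obj P)) from
    this (b + 1 - a).toNat b P hPb hPf hP (by omega) h2
  intro k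
  induction k with
  | zero =>
    intro b P hPb _ _ hb _
    have hz : DRing.VanishesAbove (C ⊗ P) (a + d - 1) := fun i hi =>
      Groth.L10.AmpTest.isZero_tensor_X C P i fun p q hpq => by
        by_cases hp : d < p
        · exact Or.inl (hCb p hp)
        · exact Or.inr (hPb q (by omega))
    exact pc_mono (show a + d - 1 + 1 ≤ m by omega) (pc_of_LEH (Pc.LEH fun i hi =>
      (isZero_HH_Q_iff _ i).2 (Groth.L10.AmpTest.isZero_homology_of_X (hz i hi))))
  | succ k ih =>
    intro b P hPb hPf hP hb hcb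
    by_cases hba : b < a + k
    · exact ih b P hPb hPf hP hba hcb
    have hLEH : LEH (DRing.toD P) b := fun i hi =>
      (isZero_HH_Q_iff P i).2 (Groth.L10.AmpTest.isZero_homology_of_X (hPb i hi))
    haveI : Module.Finite T (P.homology b) := by
      haveI : Module.Finite T ↑((DerivedCategory.Q ⋙ DerivedCategory.homologyFunctor (ModuleCat.{u} T) b).obj P) :=
        pc_finite (pc_mono (show a ≤ b by omega) hP) hLEH
      exact Module.Finite.equiv ((DerivedCategory.homologyFunctorFactors _ b).app P).toLinearEquiv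
    obtain ⟨r, φ, hφ⟩ := exists_top_map P b fun i hi => (isZero_HH_Q_iff P i).1 (hLEH i hi)
    let S : DRing.Cx T := (HomologicalComplex.single (ModuleCat.{u} T) (ComplexShape.up ℤ) b).obj
      (ModuleCat.of T (Fin r → T))
    let S₀ : DRing.Cx T := (HomologicalComplex.single (ModuleCat.{u} T) (ComplexShape.up ℤ) 0).obj
      (ModuleCat.of T (Fin r → T))
    let eS : S₀⟦-b⟧ ≅ S :=
      ((CochainComplex.singleFunctors (ModuleCat.{u} T)).shiftIso (-b) b 0 (by omega)).app _
    let σ := CochainComplex.mappingCone.triangleRotateShortComplexSplitting φ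
    have hSfree : DRing.TermwiseFiniteFree S := fun i => by
      by_cases hi : i = b
      · subst hi
        exact ⟨Module.Finite.equiv (HomologicalComplex.singleObjXSelf _ _ _).symm.toLinearEquiv,
          Module.Free.of_equiv (HomologicalComplex.singleObjXSelf _ _ _).symm.toLinearEquiv⟩
      · have := ModuleCat.subsingleton_of_isZero
          (HomologicalComplex.isZero_single_obj_X (ComplexShape.up ℤ) b (ModuleCat.of T (Fin r → T)) i hi)
        exact ⟨inferInstance, inferInstance⟩
    have hSpc : ∀ n, DRing.IsPseudoCoherent T n (DRing.toD S) :=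
      pc_of_bounded_free (a := b) (b := b)
        (fun i hi => HomologicalComplex.isZero_single_obj_X _ _ _ _ (by omega)) hSfree
    have hconepc : DRing.IsPseudoCoherent T a (DRing.toD (mappingCone φ)) :=
      pc_third _ (mappingCone_distinguished φ) a (hSpc (a + 1)) hP
    obtain ⟨M', hM'b, hM'f, -, ⟨eM⟩⟩ := exists_free_rep (K := DRing.toD (mappingCone φ)) (n := b - 1)
      fun i hi => (isZero_HH_Q_iff _ i).2 (hφ i (by omega))
    have hM'fl : DRing.TermwiseFlat M' := fun i => by
      haveI := hM'f i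
      infer_instance
    obtain ⟨e1⟩ := Groth.L10.AmpTest.test_congr eM hCk
    have hcone : Pc ψ m (DRing.toD ((KFlat.T C).obj (mappingCone φ))) :=
      Pc.of_iso (DerivedCategory.Q.mapIso (_root_.DTen.braidCx C M') ≪≫ e1 ≪≫
        DerivedCategory.Q.mapIso (_root_.DTen.braidCx _ C))
        (ih (b - 1) M' hM'b hM'fl (pc_of_iso eM.symm hconepc) (by omega) (by omega))
    have hfree : Pc ψ c (DRing.toD ((KFlat.T C).obj S₀)) :=
      Pc.of_iso (DerivedCategory.Q.mapIso (Groth.L10.KFlatLBC.singleTensorIso C (ModuleCat.of T (Fin r → T)) ≪≫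
        _root_.DTen.braidCx _ C)) (Pc.tensor_free ψ hCf hC r)
    have hSm : Pc ψ (c + b - 1) (DRing.toD ((KFlat.T C).obj (S⟦(1 : ℤ)⟧))) := by
      have h' := pc_shift hfree (1 - b) (c + b - 1) (by omega)
      let eS' : S₀⟦1 - b⟧ ≅ S⟦(1 : ℤ)⟧ :=
        (CategoryTheory.shiftFunctorAdd' (DRing.Cx T) (-b) 1 (1 - b) (by omega)).app S₀ ≪≫ (CategoryTheory.shiftFunctor (DRing.Cx T) (1 : ℤ)).mapIso eS
      exact Pc.of_iso (((DerivedCategory.Q.commShiftIso (1 - b)).app _).symm ≪≫
        DerivedCategory.Q.mapIso ((CochainComplex.mapBifunctorShift₂Iso C S₀ (curriedTensor (ModuleCat.{u} T)) (1 - b)).symm ≪≫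
          (KFlat.T C).mapIso eS'))
        (pc_of_iso (((DRing.restrictD ψ).commShiftIso (1 - b)).app _).symm h')
    have hSE := Groth.L10.DTen.shortExact_tensorLeft C _ σ
    exact (show m - 1 + 1 = m by omega) ▸
      pc_first _ ((DRing.restrictD ψ).map_distinguished _ (DerivedCategory.triangleOfSES_distinguished hSE)) (m - 1)
        ((show m - 1 + 1 = m by omega).symm ▸ hcone) (pc_mono (by omega) hSm)

section Rel

open Groth.L10.RelPC

variable {R A B : Type u} [CommRing R] [CommRing A] [CommRing B] [Algebra R A] [Algebra A B] [Algebra R B]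
  [IsScalarTower R A B] [Algebra.FiniteType R A] [Algebra.FiniteType A B]

set_option maxHeartbeats 800000 in
/-- pseudo-coherence over the intermediate ring times pseudo-coherence relative to the bottom -/
theorem rel_tensor_max (E : DRing.Cx B) {a b c : ℤ} (hE : DerCA.IsRelPseudoCoherent A B a (DRing.toD E))
    (hEb : Groth.L02.PC.LEH (DRing.toD E) b) (F : DRing.Cx A)
    {d : ℤ} (hFb : DRing.VanishesAbove F d) (hFf : DRing.TermwiseFlat F)
    (hF : DerCA.IsRelPseudoCoherent R A c (DRing.toD F)) {m : ℤ} (h1 : a + d ≤ m) (h2 : c + b ≤ m) :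
    DerCA.IsRelPseudoCoherent R B m (DRing.toD ((_root_.DTen.extCx (algebraMap A B)).obj F ⊗ E)) := by
  obtain ⟨n, α, hα⟩ := exists_presentation R A
  obtain ⟨k, β, hβ⟩ := exists_presentation A B
  letI : Algebra (MvPolynomial (Fin k) A) B := (β : MvPolynomial (Fin k) A →+* B).toAlgebra
  haveI : IsScalarTower A (MvPolynomial (Fin k) A) B := IsScalarTower.of_algebraMap_eq fun a => (β.commutes a).symm
  letI : Algebra (MvPolynomial (Fin n) R) A := (α : MvPolynomial (Fin n) R →+* A).toAlgebra
  letI : Algebra (MvPolynomial (Fin k) (MvPolynomial (Fin n) R)) (MvPolynomial (Fin k) A) :=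
    MvPolynomial.algebraMvPolynomial
  let ψ := algebraMap (MvPolynomial (Fin k) (MvPolynomial (Fin n) R)) (MvPolynomial (Fin k) A)
  have hfl : (algebraMap (MvPolynomial (Fin n) R) (MvPolynomial (Fin k) (MvPolynomial (Fin n) R))).Flat :=
    RingHom.flat_algebraMap_iff.mpr inferInstance
  let C : DRing.Cx (MvPolynomial (Fin k) A) := (bcCx (algebraMap A (MvPolynomial (Fin k) A))).obj F
  have hC : Pc ψ c (DRing.toD C) :=
    Groth.L10.RelPC.Pc.baseChange (A := MvPolynomial (Fin n) R) (A' := MvPolynomial (Fin k) (MvPolynomial (Fin n) R))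
      (S := A) (S' := MvPolynomial (Fin k) A) hfl ((rel_iff α hα).1 hF)
  have hCf : DRing.TermwiseFlat C := fun i => by
    haveI := hFf i
    exact Module.Flat.of_linearEquiv (Groth.L29.FlatBC.extEquiv A (MvPolynomial (Fin k) A) (F.X i))
  have hCb : DRing.VanishesAbove C d := fun i hi =>
    (ModuleCat.extendScalars.{u, u, u} (algebraMap A (MvPolynomial (Fin k) A))).map_isZero (hFb i hi)
  have hCk : DRing.IsKFlat _ C := Groth.L10.KFlat.of_bounded C d hCb hCf
  let τ := algebraMap (MvPolynomial (Fin k) A) B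
  let E' : DRing.Cx (MvPolynomial (Fin k) A) := (_root_.DTen.resCx τ).obj E
  have hE' : DRing.IsPseudoCoherent (MvPolynomial (Fin k) A) a (DRing.toD E') :=
    pc_of_iso (resQ τ E) ((rel_iff β hβ).1 hE)
  obtain ⟨P, hPb, hPf, -, ⟨eP⟩⟩ := exists_free_rep (K := DRing.toD E') (n := b) fun i hi =>
    (isZero_HH_Q_iff E' i).2 ((Groth.L00.KFlatAlg.acyclic_restrictScalars τ E i).2
      ((isZero_HH_Q_iff E i).1 (hEb i hi)))
  have h3 := pc_tensor_max ψ hCf hCb hC P hPb (fun i => by
    haveI := hPf i
    infer_instance) (pc_of_iso eP.symm hE') h1 h2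
  obtain ⟨e1⟩ := Groth.L10.AmpTest.test_congr eP hCk
  let e2 : (_root_.DTen.resCx τ).obj ((_root_.DTen.extCx (algebraMap A B)).obj F ⊗ E) ≅ C ⊗ E' :=
    (_root_.DTen.resCx τ).mapIso (whiskerRightIso
      (eqToIso (by rw [← IsScalarTower.algebraMap_eq A (MvPolynomial (Fin k) A) B]) ≪≫
        (NatIso.mapHomologicalComplex (ModuleCat.extendScalarsComp.{u, u} (algebraMap A (MvPolynomial (Fin k) A)) τ)
          (ComplexShape.up ℤ)).app F) E) ≪≫
      (Groth.L00.BaseChangeTensor.tensorIso τ C E).symm
  refine (rel_iff_of_equiv (doubleEquiv R k n) (τ.comp ψ) (fun r => ?_)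
    (hβ.comp (MvPolynomial.map_surjective _ hα))).2 ?_
  · rw [IsScalarTower.algebraMap_apply R (MvPolynomial (Fin n) R) (MvPolynomial (Fin k) (MvPolynomial (Fin n) R))]
    show β (MvPolynomial.map (α : MvPolynomial (Fin n) R →+* A) (MvPolynomial.C (algebraMap R _ r))) = _
    rw [MvPolynomial.map_C, IsScalarTower.algebraMap_apply R A B]
    exact (β.commutes _).trans (congrArg _ (α.commutes r))
  · exact (Pc.comp_iff ψ τ rfl _).2 (Pc.of_iso (DerivedCategory.Q.mapIso (_root_.DTen.braidCx C P) ≪≫ e1 ≪≫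
      DerivedCategory.Q.mapIso (_root_.DTen.braidCx E' C) ≪≫ DerivedCategory.Q.mapIso e2.symm ≪≫ (resQ _ _).symm) h3)

end Rel

end Groth.L10.RelPC.PcTensorMax
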