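import Groth.Agent.L10.RelPC.TensorPullPC
import Groth.Agent.L10.RelPC.PcTensorMax
import Groth.Agent.L29.DCoh.Amplitude
import Groth.Agent.L00.KFlatDerived

/-!
`Lf^* F ⊗ E` is pseudo-coherent relative to the composite, with bounds.
-/

set_option autoImplicit false
set_option linter.style.haveILetI false
set_option backward.defeqAttrib.useBackward true
set_option backward.isDefEq.respectTransparency false
set_option backward.isDefEq.respectTransparency.types false

universe u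

open CategoryTheory CategoryTheory.Limits AlgebraicGeometry MonoidalCategory

attribute [local instance] HasDerivedCategory.standard

namespace Groth.L10.RelPC.TensorPullMax

open Groth.L29.DC Groth.L29.DC.ClosedPC Groth.L29.RelPC

attribute [local instance] ClosedPC.additive ClosedPC.exactLeft ClosedPC.exactRight

variable {X Y S : Scheme.{u}}

theorem isLE_map {A B : Type (u + 1)} [Category.{u} A] [Category.{u} B] [Abelian A] [Abelian B] (F : A ⥤ B)
    [HasDerivedCategory.{u + 1} A] [HasDerivedCategory.{u + 1} B] [F.Additive] [PreservesFiniteLimits F]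
    [PreservesFiniteColimits F] (K : DerivedCategory A) (q : ℤ) :
    Nonempty ((DerivedCategory.homologyFunctor B q).obj (F.mapDerivedCategory.obj K) ≅
      F.obj ((DerivedCategory.homologyFunctor A q).obj K)) := by
  let e := DerivedCategory.Q.objObjPreimageIso K
  let C := DerivedCategory.Q.objPreimage K
  exact ⟨(DerivedCategory.homologyFunctor B q).mapIso (F.mapDerivedCategory.mapIso e.symm ≪≫
      F.mapDerivedCategoryFactors.app C) ≪≫
    (DerivedCategory.homologyFunctorFactors B q).app _ ≪≫ (C.sc q).mapHomologyIso F ≪≫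
    F.mapIso (((DerivedCategory.homologyFunctorFactors A q).app C).symm ≪≫
      (DerivedCategory.homologyFunctor A q).mapIso e)⟩

/-- bounds on a chart -/
theorem leh_of_tilde {U : X.Opens} (hU : IsAffineOpen U) [PreservesFiniteLimits (tilde.functor Γ(X, U))]
    {K : DCoh.D X} {M : Dual.D Γ(X, U)} (e : (DCoh.tildeD Γ(X, U)).obj M ≅ (DCoh.restrictD hU.fromSpec).obj K)
    {d : ℤ} (hK : K.IsLE d) : Groth.L02.PC.LEH M d := by
  intro i hi
  obtain ⟨a⟩ := isLE_map (Scheme.Modules.restrictFunctor hU.fromSpec) K i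
  obtain ⟨b⟩ := isLE_map (tilde.functor Γ(X, U)) M i
  exact IsZero.of_full_of_faithful_of_isZero (tilde.functor Γ(X, U)) _
    (((Scheme.Modules.restrictFunctor hU.fromSpec).map_isZero (DerivedCategory.isZero_of_isLE K d i hi)).of_iso
      (b.symm ≪≫ (DerivedCategory.homologyFunctor _ i).mapIso e ≪≫ a))

theorem isLE_Lpull (g : X ⟶ Y) [DCoh.HasLpull g] (K : DCoh.D Y) (n : ℤ) (h : K.IsLE n) :
    ((DCoh.Lpull g).obj K).IsLE n := by
  obtain ⟨P, hP, hPk, -, ⟨eP⟩⟩ := exists_flat_representative_le K n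
    (fun i hi => DerivedCategory.isZero_of_isLE _ n i hi)
  haveI := hP
  haveI : (Scheme.Modules.pullback g).Additive :=
    (Scheme.Modules.pullbackPushforwardAdjunction g).left_adjoint_additive
  haveI : ((Groth.L29.DC.PullTensor.pullCx g).obj P).IsStrictlyLE n := (CochainComplex.isStrictlyLE_iff _ _).2 fun i hi =>
    (Scheme.Modules.pullback g).map_isZero (P.isZero_of_isStrictlyLE n i hi)
  haveI : (DCoh.toD X ((Groth.L29.DC.PullTensor.pullCx g).obj P)).IsLE n := inferInstance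
  exact DerivedCategory.TStructure.t.isLE_of_iso ((DCoh.Lpull g).mapIso eP.symm ≪≫
    Groth.L00.DerivedApi.objIso (Groth.L00.DerivedApi.acyclicKFlat_pullback g) P hPk).symm _

variable (f : X ⟶ Y) (g : Y ⟶ S)

set_option maxHeartbeats 1600000 in
theorem rel_tensor_Lpull_max [LocallyOfFiniteType f] [LocallyOfFiniteType g] [DCoh.HasLpull f]
    (E : CochainComplex X.Modules ℤ) [DCoh.HasLTensorCx E] (hEq : DCoh.IsQCohD (DCoh.toD X E))
    {a b c d m : ℤ} (hE : DerSch.IsPseudoCoherentRel f a (DCoh.toD X E)) (hEb : (DCoh.toD X E).IsLE b)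
    {F : DCoh.D Y} (hFq : DCoh.IsQCohD F)
    (hF : DerSch.IsPseudoCoherentRel g c F) (hFb : F.IsLE d) (h1 : a + d ≤ m) (h2 : c + b ≤ m) :
    DerSch.IsPseudoCoherentRel (f ≫ g) m ((DCoh.LTensorCx E).obj ((DCoh.Lpull f).obj F)) := by
  refine rel_of_local fun x => ?_
  obtain ⟨W, V, hWV, hW, hV, hxW⟩ := exists_affine (f x) g
  obtain ⟨_, ⟨U, hU, rfl⟩, hx, hle⟩ := X.isBasis_affineOpens.exists_subset_of_mem_open
    (show x ∈ f ⁻¹ᵁ W from hxW) (f ⁻¹ᵁ W).isOpen
  have hUV : U ≤ (f ≫ g) ⁻¹ᵁ V := hle.trans (f.preimage_mono hWV)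
  refine ⟨U, V, hx, hU, hV, hUV, ?_⟩
  haveI := isClosedImmersion_toSpecΓ hU
  haveI := isClosedImmersion_toSpecΓ hW
  haveI := Groth.L18.TildeF.tilde_preservesFiniteLimits (R := Γ(Y, W))
  haveI := Groth.L18.TildeF.tilde_preservesFiniteLimits (R := Γ(X, U))
  obtain ⟨Mo, ⟨eMo⟩⟩ := exists_module (U := W) hFq
  letI : Algebra Γ(Y, W) Γ(X, U) := (f.appLE W U hle).hom.toAlgebra
  letI : Algebra Γ(S, V) Γ(Y, W) := (g.appLE V W hWV).hom.toAlgebra
  letI : Algebra Γ(S, V) Γ(X, U) := ((f ≫ g).appLE V U hUV).hom.toAlgebra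
  haveI : IsScalarTower Γ(S, V) Γ(Y, W) Γ(X, U) := IsScalarTower.of_algebraMap_eq fun r =>
    (ConcreteCategory.congr_hom (Scheme.Hom.appLE_comp_appLE f g V W U hWV hle) r).symm
  haveI : Algebra.FiniteType Γ(S, V) Γ(Y, W) := g.finiteType_appLE hV hW hWV
  haveI : Algebra.FiniteType Γ(Y, W) Γ(X, U) := f.finiteType_appLE hW hU hle
  haveI : DCoh.HasLpull (Spec.map (f.appLE W U hle)) := Groth.L00.KFlat.hasLpull _
  haveI := LBC.hasLBaseChange (f.appLE W U hle)
  obtain ⟨aW⟩ := nonempty_fromSpec hW F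
  obtain ⟨r⟩ := nonempty_restrict_chart f hW hU hle F
  have hMo : DerCA.IsRelPseudoCoherent Γ(S, V) Γ(Y, W) c Mo :=
    (good_iff_rel hW hV hWV eMo).1 (good_of_rel hF hW hV hWV)
  obtain ⟨n, α, hα⟩ := Groth.L10.RelPC.exists_presentation Γ(S, V) Γ(Y, W)
  have hd : Groth.L02.PC.LEH Mo d := leh_of_tilde hW (eMo ≪≫ aW) hFb
  obtain ⟨Qc, hQb, hQf, -, ⟨eQ⟩⟩ := Groth.L02.PC.exists_free_rep hd
  have hQfl : DRing.TermwiseFlat Qc := fun i => by
    haveI := hQf i
    infer_instance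
  let M : DRing.Cx Γ(X, U) := (_root_.DTen.extCx (algebraMap Γ(Y, W) Γ(X, U))).obj Qc
  have hM : ModRes.IsKFlat (R := Γ(X, U)) M := by
    haveI : CochainComplex.IsStrictlyLE ((ModRes.tCx Γ(X, U)).obj M) d :=
      (CochainComplex.isStrictlyLE_iff _ _).2 fun i hi =>
        (tilde.functor Γ(X, U)).map_isZero ((ModuleCat.extendScalars _).map_isZero (hQb i hi))
    exact Groth.L00.KFlat.of_bounded _ d inferInstance fun i => by
      haveI : Module.Flat Γ(X, U) (M.X i) := by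
        haveI := hQfl i
        exact Module.Flat.of_linearEquiv (Groth.L29.FlatBC.extEquiv Γ(Y, W) Γ(X, U) (Qc.X i))
      exact ModRes.isFlat_tilde (R := Γ(X, U)) _
  let eM : DerivedCategory.Q.obj ((ModRes.tCx Γ(X, U)).obj M) ≅
      (DCoh.restrictD hU.fromSpec).obj ((DCoh.Lpull f).obj F) :=
    ((tilde.functor Γ(X, U)).mapDerivedCategoryFactors.app M).symm ≪≫
      (DCoh.tildeD Γ(X, U)).mapIso ((Groth.L10.KFlatLBC.lbcKF (algebraMap Γ(Y, W) Γ(X, U)) Qc
        (Groth.L10.KFlat.of_bounded Qc d hQb hQfl)).symm ≪≫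
        (DRing.LBaseChange (algebraMap Γ(Y, W) Γ(X, U))).mapIso eQ) ≪≫
      (LBC.tildeDIso (f.appLE W U hle)).app Mo ≪≫
      (DCoh.Lpull (Spec.map (f.appLE W U hle))).mapIso (eMo ≪≫ aW) ≪≫ r
  obtain ⟨N, hN, ⟨eN⟩⟩ := exists_tilde_rep (isQCohD_restrictD hU.fromSpec hEq)
  obtain ⟨bE⟩ := nonempty_fromSpec hU (DCoh.toD X E)
  have hNpc : DerCA.IsRelPseudoCoherent Γ(Y, W) Γ(X, U) a (DRing.toD N) :=
    (good_iff_rel hU hW hle
      ((tilde.functor Γ(X, U)).mapDerivedCategoryFactors.app N ≪≫ eN ≪≫ bE.symm)).1 (good_of_rel hE hU hW hle)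
  have hNb : Groth.L02.PC.LEH (DRing.toD N) b :=
    leh_of_tilde hU ((tilde.functor Γ(X, U)).mapDerivedCategoryFactors.app N ≪≫ eN) hEb
  have hQpc : DerCA.IsRelPseudoCoherent Γ(S, V) Γ(Y, W) c (DRing.toD Qc) :=
    (Groth.L10.RelPC.rel_iff α hα).2 (Groth.L10.RelPC.Pc.of_iso eQ.symm ((Groth.L10.RelPC.rel_iff α hα).1 hMo))
  obtain ⟨t⟩ := TensorPullPC.nonempty_tensor_chart hU E _ M N hM hN eM eN
  obtain ⟨b⟩ := nonempty_fromSpec hU ((DCoh.LTensorCx E).obj ((DCoh.Lpull f).obj F))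
  exact (good_iff_rel (f := f ≫ g) hU hV hUV
    ((tilde.functor Γ(X, U)).mapDerivedCategoryFactors.app _ ≪≫ t ≪≫ b.symm)).2
    (PcTensorMax.rel_tensor_max N hNpc hNb Qc hQb hQfl hQpc h1 h2)

end Groth.L10.RelPC.TensorPullMax
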