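import Groth.Agent.L10.RelPC.Local
import Mathlib.Algebra.Homology.DerivedCategory.ShortExact
import Mathlib.Algebra.Homology.HomologicalComplexAbelian
import Mathlib.RingTheory.Flat.Tensor
import Mathlib.LinearAlgebra.TensorProduct.Pi

/-! Tensoring with a pseudo-coherent module, and base change of relative pseudo-coherence. -/

universe u

open CategoryTheory CategoryTheory.Limits CategoryTheory.Pretriangulated MonoidalCategory CochainComplex
open TensorProduct

attribute [local instance] HasDerivedCategory.standard MvPolynomial.algebraMvPolynomial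

set_option backward.defeqAttrib.useBackward true
set_option backward.isDefEq.respectTransparency false
namespace Groth.L10.RelPC

open Groth.L02.PC Groth.L10.DR

variable {P T : Type u} [CommRing P] [CommRing T]

/-- tensoring a short exact sequence with a complex of flat modules -/
theorem tensor_shortExact {C : DRing.Cx T} (hC : DRing.TermwiseFlat C) {S : ShortComplex (ModuleCat.{u} T)}
    (hS : S.ShortExact) :
    ∃ (T' : Triangle (Dual.D T)), T' ∈ distinguishedTriangles ∧ T'.obj₁ = DRing.toD (DRing.tensorCx C S.X₁) ∧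
      T'.obj₂ = DRing.toD (DRing.tensorCx C S.X₂) ∧ T'.obj₃ = DRing.toD (DRing.tensorCx C S.X₃) := by
  let μ : ∀ {M N : ModuleCat.{u} T}, (M ⟶ N) → (DRing.tensorCx C M ⟶ DRing.tensorCx C N) := fun {M N} f =>
    { f := fun i => C.X i ◁ f
      comm' := fun i j _ => (MonoidalCategory.whisker_exchange (C.d i j) f) }
  let S' : ShortComplex (DRing.Cx T) := ShortComplex.mk (μ S.f) (μ S.g) (by
    ext i : 1
    show C.X i ◁ S.f ≫ C.X i ◁ S.g = 0
    rw [← MonoidalCategory.whiskerLeft_comp, S.zero]
    exact ModuleCat.hom_ext (TensorProduct.ext' fun x y => TensorProduct.tmul_zero _ x))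
  have hS' : S'.ShortExact := HomologicalComplex.shortExact_of_degreewise_shortExact _ fun i => by
    haveI := hC i
    have hfg := (ShortComplex.ShortExact.moduleCat_exact_iff_function_exact _).1 hS.exact
    exact
      { exact := (ShortComplex.ShortExact.moduleCat_exact_iff_function_exact _).2
          (lTensor_exact (C.X i) hfg hS.moduleCat_surjective_g)
        mono_f := ConcreteCategory.mono_of_injective _
          (Module.Flat.lTensor_preserves_injective_linearMap _ hS.moduleCat_injective_f)
        epi_g := ConcreteCategory.epi_of_surjective _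
          (LinearMap.lTensor_surjective _ hS.moduleCat_surjective_g) }
  exact ⟨DerivedCategory.triangleOfSES hS', DerivedCategory.triangleOfSES_distinguished hS', rfl, rfl, rfl⟩

variable (ψ : P →+* T)

theorem Pc.tensor_free {C : DRing.Cx T} (hC : DRing.TermwiseFlat C) {m : ℤ} (h : Pc ψ m (DRing.toD C)) :
    ∀ r : ℕ, Pc ψ m (DRing.toD (DRing.tensorCx C (ModuleCat.of T (Fin r → T)))) := by
  intro r
  induction r with
  | zero =>
    refine pc_mono (show (m - 1) + 1 ≤ m by omega) (pc_of_LEH (Pc.LEH fun i _ => ?_))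
    rw [isZero_HH_Q_iff, ← HomologicalComplex.exactAt_iff_isZero_homology]
    refine ShortComplex.exact_of_isZero_X₂ _ ?_
    exact @ModuleCat.isZero_of_subsingleton T _ _
      (inferInstanceAs (Subsingleton (C.X i ⊗[T] (Fin 0 → T))))
  | succ r ih =>
    let f : T →ₗ[T] (Fin (r + 1) → T) := LinearMap.single T (fun _ => T) 0
    let g : (Fin (r + 1) → T) →ₗ[T] (Fin r → T) := LinearMap.funLeft T T Fin.succ
    let S : ShortComplex (ModuleCat.{u} T) := ShortComplex.mk (ModuleCat.ofHom f) (ModuleCat.ofHom g)
      (ModuleCat.hom_ext (LinearMap.ext fun x => funext fun i => by simp [f, g]; rfl))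
    have hS : S.ShortExact :=
      { exact := (ShortComplex.ShortExact.moduleCat_exact_iff_function_exact _).2 fun v => by
          constructor
          · intro hv
            refine ⟨v 0, funext fun i => ?_⟩
            refine Fin.cases ?_ (fun j => ?_) i
            · simp [S, f]
            · have := congrFun hv j
              simp [S, g] at this
              simp [S, f, this]
              rfl
          · rintro ⟨x, rfl⟩
            exact funext fun i => by simp [S, f, g]; rfl
        mono_f := ConcreteCategory.mono_of_injective _ (Pi.single_injective (M := fun _ : Fin (r + 1) => T) 0)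
        epi_g := ConcreteCategory.epi_of_surjective _ (LinearMap.funLeft_surjective_of_injective T T _ (Fin.succ_injective r)) }
    obtain ⟨T', hT', e1, e2, e3⟩ := tensor_shortExact hC hS
    have h1 : Pc ψ m (DRing.toD (DRing.tensorCx C (ModuleCat.of T T))) :=
      Pc.of_iso (DerivedCategory.Q.mapIso (HomologicalComplex.Hom.isoOfComponents
        (fun i => (ρ_ (C.X i)).symm) (fun i j _ => (rightUnitor_inv_naturality (C.d i j)).symm))) h
    have := pc_second _ ((DRing.restrictD ψ).map_distinguished T' hT') m
      (show Pc ψ m T'.obj₁ from e1 ▸ h1) (show Pc ψ m T'.obj₃ from e3 ▸ ih)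
    exact (e2 ▸ (show Pc ψ m T'.obj₂ from this))

/-- tensoring with a pseudo-coherent module -/
theorem Pc.tensor {C : DRing.Cx T} (hC : DRing.TermwiseFlat C) {m b : ℤ} (hb : DRing.VanishesAbove C b)
    (h : Pc ψ m (DRing.toD C)) (N : ModuleCat.{u} T) (hN : DRing.IsPseudoCoherentModule' T N) :
    Pc ψ m (DRing.toD (DRing.tensorCx C N)) := by
  suffices ∀ (k : ℕ) (n : ℤ), m ≤ n → b + 1 ≤ n + k → ∀ N : ModuleCat.{u} T,
      DRing.IsPseudoCoherentModule' T N → Pc ψ n (DRing.toD (DRing.tensorCx C N)) from
    this (b + 1 - m).toNat m le_rfl (by omega) N hN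
  intro k
  induction k with
  | zero =>
    intro n _ hn N _
    refine pc_mono (show b + 1 ≤ n by omega) (pc_of_LEH (Pc.LEH fun i hi => ?_))
    rw [isZero_HH_Q_iff, ← HomologicalComplex.exactAt_iff_isZero_homology]
    exact ShortComplex.exact_of_isZero_X₂ _ ((MonoidalCategory.tensorRight N).map_isZero (hb i hi))
  | succ k ih =>
    intro n hmn hn N hN
    haveI : Module.Finite T N := finite_of_pcModule_zero (pc_of_pc' hN 0)
    obtain ⟨r, f, hf⟩ := Module.Finite.exists_fin' T N
    let S : ShortComplex (ModuleCat.{u} T) := ShortComplex.mk (ModuleCat.ofHom (LinearMap.ker f).subtype)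
      (ModuleCat.ofHom f) (ModuleCat.hom_ext (LinearMap.ext fun x => x.2))
    have hS : S.ShortExact :=
      { exact := (ShortComplex.ShortExact.moduleCat_exact_iff_function_exact _).2 f.exact_subtype_ker_map
        mono_f := ConcreteCategory.mono_of_injective _ Subtype.val_injective
        epi_g := ConcreteCategory.epi_of_surjective _ hf }
    have hker : DRing.IsPseudoCoherentModule' T (LinearMap.ker f) := pc'_of_forall fun j => by
      simpa using pc_first _ hS.singleTriangle_distinguished (j - 1)
        (pcModule_free r (j - 1 + 1)) (pc_of_pc' hN (j - 1))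
    obtain ⟨T', hT', e1, e2, e3⟩ := tensor_shortExact hC hS
    have := pc_third _ ((DRing.restrictD ψ).map_distinguished T' hT') n
      (show Pc ψ (n + 1) T'.obj₁ from e1 ▸ ih (n + 1) (by omega) (by omega) S.X₁ hker)
      (show Pc ψ n T'.obj₂ from e2 ▸ pc_mono hmn (Pc.tensor_free ψ hC h r))
    exact (e3 ▸ (show Pc ψ n T'.obj₃ from this))

section BaseChange

variable {R A B : Type u} [CommRing R] [CommRing A] [CommRing B] [Algebra R A] [Algebra A B] [Algebra R B]
  [IsScalarTower R A B] [Algebra.FiniteType R A] [Algebra.FiniteType A B]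

open Groth.L29.FlatBC in
/-- extension in two steps -/
noncomputable def extTwoApp {T : Type u} [CommRing T] [Algebra A T] [Algebra T B] [IsScalarTower A T B]
    (M : ModuleCat.{u} A) :
    ((ModuleCat.extendScalars.{u, u, u} (algebraMap A T)).obj M) ⊗
        (ModuleCat.of T B) ≅
      (ModuleCat.restrictScalars.{u} (algebraMap T B)).obj
        ((ModuleCat.extendScalars.{u, u, u} (algebraMap A B)).obj M) :=
  LinearEquiv.toModuleIso
    (X₂ := (ModuleCat.restrictScalars.{u} (algebraMap T B)).obj
        ((ModuleCat.extendScalars.{u, u, u} (algebraMap A B)).obj M))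
    ((TensorProduct.congr (extEquiv A T M) (LinearEquiv.refl T B)).trans
      ((TensorProduct.comm T (T ⊗[A] M) B).trans
        (((TensorProduct.AlgebraTensorModule.cancelBaseChange A T B B M).restrictScalars T).trans
          { (extEquiv A B M).symm.toAddEquiv with
            map_smul' := fun t x => by
              show (extEquiv A B M).symm (t • x) = algebraMap T B t • (extEquiv A B M).symm x
              rw [← IsScalarTower.algebraMap_smul B t x, map_smul] })))

/-- base change of relative pseudo-coherence, on a flat bounded above model -/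
theorem rel_bc (hB : DerCA.IsRelPseudoCoherentModuleAll A B B) {Q : DRing.Cx A} {b : ℤ}
    (hQb : DRing.VanishesAbove Q b) (hQ : DRing.TermwiseFlat Q) {m : ℤ}
    (h : DerCA.IsRelPseudoCoherent R A m (DRing.toD Q)) :
    DerCA.IsRelPseudoCoherent R B m (DRing.toD ((bcCx (algebraMap A B)).obj Q)) := by
  obtain ⟨n, α, hα⟩ := exists_presentation R A
  obtain ⟨k, β, hβ⟩ := exists_presentation A B
  let T := MvPolynomial (Fin k) A
  letI : Algebra T B := (β : MvPolynomial (Fin k) A →+* B).toAlgebra
  haveI : IsScalarTower A T B := IsScalarTower.of_algebraMap_eq fun a => (β.commutes a).symm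
  have hN : DRing.IsPseudoCoherentModule' T (ModuleCat.of T B) :=
    pc'_of_forall fun i => pc_of_iso (inDIso (β : MvPolynomial (Fin k) A →+* B) B fun _ _ => Algebra.smul_def _ _)
      ((rel_iff β hβ).1 (hB i))
  letI : Algebra (MvPolynomial (Fin n) R) A := (α : MvPolynomial (Fin n) R →+* A).toAlgebra
  let ψ := algebraMap (MvPolynomial (Fin k) (MvPolynomial (Fin n) R)) T
  have hfl : (algebraMap (MvPolynomial (Fin n) R) (MvPolynomial (Fin k) (MvPolynomial (Fin n) R))).Flat :=
    RingHom.flat_algebraMap_iff.mpr inferInstance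
  let C : DRing.Cx T := (bcCx (algebraMap A T)).obj Q
  have hC : Pc ψ m (DRing.toD C) :=
    Pc.baseChange (A := MvPolynomial (Fin n) R) (A' := MvPolynomial (Fin k) (MvPolynomial (Fin n) R))
      (S := A) (S' := T) hfl ((rel_iff α hα).1 h)
  have hCfl : DRing.TermwiseFlat C := fun i => by
    haveI := hQ i
    exact Module.Flat.of_linearEquiv (Groth.L29.FlatBC.extEquiv A T (Q.X i))
  have hCb : DRing.VanishesAbove C b := fun i hi =>
    (ModuleCat.extendScalars.{u, u, u} (algebraMap A T)).map_isZero (hQb i hi)
  have h' := Pc.tensor ψ hCfl hCb hC _ hN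
  let e : DRing.tensorCx C (ModuleCat.of T B) ≅
      (DRing.restrictCx (algebraMap T B)).obj ((bcCx (algebraMap A B)).obj Q) :=
    HomologicalComplex.Hom.isoOfComponents (fun i => extTwoApp (Q.X i)) (fun i j _ => by
      refine ModuleCat.hom_ext (TensorProduct.ext' fun x y => ?_)
      induction x using TensorProduct.induction_on with
      | zero => erw [TensorProduct.zero_tmul, map_zero]
      | add x x' hx hx' => erw [TensorProduct.add_tmul, map_add, map_add, hx, hx']
      | tmul a v => rfl)
  refine (rel_iff_of_equiv (doubleEquiv R k n) ((algebraMap T B).comp ψ) (fun r => ?_)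
    (hβ.comp (MvPolynomial.map_surjective _ hα))).2 ?_
  · rw [IsScalarTower.algebraMap_apply R (MvPolynomial (Fin n) R) (MvPolynomial (Fin k) (MvPolynomial (Fin n) R))]
    show β (MvPolynomial.map (α : MvPolynomial (Fin n) R →+* A) (MvPolynomial.C (algebraMap R _ r))) = _
    rw [MvPolynomial.map_C, IsScalarTower.algebraMap_apply R A B]
    exact (β.commutes _).trans (congrArg _ (α.commutes r))
  · exact (Pc.comp_iff ψ (algebraMap T B) rfl _).2
      (Pc.of_iso (DerivedCategory.Q.mapIso e ≪≫ (resQ _ _).symm) h')

theorem rel_bc' (hB : DerCA.IsRelPseudoCoherentModuleAll A B B) {m : ℤ} {K : Dual.D A}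
    (h : DerCA.IsRelPseudoCoherent R A m K) :
    ∃ (Q : DRing.Cx A) (_ : DRing.toD Q ≅ K), Q.IsKProjective ∧
      DerCA.IsRelPseudoCoherent R B m (DRing.toD ((bcCx (algebraMap A B)).obj Q)) := by
  obtain ⟨n, α, hα⟩ := exists_presentation R A
  obtain ⟨b, hb⟩ := bounded_of_pc ((rel_iff α hα).1 h)
  obtain ⟨Q, hQb, hQf, hQk, ⟨e⟩⟩ := exists_free_rep hb
  refine ⟨Q, e, hQk, rel_bc hB hQb (fun i => ?_) ((rel_iff α hα).2 (Pc.of_iso e.symm ((rel_iff α hα).1 h)))⟩
  haveI := hQf i
  infer_instance

theorem lBaseChange (hB : DerCA.IsRelPseudoCoherentModuleAll A B B) [DRing.HasLBaseChange (algebraMap A B)]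
    {m : ℤ} {K : Dual.D A} (h : DerCA.IsRelPseudoCoherent R A m K) :
    DerCA.IsRelPseudoCoherent R B m ((DRing.LBaseChange (algebraMap A B)).obj K) := by
  obtain ⟨Q, e, hQk, hQ⟩ := rel_bc' hB h
  obtain ⟨N, γ, hγ, hp⟩ := hQ
  haveI := hQk
  exact ⟨N, γ, hγ, Pc.of_iso ((lbcIso _ Q).symm ≪≫ (DRing.LBaseChange (algebraMap A B)).mapIso e) hp⟩

theorem module_bc [Module.Flat A B] (hB : DerCA.IsRelPseudoCoherentModuleAll A B B) {m : ℤ}
    (M : Type u) [AddCommGroup M] [Module A M] (h : DerCA.IsRelPseudoCoherentModule R A m M) :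
    DerCA.IsRelPseudoCoherentModule R B m (B ⊗[A] M) := by
  obtain ⟨Q, e, -, hQ⟩ := rel_bc' hB h
  obtain ⟨N, γ, hγ, hp⟩ := hQ
  let G := Groth.L29.FlatBC.ext A B
  refine ⟨N, γ, hγ, Pc.of_iso ((G.mapDerivedCategoryFactors.app Q).symm ≪≫ G.mapDerivedCategory.mapIso e ≪≫
    (G.mapDerivedCategorySingleFunctor 0).app (ModuleCat.of A M) ≪≫
    (DerivedCategory.singleFunctor _ 0).mapIso
      (Groth.L29.FlatBC.extEquiv A B (ModuleCat.of A M)).toModuleIso) hp⟩

end BaseChange

end Groth.L10.RelPC
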