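import Groth.Agent.L10.RelPC.Hom
import Groth.Agent.L10.DRing.Coherent
import Mathlib.RingTheory.FiniteType
import Mathlib.RingTheory.Polynomial.Basic

/-! Pseudo-coherence relative to a base ring: independence of the presentation, formal properties. -/

universe u

open CategoryTheory CategoryTheory.Limits CategoryTheory.Pretriangulated

attribute [local instance] HasDerivedCategory.standard

set_option backward.defeqAttrib.useBackward true
set_option backward.isDefEq.respectTransparency false
namespace Groth.L10.RelPC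

open Groth.L02.PC Groth.L10.DR

variable {R A B : Type u} [CommRing R] [CommRing A] [Algebra R A] [CommRing B]

/-- finiteness of pseudo-coherence data over the bigger presentation -/
theorem via_iff_extend {k n : ℕ} (α : MvPolynomial (Fin n) R →ₐ[R] A) (hα : Function.Surjective α)
    (b : Fin k → A) {m : ℤ} (K : Dual.D A) :
    Pc (α : MvPolynomial (Fin n) R →+* A) m K ↔
      Pc (MvPolynomial.eval₂Hom (α : MvPolynomial (Fin n) R →+* A) b) m K := by
  choose p hp using fun i => hα (b i)
  let σ : MvPolynomial (Fin k) (MvPolynomial (Fin n) R) →+* MvPolynomial (Fin n) R := MvPolynomial.eval p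
  have hσ : PCHom σ := PCHom.poly_retraction k σ (RingHom.ext fun r => MvPolynomial.eval_C r)
  have e : MvPolynomial.eval₂Hom (α : MvPolynomial (Fin n) R →+* A) b =
      (α : MvPolynomial (Fin n) R →+* A).comp σ :=
    MvPolynomial.ringHom_ext (fun r => by simp [σ]) (fun i => by simp [σ, hp])
  rw [Pc.comp_iff _ _ e, ← hσ.pc_iff]

/-- independence of the presentation -/
theorem via_iff {n k : ℕ} (α : MvPolynomial (Fin n) R →ₐ[R] A) (hα : Function.Surjective α)
    (β : MvPolynomial (Fin k) R →ₐ[R] A) (hβ : Function.Surjective β) {m : ℤ} (K : Dual.D A) :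
    Pc (α : MvPolynomial (Fin n) R →+* A) m K ↔ Pc (β : MvPolynomial (Fin k) R →+* A) m K := by
  rw [via_iff_extend α hα (fun i => β (MvPolynomial.X i)), via_iff_extend β hβ (fun i => α (MvPolynomial.X i))]
  refine Pc.equiv_iff (MvPolynomial.commAlgEquiv R (Fin k) (Fin n)).toRingEquiv _ ?_ K
  refine MvPolynomial.ringHom_ext (fun r => ?_) (fun i => by simp)
  have : (MvPolynomial.eval₂Hom (α : MvPolynomial (Fin n) R →+* A) fun i => β (MvPolynomial.X i)).comp
        MvPolynomial.C = ((MvPolynomial.eval₂Hom (β : MvPolynomial (Fin k) R →+* A)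
        fun i => α (MvPolynomial.X i)).comp
        (MvPolynomial.commAlgEquiv R (Fin k) (Fin n)).toRingEquiv.toRingHom).comp MvPolynomial.C :=
    MvPolynomial.ringHom_ext (fun r => by simp) (fun i => by simp [MvPolynomial.commAlgEquiv_C_X])
  exact RingHom.congr_fun this r

theorem rel_iff {n : ℕ} (α : MvPolynomial (Fin n) R →ₐ[R] A) (hα : Function.Surjective α) {m : ℤ}
    {K : Dual.D A} : DerCA.IsRelPseudoCoherent R A m K ↔ Pc (α : MvPolynomial (Fin n) R →+* A) m K :=
  ⟨fun ⟨_, β, hβ, h⟩ => (via_iff β hβ α hα K).1 h, fun h => ⟨n, α, hα, h⟩⟩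

theorem relAll_iff {n : ℕ} (α : MvPolynomial (Fin n) R →ₐ[R] A) (hα : Function.Surjective α)
    {K : Dual.D A} : DerCA.IsRelPseudoCoherentAll R A K ↔
      ∀ m, Pc (α : MvPolynomial (Fin n) R →+* A) m K :=
  forall_congr' fun _ => rel_iff α hα

theorem exists_presentation (R A : Type u) [CommRing R] [CommRing A] [Algebra R A] [Algebra.FiniteType R A] :
    ∃ (n : ℕ) (α : MvPolynomial (Fin n) R →ₐ[R] A), Function.Surjective α :=
  Algebra.FiniteType.iff_quotient_mvPolynomial''.1 inferInstance

/-- homology commutes with restriction -/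
noncomputable def HHResIso (φ : A →+* B) (K : Dual.D B) (i : ℤ) :
    (HH i).obj ((DRing.restrictD φ).obj K) ≅ (ModuleCat.restrictScalars.{u} φ).obj ((HH i).obj K) :=
  let P := DerivedCategory.Q.objPreimage K
  let e : DRing.toD P ≅ K := DerivedCategory.Q.objObjPreimageIso K
  (HH i).mapIso ((DRing.restrictD φ).mapIso e.symm ≪≫ resQ φ P) ≪≫
    (DerivedCategory.homologyFunctorFactors _ i).app _ ≪≫
    (P.sc i).mapHomologyIso (ModuleCat.restrictScalars.{u} φ) ≪≫
    (ModuleCat.restrictScalars.{u} φ).mapIso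
      (((DerivedCategory.homologyFunctorFactors _ i).app P).symm ≪≫ (HH i).mapIso e)

theorem pc_single_res (φ : A →+* B) (M : ModuleCat.{u} B) (i m : ℤ)
    (h : Pc φ (m - i) (Dual.inD B M)) :
    DRing.IsPseudoCoherent A m (single i ((ModuleCat.restrictScalars.{u} φ).obj M)) :=
  pc_single i m (pc_of_iso
    (((ModuleCat.restrictScalars.{u} φ).mapDerivedCategorySingleFunctor 0).app M) h)

theorem Pc.of_terms (φ : A →+* B) (m : ℤ) (K : DRing.Cx B) (b : ℤ) (hb : DRing.VanishesAbove K b)
    (h : ∀ i, m ≤ i → Pc φ (m - i) (Dual.inD B (K.X i))) : Pc φ m (DRing.toD K) :=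
  pc_of_iso (resQ φ K).symm (pc_of_terms m _ b
    (fun i hi => (ModuleCat.restrictScalars.{u} φ).map_isZero (hb i hi))
    fun i hi => pc_single_res φ (K.X i) i m (h i hi))

theorem Pc.LEH {φ : A →+* B} {K : Dual.D B} {b : ℤ} (hb : Groth.L02.PC.LEH K b) :
    Groth.L02.PC.LEH ((DRing.restrictD φ).obj K) b := fun i hi =>
  ((ModuleCat.restrictScalars.{u} φ).map_isZero (hb i hi)).of_iso (HHResIso φ K i)

theorem Pc.of_homology (φ : A →+* B) (m : ℤ) (K : Dual.D B) (b : ℤ) (hb : Groth.L02.PC.LEH K b)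
    (h : ∀ i, m ≤ i → Pc φ (m - i) (Dual.inD B ((HH i).obj K))) : Pc φ m K :=
  pc_of_homology m _ b (Pc.LEH hb) fun i hi =>
    pc_of_iso ((DerivedCategory.singleFunctor _ i).mapIso (HHResIso φ K i).symm)
      (pc_single_res φ _ i m (h i hi))

theorem isZero_HH_iff_subsingleton (K : Dual.D A) (i : ℤ) :
    IsZero ((HH i).obj K) ↔ Subsingleton (Dual.HD A K i) :=
  ⟨fun h => ModuleCat.subsingleton_of_isZero h,
    fun h => haveI : Subsingleton ((HH i).obj K) := h; ModuleCat.isZero_of_subsingleton _⟩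

theorem bounded_of_pc {φ : A →+* B} {m : ℤ} {K : Dual.D B} (h : Pc φ m K) :
    ∃ b, Groth.L02.PC.LEH K b := by
  obtain ⟨b, hb⟩ := exists_LEH h
  refine ⟨b, fun i hi => ?_⟩
  have h0 : IsZero ((ModuleCat.restrictScalars.{u} φ).obj ((HH i).obj K)) :=
    (hb i hi).of_iso (HHResIso φ K i).symm
  have h1 := ModuleCat.subsingleton_of_isZero h0
  have : Subsingleton ((HH i).obj K) := h1
  exact ModuleCat.isZero_of_subsingleton _

theorem finite_res_iff (φ : A →+* B) (hφ : Function.Surjective φ) (M : ModuleCat.{u} B) :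
    Module.Finite A ((ModuleCat.restrictScalars.{u} φ).obj M) ↔ Module.Finite B M := by
  letI := φ.toAlgebra
  letI : Module A M := Module.compHom M φ
  haveI : IsScalarTower A B M := IsScalarTower.of_algebraMap_smul fun _ _ => rfl
  haveI : Module.Finite A B := Module.Finite.of_surjective (Algebra.linearMap A B) hφ
  exact ⟨fun h => haveI : Module.Finite A M := h; Module.Finite.of_restrictScalars_finite A B M,
    fun h => (Module.Finite.trans B M : Module.Finite A M)⟩

theorem finite_fp_of_noetherian [IsNoetherianRing A] {m : ℤ} {K : Dual.D A}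
    (h : DRing.IsPseudoCoherent A m K) (i : ℤ) (hi : m ≤ i) : Module.Finite A (Dual.HD A K i) := by
  obtain ⟨h0, h1⟩ := finite_and_fp_of_pc
    (fun I hI => Module.finitePresentation_of_finite A I) h
  rcases eq_or_lt_of_le hi with rfl | hi
  · exact h0
  · haveI := h1 i hi; infer_instance

theorem pc_noetherian [IsNoetherianRing A] {m b : ℤ} {K : Dual.D A} (hb : Groth.L02.PC.LEH K b)
    (h : ∀ i, m ≤ i → Module.Finite A (Dual.HD A K i)) : DRing.IsPseudoCoherent A m K :=
  pc_of_homology m K b hb fun i hi => by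
    haveI := h i hi
    exact pc_single i m (pc_of_pc' (pcModule'_noetherian _) _)

/-- over a Noetherian base -/
theorem Pc.iff_noetherian [IsNoetherianRing A] (φ : A →+* B) (hφ : Function.Surjective φ) (m : ℤ)
    (K : Dual.D B) : Pc φ m K ↔ (∃ b : ℤ, ∀ i : ℤ, b < i → Subsingleton (Dual.HD B K i)) ∧
      ∀ i : ℤ, m ≤ i → Module.Finite B (Dual.HD B K i) := by
  constructor
  · intro h
    obtain ⟨b, hb⟩ := bounded_of_pc h
    refine ⟨⟨b, fun i hi => (isZero_HH_iff_subsingleton K i).1 (hb i hi)⟩, fun i hi => ?_⟩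
    haveI : Module.Finite A ((HH i).obj ((DRing.restrictD φ).obj K)) := finite_fp_of_noetherian h i hi
    exact (finite_res_iff φ hφ ((HH i).obj K)).1 (Module.Finite.equiv (HHResIso φ K i).toLinearEquiv)
  · rintro ⟨⟨b, hb⟩, hf⟩
    refine pc_noetherian (Pc.LEH fun i hi => (isZero_HH_iff_subsingleton K i).2 (hb i hi)) fun i hi => ?_
    haveI := (finite_res_iff φ hφ ((HH i).obj K)).2 (hf i hi)
    exact Module.Finite.equiv (HHResIso φ K i).toLinearEquiv.symm

end Groth.L10.RelPC
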