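import Groth.Agent.L10.RelPC.Basic
import Groth.Agent.L29.Dual.FlatBC
import Groth.Agent.L02.PC.BaseChange
import Mathlib.RingTheory.IsTensorProduct
import Mathlib.RingTheory.TensorProduct.MvPolynomial

/-! Flat base change of pseudo-coherence. -/

universe u

open CategoryTheory CategoryTheory.Limits CategoryTheory.Pretriangulated CochainComplex TensorProduct

attribute [local instance] HasDerivedCategory.standard

set_option backward.defeqAttrib.useBackward true
set_option backward.isDefEq.respectTransparency false
namespace Groth.L10.RelPC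

open Groth.L02.PC Groth.L10.DR

variable {A B : Type u} [CommRing A] [CommRing B]

/-- flat termwise base change preserves pseudo-coherence -/
theorem pc_ext_flat (φ : A →+* B) (hφ : φ.Flat) {P : DRing.Cx A} {m : ℤ}
    (h : DRing.IsPseudoCoherent A m (DRing.toD P)) :
    DRing.IsPseudoCoherent B m (DRing.toD ((bcCx φ).obj P)) := by
  obtain ⟨E, a, b, α, v, f, happ⟩ := (pc_iff m _).1 h
  have := isKProjective_bounded v f
  obtain ⟨g, rfl⟩ := exists_chainMap α
  rw [isApprox_Q_map_iff] at happ
  obtain ⟨h1, h2⟩ := bcCx_bounded φ v f
  refine pc_of_approx (DerivedCategory.Q.map ((bcCx φ).map g)) ?_ (pc_of_bounded_free h1 h2 m)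
  rw [isApprox_Q_map_iff]
  intro i hi
  let G := ModuleCat.extendScalars.{u, u, u} φ
  haveI : PreservesFiniteLimits G := ModuleCat.preservesFiniteLimits_extendScalars_of_flat hφ
  haveI : G.IsLeftAdjoint := (ModuleCat.extendRestrictScalarsAdj.{u, u, u} φ).isLeftAdjoint
  haveI : PreservesFiniteColimits G := inferInstance
  exact (G.map_isZero (happ i hi)).of_iso
    (((HomologicalComplex.homologyFunctor _ _ i).mapIso
      (mappingCone.mapHomologicalComplexIso g G)).symm ≪≫ ((mappingCone g).sc i).mapHomologyIso G)

section Pushout

variable (A A' S S' : Type u) [CommRing A] [CommRing A'] [CommRing S] [CommRing S']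
  [Algebra A A'] [Algebra A S] [Algebra A' S'] [Algebra S S'] [Algebra A S']
  [IsScalarTower A A' S'] [IsScalarTower A S S'] [Algebra.IsPushout A A' S S']

open Groth.L29.FlatBC in
/-- base change commutes with restriction, modules -/
noncomputable def extResApp (M : ModuleCat.{u} S) :
    (ModuleCat.extendScalars.{u, u, u} (algebraMap A A')).obj
        ((ModuleCat.restrictScalars.{u} (algebraMap A S)).obj M) ≅
      (ModuleCat.restrictScalars.{u} (algebraMap A' S')).obj
        ((ModuleCat.extendScalars.{u, u, u} (algebraMap S S')).obj M) :=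
  letI : Module A M := Module.compHom M (algebraMap A S)
  haveI : IsScalarTower A S M := IsScalarTower.of_algebraMap_smul fun _ _ => rfl
  LinearEquiv.toModuleIso
    (X₂ := (ModuleCat.restrictScalars.{u} (algebraMap A' S')).obj
        ((ModuleCat.extendScalars.{u, u, u} (algebraMap S S')).obj M))
    ((extEquiv A A' ((ModuleCat.restrictScalars.{u} (algebraMap A S)).obj M)).trans
      ((Algebra.IsPushout.cancelBaseChange A A' S S' M).symm.trans
        { (extEquiv S S' M).symm.toAddEquiv with
          map_smul' := fun a x => by
            show (extEquiv S S' M).symm (a • x) = algebraMap A' S' a • (extEquiv S S' M).symm x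
            rw [← IsScalarTower.algebraMap_smul S' a x, map_smul] }))

open Groth.L29.FlatBC in
/-- base change commutes with restriction -/
noncomputable def extResNat :
    ModuleCat.restrictScalars.{u} (algebraMap A S) ⋙ ModuleCat.extendScalars.{u, u, u} (algebraMap A A') ≅
      ModuleCat.extendScalars.{u, u, u} (algebraMap S S') ⋙ ModuleCat.restrictScalars.{u} (algebraMap A' S') :=
  NatIso.ofComponents (extResApp A A' S S') fun {M N} g => by
    refine ModuleCat.hom_ext (LinearMap.ext fun x => ?_)
    induction x using TensorProduct.induction_on with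
    | zero => erw [map_zero]
    | add x y hx hy => erw [map_add, map_add, hx, hy]
    | tmul a m => rfl

variable {A A' S S'}

theorem Pc.baseChange (hA' : (algebraMap A A').Flat) {P : DRing.Cx S} {m : ℤ}
    (h : Pc (algebraMap A S) m (DRing.toD P)) :
    Pc (algebraMap A' S') m (DRing.toD ((bcCx (algebraMap S S')).obj P)) := by
  have h' := pc_ext_flat _ hA' (pc_of_iso (resQ _ P) h)
  let e : (bcCx (algebraMap A A')).obj ((DRing.restrictCx (algebraMap A S)).obj P) ≅
      (DRing.restrictCx (algebraMap A' S')).obj ((bcCx (algebraMap S S')).obj P) :=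
    HomologicalComplex.Hom.isoOfComponents (fun i => (extResNat A A' S S').app (P.X i))
      (fun i j _ => ((extResNat A A' S S').hom.naturality (P.d i j)).symm)
  exact pc_of_iso (DerivedCategory.Q.mapIso e ≪≫ (resQ _ _).symm) h'

open Groth.L29.FlatBC in
/-- flat base change of a pseudo-coherent homomorphism -/
theorem PCHom.baseChange (hA' : (algebraMap A A').Flat) (h : PCHom (algebraMap A S)) :
    PCHom (algebraMap A' S') := by
  refine PCHom.of_forall fun m => ?_
  let M := ModuleCat.of S S
  have h0 : Pc (algebraMap A S) m (DRing.toD ((HomologicalComplex.single _ (ComplexShape.up ℤ) 0).obj M)) :=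
    Pc.of_iso ((DerivedCategory.singleFunctorIsoCompQ _ 0).app M) (h.pcModule' m)
  have h1 := Pc.baseChange (A' := A') (S' := S') hA' h0
  let eM : (ModuleCat.extendScalars.{u, u, u} (algebraMap S S')).obj M ≅ ModuleCat.of S' S' :=
    ((extEquiv S S' M).trans (Algebra.TensorProduct.rid S S' S').toLinearEquiv).toModuleIso
  refine Pc.of_iso ?_ h1
  exact DerivedCategory.Q.mapIso
    ((HomologicalComplex.singleMapHomologicalComplex _ (ComplexShape.up ℤ) 0).app M ≪≫
      (HomologicalComplex.single _ (ComplexShape.up ℤ) 0).mapIso eM) ≪≫
    ((DerivedCategory.singleFunctorIsoCompQ _ 0).app (ModuleCat.of S' S')).symm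

end Pushout

end Groth.L10.RelPC
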