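import Groth.Agent.L10.DRing.LocalAmp
import Groth.Agent.L10.RelPC.BC
import Mathlib.RingTheory.Localization.BaseChange
import Mathlib.RingTheory.Flat.Localization

/-!
Tor amplitude under flat base change, along a localisation of a pushout.
-/

set_option autoImplicit false
set_option linter.style.haveILetI false
set_option backward.isDefEq.respectTransparency false
set_option backward.isDefEq.respectTransparency.types false
set_option backward.defeqAttrib.useBackward true

universe u

open CategoryTheory CategoryTheory.Limits MonoidalCategory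
open scoped TensorProduct

attribute [local instance] HasDerivedCategory.standard
attribute [local instance] Algebra.TensorProduct.rightAlgebra

namespace Groth.L10.RelPC.AmpFlatBC

open Groth.L10.AmpTest Groth.L10.LocalAmp

variable {A : Type u} [CommRing A] {A' : Type u} [CommRing A'] [Algebra A A']

/-- restriction along a flat map keeps K-flatness -/
theorem isKFlat_restrict [Module.Flat A A'] (P : DRing.Cx A') (hP : DRing.IsKFlat A' P) :
    DRing.IsKFlat A ((_root_.DTen.resCx (algebraMap A A')).obj P) := by
  intro M hM i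
  haveI := flat_resOne (algebraMap A A') rfl
  have h1 : ∀ j, IsZero (((_root_.DTen.extCx (algebraMap A A')).obj M).homology j) := fun j =>
    (Groth.L00.KFlatAlg.acyclic_restrictScalars (algebraMap A A') _ j).1
      ((iso_homology (resExtIso (algebraMap A A') M ≪≫ tensorResOne (algebraMap A A') M) j).2
        (isZero_tensor_flat M _ j (hM j)))
  exact (iso_homology (Groth.L00.BaseChangeTensor.tensorIso (algebraMap A A') M P) i).2
    ((Groth.L00.KFlatAlg.acyclic_restrictScalars (algebraMap A A') _ i).2 (hP _ h1 i))

variable {B B' Bx T : Type u} [CommRing B] [CommRing B'] [CommRing Bx] [CommRing T]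
  [Algebra A B] [Algebra A B'] [Algebra A' B'] [Algebra B B']
  [IsScalarTower A B B'] [IsScalarTower A A' B'] [Algebra.IsPushout A A' B B']
  [Algebra B Bx] [Algebra A Bx] [IsScalarTower A B Bx]
  [Algebra B' T] [Algebra Bx T] [Algebra B T] [IsScalarTower B B' T] [IsScalarTower B Bx T]
  [Algebra A' T] [IsScalarTower A' B' T]

theorem amp_flat_bc [Module.Flat A A'] (S : Submonoid B) [IsLocalization S Bx] [Module.Flat B' T]
    (K : DRing.Cx Bx) {a b : ℤ}
    (h : DRing.HasTorAmplitudeIn A a b (DRing.toD ((_root_.DTen.resCx (algebraMap A Bx)).obj K))) :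
    DRing.HasTorAmplitudeIn A' a b (DRing.toD ((_root_.DTen.resCx (algebraMap A' T)).obj
      ((_root_.DTen.extCx (algebraMap Bx T)).obj K))) := by
  let R := Bx ⊗[B] B'
  haveI : Algebra.IsPushout A B A' B' := Algebra.IsPushout.symm ‹_›
  haveI : IsLocalization (Algebra.algebraMapSubmonoid B' S) R :=
    (Algebra.isLocalization_iff_isPushout S Bx).2 inferInstance
  letI : Algebra A' R := ((algebraMap B' R).comp (algebraMap A' B')).toAlgebra
  haveI : IsScalarTower A' B' R := IsScalarTower.of_algebraMap_eq fun _ => rfl
  haveI : IsScalarTower A B' R := IsScalarTower.of_algebraMap_eq fun r => by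
    rw [IsScalarTower.algebraMap_apply A B B' r, ← IsScalarTower.algebraMap_apply B B' R,
      IsScalarTower.algebraMap_apply B Bx R, ← IsScalarTower.algebraMap_apply A B Bx,
      IsScalarTower.algebraMap_apply A Bx R]
  haveI : IsScalarTower A A' R := IsScalarTower.of_algebraMap_eq fun r => by
    change algebraMap A R r = algebraMap B' R (algebraMap A' B' (algebraMap A A' r))
    rw [← IsScalarTower.algebraMap_apply A A' B', ← IsScalarTower.algebraMap_apply A B' R]
  haveI : Algebra.IsPushout A Bx A' R :=
    (Algebra.IsPushout.comp_iff (R := A) (S := B) (R' := A') (S' := B') (T := Bx) (T' := R)).2 inferInstance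
  let ψ : R →+* T :=
    (Algebra.TensorProduct.lift (IsScalarTower.toAlgHom B Bx T) (IsScalarTower.toAlgHom B B' T)
      fun _ _ => Commute.all _ _).toRingHom
  letI : Algebra R T := ψ.toAlgebra
  haveI : IsScalarTower B' R T := IsScalarTower.of_algebraMap_eq fun r => by
    change algebraMap B' T r = ψ (1 ⊗ₜ r)
    refine Eq.trans ?_ (Algebra.TensorProduct.lift_tmul _ _ _ (1 : Bx) r).symm
    rw [map_one, one_mul]
    rfl
  haveI : Module.Flat R T :=
    (Module.flat_iff_of_isLocalization R (Algebra.algebraMapSubmonoid B' S) T).2 inferInstance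
  have hψ : algebraMap A' T = ψ.comp (algebraMap A' R) := RingHom.ext fun r => by
    change algebraMap A' T r = ψ (1 ⊗ₜ algebraMap A' B' r)
    refine Eq.trans ?_ (Algebra.TensorProduct.lift_tmul _ _ _ (1 : Bx) (algebraMap A' B' r)).symm
    rw [map_one, one_mul]
    exact IsScalarTower.algebraMap_apply A' B' T r
  have hBx : algebraMap Bx T = ψ.comp (algebraMap Bx R) := RingHom.ext fun r => by
    change algebraMap Bx T r = ψ (r ⊗ₜ 1)
    refine Eq.trans ?_ (Algebra.TensorProduct.lift_tmul _ _ _ r (1 : B')).symm
    rw [map_one, mul_one]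
    rfl
  let e0 : (_root_.DTen.extCx (algebraMap Bx T)).obj K ≅
      (_root_.DTen.extCx ψ).obj ((_root_.DTen.extCx (algebraMap Bx R)).obj K) :=
    eqToIso (by rw [hBx]) ≪≫
      (NatIso.mapHomologicalComplex (ModuleCat.extendScalarsComp.{u, u} (algebraMap Bx R) ψ) (ComplexShape.up ℤ)).app K
  refine (amp_iff_test _ a b).2 fun N P hP e i hi => ?_
  refine (iso_homology (whiskerRightIso ((_root_.DTen.resCx (algebraMap A' T)).mapIso e0) P) i).2 ?_
  refine (test_ext (A := A') (B := R) (C := T) ψ hψ P ((_root_.DTen.extCx (algebraMap Bx R)).obj K) i).2 ?_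
  haveI := flat_resOne ψ (A := R) (B := T) rfl
  refine isZero_tensor_flat _ _ i ((braid_homology _ _ i).2 ?_)
  refine (Groth.L00.KFlatAlg.acyclic_restrictScalars (algebraMap Bx R) _ i).1 ?_
  refine (iso_homology (Groth.L00.BaseChangeTensor.tensorIso (algebraMap Bx R) K _) i).1 ?_
  let P₀ := (_root_.DTen.resCx (algebraMap A A')).obj P
  let eP : (_root_.DTen.extCx (algebraMap A Bx)).obj P₀ ≅
      (_root_.DTen.resCx (algebraMap Bx R)).obj ((_root_.DTen.extCx (algebraMap A' R)).obj P) :=
    HomologicalComplex.Hom.isoOfComponents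
      (fun j => (Groth.L10.RelPC.extResNat A Bx A' R).app (P.X j))
      (fun j k _ => ((Groth.L10.RelPC.extResNat A Bx A' R).hom.naturality (P.d j k)).symm)
  refine (iso_homology (whiskerLeftIso K eP) i).1 ((braid_homology _ _ i).1 ((test_iff P₀ K i).1 ?_))
  let F := ModuleCat.restrictScalars.{u} (algebraMap A A')
  exact (amp_iff_test _ a b).1 h (F.obj N) P₀ (isKFlat_restrict P hP)
    (((F.mapDerivedCategoryFactors).app P).symm ≪≫ F.mapDerivedCategory.mapIso e ≪≫
      (F.mapDerivedCategoryFactors).app _ ≪≫
      DerivedCategory.Q.mapIso ((HomologicalComplex.singleMapHomologicalComplex F (ComplexShape.up ℤ) 0).app N))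
    i hi

end Groth.L10.RelPC.AmpFlatBC
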