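import Groth.Agent.L10.RelPC.MixedAmp
import Groth.Agent.L10.RelPC.AmpFlatBC
import Groth.Agent.L29.DCoh.RelBC
import Groth.Agent.L20.TorAmpWeaklyEtale
import Mathlib.AlgebraicGeometry.Morphisms.Flat

/-!
Stalkwise tor amplitude under flat base change.
-/

set_option autoImplicit false
set_option linter.style.haveILetI false
set_option backward.isDefEq.respectTransparency false
set_option backward.isDefEq.respectTransparency.types false
set_option backward.defeqAttrib.useBackward true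

universe u

open CategoryTheory CategoryTheory.Limits AlgebraicGeometry

attribute [local instance] HasDerivedCategory.standard

namespace Groth.L10.RelPC.TorFlatBC

open Groth.L20.TorAmp

/-- amplitude over a localisation of the base -/
theorem amp_localization_iff {A B C : Type u} [CommRing A] [CommRing B] [CommRing C] [Algebra A B] [Algebra B C]
    [Algebra A C] [IsScalarTower A B C] (S : Submonoid A) [IsLocalization S B] (X : DRing.Cx C) (a b : ℤ) :
    DRing.HasTorAmplitudeIn A a b (DRing.toD ((_root_.DTen.resCx (algebraMap A C)).obj X)) ↔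
      DRing.HasTorAmplitudeIn B a b (DRing.toD ((_root_.DTen.resCx (algebraMap B C)).obj X)) := by
  haveI : Module.Flat A B := IsLocalization.flat B S
  have hμ : (Algebra.TensorProduct.lmul' A (S := B)).toRingHom.Flat :=
    RingHom.Flat.of_bijective (IsLocalization.bijective_linearMap_mul' (S := S) (A := B))
  rw [← torAmp_restrict_iff (A := A) (B := B) hμ a b (DRing.toD ((_root_.DTen.resCx (algebraMap B C)).obj X))]
  let e := Groth.L10.LocalAmp.resComp (algebraMap A B) (algebraMap B C) (algebraMap A C)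
    (IsScalarTower.algebraMap_eq A B C) X
  exact ⟨Groth.L10.DR.amp_of_iso (DerivedCategory.Q.mapIso e ≪≫ (resIso (A := A) _).symm),
    Groth.L10.DR.amp_of_iso (resIso (A := A) _ ≪≫ DerivedCategory.Q.mapIso e.symm)⟩

variable {X S X' S' : Scheme.{u}} {f : X ⟶ S} {f' : X' ⟶ S'} {g' : X' ⟶ X} {g : S' ⟶ S}

open Groth.L00 Groth.L29.DC in
theorem torAmpAt_pullCx (hc : IsPullback g' f' f g) [Flat g] (P : CochainComplex X.Modules ℤ) (x' : X') {a b : ℤ}
    (h : DerSch.HasTorAmplitudeAt f a b P (g' x')) :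
    DerSch.HasTorAmplitudeAt f' a b ((PullTensor.pullCx g').obj P) x' := by
  obtain ⟨W, V, W', U, eV, eW, eU, eU', hW, hV, hW', hU, hxU, hpo⟩ := Groth.L20.ModStalk.exists_affine_square hc x'
  algebraize [(f.appLE W V eV).hom, (g.appLE W W' eW).hom, (g'.appLE V U eU).hom, (f'.appLE W' U eU').hom,
    ((g'.appLE V U eU).hom.comp (f.appLE W V eV).hom)]
  haveI : IsScalarTower Γ(S, W) Γ(S', W') Γ(X', U) := IsScalarTower.of_algebraMap_eq' (congrArg CommRingCat.Hom.hom hpo.w)
  haveI : Algebra.IsPushout Γ(S, W) Γ(X, V) Γ(S', W') Γ(X', U) := CommRingCat.isPushout_iff_isPushout.mp hpo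
  haveI : Algebra.IsPushout Γ(S, W) Γ(S', W') Γ(X, V) Γ(X', U) := Algebra.IsPushout.symm ‹_›
  haveI : Module.Flat Γ(S, W) Γ(S', W') := g.flat_appLE hW hW' eW
  have hxV : g' x' ∈ V := eU hxU
  have hsW : f (g' x') ∈ W := eV hxV
  have hsW' : f' x' ∈ W' := eU' hxU
  letI := X.presheaf.algebra_section_stalk ⟨g' x', hxV⟩
  haveI hlocV := hV.isLocalization_stalk ⟨g' x', hxV⟩
  letI := X'.presheaf.algebra_section_stalk ⟨x', hxU⟩
  haveI := hU.isLocalization_stalk ⟨x', hxU⟩
  letI := S.presheaf.algebra_section_stalk ⟨f (g' x'), hsW⟩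
  haveI := hW.isLocalization_stalk ⟨f (g' x'), hsW⟩
  letI := S'.presheaf.algebra_section_stalk ⟨f' x', hsW'⟩
  haveI := hW'.isLocalization_stalk ⟨f' x', hsW'⟩
  haveI : Module.Flat Γ(X', U) (X'.presheaf.stalk x') :=
    IsLocalization.flat _ (hU.primeIdealOf ⟨x', hxU⟩).asIdeal.primeCompl
  letI : Algebra (X.presheaf.stalk (g' x')) (X'.presheaf.stalk x') := (PullStalk.φ g' x').toAlgebra
  letI : Algebra Γ(X, V) (X'.presheaf.stalk x') :=
    ((algebraMap Γ(X', U) (X'.presheaf.stalk x')).comp (algebraMap Γ(X, V) Γ(X', U))).toAlgebra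
  haveI : IsScalarTower Γ(X, V) Γ(X', U) (X'.presheaf.stalk x') := IsScalarTower.of_algebraMap_eq fun _ => rfl
  haveI : IsScalarTower Γ(X, V) (X.presheaf.stalk (g' x')) (X'.presheaf.stalk x') :=
    IsScalarTower.of_algebraMap_eq fun r => (Groth.L20.ModStalk.stalkMap_germ eU hxU (eU hxU) r).symm
  letI : Algebra Γ(S, W) (X.presheaf.stalk (g' x')) :=
    ((algebraMap Γ(X, V) (X.presheaf.stalk (g' x'))).comp (algebraMap Γ(S, W) Γ(X, V))).toAlgebra
  haveI : IsScalarTower Γ(S, W) Γ(X, V) (X.presheaf.stalk (g' x')) := IsScalarTower.of_algebraMap_eq fun _ => rfl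
  letI : Algebra (S.presheaf.stalk (f (g' x'))) (X.presheaf.stalk (g' x')) := (f.stalkMap (g' x')).hom.toAlgebra
  haveI : IsScalarTower Γ(S, W) (S.presheaf.stalk (f (g' x'))) (X.presheaf.stalk (g' x')) :=
    IsScalarTower.of_algebraMap_eq fun r => (Groth.L20.ModStalk.stalkMap_germ eV hxV hsW r).symm
  letI : Algebra Γ(S', W') (X'.presheaf.stalk x') :=
    ((algebraMap Γ(X', U) (X'.presheaf.stalk x')).comp (algebraMap Γ(S', W') Γ(X', U))).toAlgebra
  haveI : IsScalarTower Γ(S', W') Γ(X', U) (X'.presheaf.stalk x') := IsScalarTower.of_algebraMap_eq fun _ => rfl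
  letI : Algebra (S'.presheaf.stalk (f' x')) (X'.presheaf.stalk x') := (f'.stalkMap x').hom.toAlgebra
  haveI : IsScalarTower Γ(S', W') (S'.presheaf.stalk (f' x')) (X'.presheaf.stalk x') :=
    IsScalarTower.of_algebraMap_eq fun r => (Groth.L20.ModStalk.stalkMap_germ eU' hxU hsW' r).symm
  let K := (Stk.S X (g' x')).obj P
  have h1 : DRing.HasTorAmplitudeIn Γ(S, W) a b
      (DRing.toD ((_root_.DTen.resCx (algebraMap Γ(S, W) (X.presheaf.stalk (g' x')))).obj K)) :=
    (amp_localization_iff (B := S.presheaf.stalk (f (g' x')))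
      (hW.primeIdealOf ⟨f (g' x'), hsW⟩).asIdeal.primeCompl K a b).2 h
  have h2 := AmpFlatBC.amp_flat_bc (A' := Γ(S', W')) (B := Γ(X, V)) (B' := Γ(X', U)) (T := X'.presheaf.stalk x')
    (hV.primeIdealOf ⟨g' x', hxV⟩).asIdeal.primeCompl K h1
  have h3 := (amp_localization_iff (B := S'.presheaf.stalk (f' x'))
    (hW'.primeIdealOf ⟨f' x', hsW'⟩).asIdeal.primeCompl _ a b).1 h2
  exact Groth.L10.DR.amp_of_iso (DerivedCategory.Q.mapIso
    ((_root_.DTen.resCx (f'.stalkMap x').hom).mapIso (Groth.L00.KFlat.pullCxIso g' P x').symm :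
      (_root_.DTen.resCx (f'.stalkMap x').hom).obj _ ≅ (DerSch.stalkCxOver f' x').obj ((PullTensor.pullCx g').obj P))) h3

open Groth.L00 Groth.L29.DC in
/-- flat base change keeps stalkwise tor amplitude -/
theorem torAmpD_Lpull (hc : IsPullback g' f' f g) [Flat g] [DCoh.HasLpull g'] (F : CochainComplex X.Modules ℤ)
    {a b : ℤ} (hF : DerSch.HasTorAmplitude f a b F) :
    DerSch.HasTorAmplitudeD f' a b ((DCoh.Lpull g').obj (DCoh.toD X F)) := by
  obtain ⟨P, q, hP, -, hq, -⟩ := Groth.L00.KFlat.exists_resolution F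
  haveI := (DerivedCategory.isIso_Q_map_iff_quasiIso _ q).2 hq
  let eP : DCoh.toD X P ≅ DCoh.toD X F := asIso (DerivedCategory.Q.map q)
  rintro F' ⟨eF⟩ x
  exact MixedAmp.torAmpAt_congr f' x ((DerivedApi.objIso (DerivedApi.acyclicKFlat_pullback g') P hP).symm ≪≫
    (DCoh.Lpull g').mapIso eP ≪≫ eF.symm)
    (torAmpAt_pullCx hc P x (MixedAmp.torAmpAt_congr f (g' x) eP.symm (hF (g' x))))

end Groth.L10.RelPC.TorFlatBC
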