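import Groth.Agent.L10.RelPC.FlatModule
import Groth.Agent.L10.DRing.RelPerfOps

/-! Bounded models of relatively perfect complexes. -/

universe u

open CategoryTheory CategoryTheory.Limits CategoryTheory.Pretriangulated CochainComplex TensorProduct

attribute [local instance] HasDerivedCategory.standard

set_option backward.defeqAttrib.useBackward true
set_option backward.isDefEq.respectTransparency false
namespace Groth.L10.RelPC

open Groth.L02.PC Groth.L10.DR Groth.L20.TorAmp

variable (R A : Type u) [CommRing R] [CommRing A] [Algebra R A]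

theorem flat_res_quot {M N : ModuleCat.{u} A} (d : M ⟶ N)
    (h : Module.Flat R (((ModuleCat.restrictScalars.{u} (algebraMap R A)).obj N) ⧸
      LinearMap.range ((ModuleCat.restrictScalars.{u} (algebraMap R A)).map d).hom)) :
    Module.Flat R ((ModuleCat.restrictScalars.{u} (algebraMap R A)).obj
      (ModuleCat.of A (N ⧸ LinearMap.range d.hom))) := by
  letI : Module R N := Module.compHom N (algebraMap R A)
  haveI : IsScalarTower R A N := IsScalarTower.of_algebraMap_smul fun _ _ => rfl
  haveI hq : Module.Flat R (N ⧸ (LinearMap.range d.hom).restrictScalars R) := h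
  haveI h2 : Module.Flat R (N ⧸ LinearMap.range d.hom) :=
    Module.Flat.of_linearEquiv (Submodule.Quotient.restrictScalarsEquiv R (LinearMap.range d.hom)).symm
  let eq' : ((ModuleCat.restrictScalars.{u} (algebraMap R A)).obj
      (ModuleCat.of A (N ⧸ LinearMap.range d.hom))) ≃ₗ[R] (N ⧸ LinearMap.range d.hom) :=
    { AddEquiv.refl (N ⧸ LinearMap.range d.hom) with
      map_smul' := fun r x => IsScalarTower.algebraMap_smul A r (M := N ⧸ LinearMap.range d.hom) x }
  exact Module.Flat.of_linearEquiv eq'

theorem exists_model [Module.Flat R A] {K : Dual.D A} (hK : Dual2.IsRelPerfect R A K) :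
    ∃ (E : DRing.Cx A) (a b : ℤ), DRing.VanishesOutside E a b ∧
      (∀ i : ℤ, Module.FinitePresentation A (E.X i) ∧
        Module.Flat R ((ModuleCat.restrictScalars (algebraMap R A)).obj (E.X i))) ∧
      Nonempty (DRing.toD E ≅ K) := by
  obtain ⟨hpc, a, b, hamp⟩ := hK
  obtain ⟨c, hc⟩ := Groth.L10.RelPerfOps.leh_of_pc' hpc
  obtain ⟨P, hPb, hPf, ⟨e⟩⟩ := exists_finiteFree_le (fun m => pc_of_pc' hpc m) c hc
  have hflat : DRing.TermwiseFlat (res (A := R) P) := fun i => by
    haveI := (hPf i).2
    exact flat_restrict (P.X i)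
  have hresb : DRing.VanishesAbove (res (A := R) P) c := fun i hi =>
    Functor.map_isZero (ModuleCat.restrictScalars.{u} (algebraMap R A)) (hPb i hi)
  have ht := ((amp_iff ((resIso P).symm ≪≫ (DRing.restrictD (algebraMap R A)).mapIso e) hresb hflat a b).1
    hamp).1
  have hP0 : ∀ i, i < a → IsZero (P.homology i) := fun i hi =>
    isZero_of_isZero_restrict (A := R) _
      ((tz_homology (ht i hi)).of_iso ((P.sc i).mapHomologyIso (ModuleCat.restrictScalars.{u} (algebraMap R A))).symm)
  obtain ⟨e'⟩ := toD_truncGE_iso a hP0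
  refine ⟨P.truncGE a, a, c, vanishesOutside_truncGE a c hPb, fun i => ?_, ⟨e'.symm ≪≫ e⟩⟩
  rcases lt_trichotomy i a with hi | rfl | hi
  · have hz := CochainComplex.isZero_of_isStrictlyGE (P.truncGE a) a i hi
    haveI := ModuleCat.subsingleton_of_isZero hz
    haveI : Subsingleton ((ModuleCat.restrictScalars (algebraMap R A)).obj ((P.truncGE a).X i)) :=
      ModuleCat.subsingleton_of_isZero (Functor.map_isZero (ModuleCat.restrictScalars.{u} (algebraMap R A)) hz)
    exact ⟨inferInstance, inferInstance⟩
  · obtain ⟨q⟩ := truncGE_X_iso P i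
    haveI := (hPf i).1; haveI := (hPf i).2; haveI := (hPf (i - 1)).1
    haveI : Module.FinitePresentation A (P.X i) := Module.finitePresentation_of_projective A (P.X i)
    haveI : Module.FinitePresentation A (P.X i ⧸ LinearMap.range (P.d (i - 1) i).hom) :=
      Module.finitePresentation_of_surjective _ (Submodule.mkQ_surjective _)
        (by rw [Submodule.ker_mkQ]; exact LinearMap.range_eq_map (P.d (i - 1) i).hom ▸
              (Module.Finite.fg_top (R := A) (M := P.X (i - 1))).map _)
    refine ⟨Module.FinitePresentation.of_equiv q.toLinearEquiv.symm, ?_⟩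
    have hq := flat_coker_of_tz hflat i (ht _ (by omega))
    haveI := flat_res_quot R A (P.d (i - 1) i) hq
    exact Module.Flat.of_linearEquiv
      ((ModuleCat.restrictScalars.{u} (algebraMap R A)).mapIso q).toLinearEquiv
  · haveI := (hPf i).1; haveI := (hPf i).2
    haveI : Module.FinitePresentation A (P.X i) := Module.finitePresentation_of_projective A (P.X i)
    have h2 : Module.Flat R ((ModuleCat.restrictScalars.{u} (algebraMap R A)).obj (P.X i)) := hflat i
    haveI := h2
    exact ⟨Module.FinitePresentation.of_equiv (CochainComplex.truncGEXIso P a i hi).toLinearEquiv.symm,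
      Module.Flat.of_linearEquiv ((ModuleCat.restrictScalars.{u} (algebraMap R A)).mapIso
        (CochainComplex.truncGEXIso P a i hi)).toLinearEquiv⟩

theorem isRelPerfect_of_model [Module.Flat R A] [Algebra.FinitePresentation R A] {K : Dual.D A}
    (E : DRing.Cx A) (a b : ℤ) (hE : DRing.VanishesOutside E a b)
    (hT : ∀ i : ℤ, Module.FinitePresentation A (E.X i) ∧
      Module.Flat R ((ModuleCat.restrictScalars (algebraMap R A)).obj (E.X i)))
    (e : DRing.toD E ≅ K) : Dual2.IsRelPerfect R A K := by
  refine ⟨pc'_of_forall fun m => pc_of_iso e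
    (pc_of_terms m E b (fun i hi => hE i (Or.inr hi)) fun i _ => ?_), a, b, res (A := R) E,
    fun i hi => Functor.map_isZero (ModuleCat.restrictScalars.{u} (algebraMap R A)) (hE i hi),
    fun i => (hT i).2, ⟨(resIso E).symm ≪≫ (DRing.restrictD (algebraMap R A)).mapIso e⟩⟩
  letI : Module R (E.X i) := Module.compHom (E.X i) (algebraMap R A)
  haveI : IsScalarTower R A (E.X i) := IsScalarTower.of_algebraMap_smul fun _ _ => rfl
  haveI := (hT i).1
  haveI : Module.Flat R (E.X i) := (hT i).2
  exact pc_single i m (pc_of_pc' (pc'_flat_module R A (E.X i)) _)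

end Groth.L10.RelPC
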