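import Groth.Agent.L10.DRing.PCRestrict
import Groth.Agent.L10.DRing.PCEvalZero
import Groth.Prelude.Def_DerCA
import Mathlib.RingTheory.MvPolynomial.Basic
import Mathlib.RingTheory.AdjoinRoot
import Mathlib.Algebra.MvPolynomial.Equiv

/-! Pseudo-coherent ring homomorphisms (as modules) and restriction of scalars. -/

universe u

open CategoryTheory CategoryTheory.Limits CategoryTheory.Pretriangulated

attribute [local instance] HasDerivedCategory.standard

set_option backward.defeqAttrib.useBackward true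
set_option backward.isDefEq.respectTransparency false
namespace Groth.L10.RelPC

open Groth.L02.PC Groth.L10.DR

variable {A B C : Type u} [CommRing A] [CommRing B] [CommRing C]

/-- pseudo-coherence after restriction of scalars -/
abbrev Pc (φ : A →+* B) (m : ℤ) (K : Dual.D B) : Prop :=
  DRing.IsPseudoCoherent A m ((DRing.restrictD φ).obj K)

/-- termwise computation of restriction -/
noncomputable def resQ (φ : A →+* B) (P : DRing.Cx B) :
    (DRing.restrictD φ).obj (DRing.toD P) ≅ DRing.toD ((DRing.restrictCx φ).obj P) :=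
  (ModuleCat.restrictScalars.{u} φ).mapDerivedCategoryFactors.app P

/-- restriction along a composite -/
noncomputable def compIso {h : A →+* C} (φ : A →+* B) (ψ : B →+* C) (e : h = ψ.comp φ) (K : Dual.D C) :
    (DRing.restrictD h).obj K ≅ (DRing.restrictD φ).obj ((DRing.restrictD ψ).obj K) :=
  let P := DerivedCategory.Q.objPreimage K
  let eP : DRing.toD P ≅ K := DerivedCategory.Q.objObjPreimageIso K
  let eC : (DRing.restrictCx h).obj P ≅ (DRing.restrictCx φ).obj ((DRing.restrictCx ψ).obj P) :=
    HomologicalComplex.Hom.isoOfComponents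
      (fun i => ModuleCat.restrictScalarsComp'App φ ψ h e (P.X i)) (fun _ _ _ => rfl)
  (DRing.restrictD h).mapIso eP.symm ≪≫ resQ h P ≪≫ DerivedCategory.Q.mapIso eC ≪≫
    (resQ φ _).symm ≪≫ (DRing.restrictD φ).mapIso ((resQ ψ P).symm ≪≫ (DRing.restrictD ψ).mapIso eP)

theorem Pc.comp_iff {h : A →+* C} (φ : A →+* B) (ψ : B →+* C) (e : h = ψ.comp φ) {m : ℤ} (K : Dual.D C) :
    Pc h m K ↔ Pc φ m ((DRing.restrictD ψ).obj K) :=
  ⟨pc_of_iso (compIso φ ψ e K), pc_of_iso (compIso φ ψ e K).symm⟩

theorem Pc.of_iso {φ : A →+* B} {m : ℤ} {K L : Dual.D B} (e : K ≅ L) (h : Pc φ m K) : Pc φ m L :=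
  pc_of_iso ((DRing.restrictD φ).mapIso e) h

/-- `B` is a pseudo-coherent `A`-module via `φ` -/
def PCHom (φ : A →+* B) : Prop :=
  letI := φ.toAlgebra
  DRing.IsPseudoCoherentModule' A B

theorem PCHom.pc_iff {φ : A →+* B} (hφ : PCHom φ) (m : ℤ) (K : Dual.D B) :
    DRing.IsPseudoCoherent B m K ↔ Pc φ m K :=
  @PCRestrict.pc_iff_restrict A B _ _ φ.toAlgebra hφ K m

/-- inD and restriction -/
noncomputable def inDIso (φ : A →+* B) (M : Type u) [AddCommGroup M] [Module B M] [Module A M]
    (hsm : ∀ (a : A) (x : M), a • x = φ a • x) :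
    (DRing.restrictD φ).obj (Dual.inD B M) ≅ Dual.inD A M :=
  ((ModuleCat.restrictScalars.{u} φ).mapDerivedCategorySingleFunctor 0).app (ModuleCat.of B M) ≪≫
    (DerivedCategory.singleFunctor (ModuleCat.{u} A) 0).mapIso
      (LinearEquiv.toModuleIso
        (X₁ := (ModuleCat.restrictScalars.{u} φ).obj (ModuleCat.of B M))
        { AddEquiv.refl M with map_smul' := fun a x => (hsm a x).symm })

theorem PCHom.pcModule' {φ : A →+* B} (hφ : PCHom φ) (m : ℤ) :
    Pc φ m (Dual.inD B B) := by
  letI := φ.toAlgebra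
  exact pc_of_iso (inDIso φ B fun a x => Algebra.smul_def a x).symm (pc_of_pc' hφ m)

theorem PCHom.of_forall {φ : A →+* B} (h : ∀ m, Pc φ m (Dual.inD B B)) : PCHom φ := by
  letI := φ.toAlgebra
  exact pc'_of_forall fun m => pc_of_iso (inDIso φ B fun a x => Algebra.smul_def a x) (h m)

theorem PCHom.comp {φ : A →+* B} {ψ : B →+* C} (hφ : PCHom φ) (hψ : PCHom ψ) : PCHom (ψ.comp φ) :=
  PCHom.of_forall fun m => (Pc.comp_iff φ ψ rfl _).2 ((hφ.pc_iff m _).1 (hψ.pcModule' m))

theorem PCHom.of_regular {φ : A →+* B} (x : A) (hx : ∀ a b : A, x * a = x * b → a = b)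
    (hs : Function.Surjective φ) (hker : ∀ a, φ a = 0 ↔ x ∣ a) : PCHom φ :=
  @PCEvalZero.pc'_of_regular A B _ _ φ.toAlgebra x hx hs hker

theorem pcModule'_finiteFree (M : Type u) [AddCommGroup M] [Module A M] [Module.Finite A M]
    [Module.Free A M] : DRing.IsPseudoCoherentModule' A M := by
  let b := Module.Free.chooseBasis A M
  exact pc'_of_forall fun m => pc_of_iso
    ((DerivedCategory.singleFunctor (ModuleCat.{u} A) 0).mapIso
      ((b.reindex (Fintype.equivFin _)).equivFun).toModuleIso).symm (pcModule_free _ m)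

theorem PCHom.of_finite_free {φ : A →+* B} (hfin : letI := φ.toAlgebra; Module.Finite A B)
    (hfree : letI := φ.toAlgebra; Module.Free A B) : PCHom φ := by
  letI := φ.toAlgebra
  haveI := hfin; haveI := hfree
  exact pcModule'_finiteFree B

theorem PCHom.algebraMap_iff [inst : Algebra A B] :
    PCHom (algebraMap A B) ↔ DRing.IsPseudoCoherentModule' A B := by
  unfold PCHom
  rw [show (algebraMap A B).toAlgebra = inst from Algebra.algebra_ext _ _ fun _ => rfl]

theorem PCHom.ringEquiv (e : A ≃+* B) : PCHom (e : A →+* B) := by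
  letI := (e : A →+* B).toAlgebra
  let l : A ≃ₗ[A] B := LinearEquiv.ofBijective (Algebra.linearMap A B) e.bijective
  exact PCHom.of_finite_free (Module.Finite.equiv l) (Module.Free.of_equiv l)

theorem Pc.equiv_iff (e : A ≃+* B) {h : A →+* C} (ψ : B →+* C) (he : h = ψ.comp (e : A →+* B))
    {m : ℤ} (K : Dual.D C) : Pc h m K ↔ Pc ψ m K :=
  (Pc.comp_iff _ _ he K).trans ((PCHom.ringEquiv e).pc_iff m _).symm

/-- a section of the constants is a pseudo-coherent map -/
theorem PCHom.poly_retraction : ∀ (k : ℕ) (φ : MvPolynomial (Fin k) A →+* A)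
    (_ : φ.comp MvPolynomial.C = RingHom.id A), PCHom φ := by
  intro k
  induction k with
  | zero =>
    intro φ hφ
    let e := MvPolynomial.isEmptyRingEquiv A (Fin 0)
    have : φ = (e : MvPolynomial (Fin 0) A →+* A) := MvPolynomial.ringHom_ext
      (fun r => by
        have h1 : φ (MvPolynomial.C r) = r := RingHom.congr_fun hφ r
        exact h1.trans (e.apply_symm_apply r).symm)
      (fun i => i.elim0)
    rw [this]
    exact PCHom.ringEquiv e
  | succ k ih =>
    intro φ hφ
    let p : A := φ (MvPolynomial.X 0)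
    let ev : Polynomial (MvPolynomial (Fin k) A) →+* MvPolynomial (Fin k) A := Polynomial.evalRingHom (MvPolynomial.C p)
    let φ' : MvPolynomial (Fin k) A →+* A := MvPolynomial.eval fun i => φ (MvPolynomial.X i.succ)
    have hev : PCHom ev := PCHom.of_regular (Polynomial.X - Polynomial.C (MvPolynomial.C p : MvPolynomial (Fin k) A))
      (fun _ _ h => (Polynomial.monic_X_sub_C _).isRegular.left h)
      (fun r => ⟨Polynomial.C r, Polynomial.eval_C⟩)
      (fun q => (Polynomial.dvd_iff_isRoot (p := q)).symm)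
    have hφ' : PCHom φ' := ih φ' (RingHom.ext fun r => MvPolynomial.eval_C r)
    let e := (MvPolynomial.finSuccEquiv A k).toRingEquiv
    have : φ = (φ'.comp ev).comp (e : MvPolynomial (Fin (k + 1)) A →+* Polynomial (MvPolynomial (Fin k) A)) :=
      MvPolynomial.ringHom_ext
        (fun r => by
          have h1 : φ (MvPolynomial.C r) = r := RingHom.congr_fun hφ r
          simp [h1, e, ev, φ', MvPolynomial.finSuccEquiv_apply])
        (fun i => by
          refine Fin.cases ?_ (fun j => ?_) i
          · simp [e, ev, φ', p, MvPolynomial.finSuccEquiv_X_zero]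
          · simp [e, ev, φ', MvPolynomial.finSuccEquiv_X_succ])
    rw [this]
    exact (PCHom.ringEquiv e).comp (hev.comp hφ')

/-- one integral variable does not matter -/
theorem Pc.polynomial_integral_iff (φ : Polynomial A →+* B)
    (hint : (φ.comp Polynomial.C).IsIntegralElem (φ Polynomial.X)) {m : ℤ} (K : Dual.D B) :
    Pc φ m K ↔ Pc (φ.comp Polynomial.C) m K := by
  obtain ⟨p, hp, hp0⟩ := hint
  have hφp : φ p = 0 := by
    rw [← hp0]
    exact RingHom.congr_fun (Polynomial.ringHom_ext' (g := Polynomial.eval₂RingHom (φ.comp Polynomial.C) (φ Polynomial.X))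
      (RingHom.ext fun r => by simp) (by simp)) p
  let q : Polynomial A →+* AdjoinRoot p := AdjoinRoot.mk p
  have hq : PCHom q := PCHom.of_regular p (fun _ _ h => hp.isRegular.left h) AdjoinRoot.mk_surjective
    (fun a => AdjoinRoot.mk_eq_zero)
  let ψ : AdjoinRoot p →+* B := AdjoinRoot.lift (φ.comp Polynomial.C) (φ Polynomial.X) hp0
  have h1 : φ = ψ.comp q := Polynomial.ringHom_ext' (RingHom.ext fun r => by simp [ψ, q])
    (by simp [ψ, q])
  have h2 : φ.comp Polynomial.C = ψ.comp (AdjoinRoot.of p) :=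
    RingHom.ext fun r => by simp [ψ]
  have ho : PCHom (AdjoinRoot.of p) := by
    haveI := Module.Finite.of_basis (AdjoinRoot.powerBasis' hp).basis
    haveI := Module.Free.of_basis (AdjoinRoot.powerBasis' hp).basis
    rw [← AdjoinRoot.algebraMap_eq]
    exact PCHom.algebraMap_iff.2 (pcModule'_finiteFree _)
  rw [Pc.comp_iff _ _ h1, Pc.comp_iff _ _ h2, ← hq.pc_iff, ← ho.pc_iff]

/-- integral variables do not matter -/
theorem Pc.poly_integral_iff : ∀ (k : ℕ) (φ : MvPolynomial (Fin k) A →+* B)
    (_ : ∀ i, (φ.comp MvPolynomial.C).IsIntegralElem (φ (MvPolynomial.X i))) {m : ℤ} (K : Dual.D B),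
    Pc φ m K ↔ Pc (φ.comp MvPolynomial.C) m K := by
  intro k
  induction k with
  | zero =>
    intro φ _ m K
    refine (Pc.equiv_iff (MvPolynomial.isEmptyRingEquiv A (Fin 0)) _ ?_ K)
    exact MvPolynomial.ringHom_ext (fun r => congrArg (fun x => φ (MvPolynomial.C x)) ((MvPolynomial.isEmptyRingEquiv A (Fin 0)).apply_symm_apply r).symm) (fun i => i.elim0)
  | succ k ih =>
    intro φ hint m K
    let e := (MvPolynomial.finSuccEquiv A k).toRingEquiv
    let φ₁ : Polynomial (MvPolynomial (Fin k) A) →+* B := φ.comp (e.symm : _ →+* _)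
    have h1 : φ = φ₁.comp (e : MvPolynomial (Fin (k + 1)) A →+* _) :=
      RingHom.ext fun x => by simp [φ₁]
    have hC : (φ₁.comp Polynomial.C).comp MvPolynomial.C = φ.comp MvPolynomial.C :=
      RingHom.ext fun r => by
        simp only [φ₁, RingHom.comp_apply]
        congr 1
        apply e.injective
        simp [e, MvPolynomial.finSuccEquiv_apply]
    have hX0 : φ₁ Polynomial.X = φ (MvPolynomial.X 0) := by
      simp only [φ₁, RingHom.comp_apply]
      congr 1
      apply e.injective
      simp [e, MvPolynomial.finSuccEquiv_X_zero]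
    have hXs : ∀ i, (φ₁.comp Polynomial.C) (MvPolynomial.X i) = φ (MvPolynomial.X i.succ) := fun i => by
      simp only [φ₁, RingHom.comp_apply]
      congr 1
      apply e.injective
      simp [e, MvPolynomial.finSuccEquiv_X_succ]
    refine (Pc.equiv_iff e φ₁ h1 K).trans ?_
    refine (Pc.polynomial_integral_iff φ₁ ?_ K).trans ?_
    · rw [hX0]
      obtain ⟨p, hp, hp0⟩ := hint 0
      exact ⟨p.map MvPolynomial.C, hp.map _, by rw [Polynomial.eval₂_map, hC]; exact hp0⟩
    · rw [ih (φ₁.comp Polynomial.C) (fun i => by rw [hC, hXs]; exact hint _) K, hC]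

end Groth.L10.RelPC
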