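import Groth.Agent.L10.RelPC.AmpFlatBC
import Groth.Agent.L10.DRing.KFlatLBC
import Groth.Agent.L10.DRing.TorTest
import Mathlib.Algebra.Homology.DerivedCategory.KProjective
import Mathlib.Algebra.Homology.DerivedCategory.ShortExact
import Mathlib.RingTheory.Flat.Stability

/-!
Tor amplitude under tor independent base change: both sides flat over a common base.
-/

set_option autoImplicit false
set_option linter.style.haveILetI false
set_option backward.isDefEq.respectTransparency false
set_option backward.isDefEq.respectTransparency.types false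
set_option backward.defeqAttrib.useBackward true

universe u

open CategoryTheory CategoryTheory.Limits MonoidalCategory
open scoped TensorProduct ZeroObject

attribute [local instance] HasDerivedCategory.standard
attribute [local instance] Algebra.TensorProduct.rightAlgebra

namespace Groth.L10.RelPC.AmpIndepBC

open Groth.L10.AmpTest Groth.L10.LocalAmp

variable {R R' A A' : Type u} [CommRing R] [CommRing R'] [CommRing A] [CommRing A']
  [Algebra R R'] [Algebra R A] [Algebra R' A'] [Algebra A A'] [Algebra R A']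
  [IsScalarTower R A A'] [IsScalarTower R R' A']

/-- a K-projective complex maps to every complex isomorphic to it in the derived category -/
theorem exists_qis {Q L : DRing.Cx A} [Q.IsKProjective] (e : DRing.toD Q ≅ DRing.toD L) :
    ∃ p : Q ⟶ L, QuasiIso p := by
  let q := DerivedCategory.quotientCompQhIso (ModuleCat.{u} A)
  obtain ⟨g, hg⟩ := (CochainComplex.IsKProjective.Qh_map_bijective Q _).surjective
    ((q.app Q).hom ≫ e.hom ≫ (q.app L).inv)
  obtain ⟨p, rfl⟩ := (HomotopyCategory.quotient (ModuleCat.{u} A) (ComplexShape.up ℤ)).map_surjective g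
  have hn := q.hom.naturality p
  dsimp at hn hg
  rw [hg] at hn
  have hp : DerivedCategory.Q.map p = e.hom := by
    simpa using hn.symm
  exact ⟨p, (DerivedCategory.isIso_Q_map_iff_quasiIso _ p).1 (hp ▸ inferInstance)⟩

/-- base change keeps quasi-isomorphisms of bounded above complexes with terms flat over the base -/
theorem quasiIso_ext [Algebra.IsPushout R R' A A'] {P L : DRing.Cx A} (p : P ⟶ L) [QuasiIso p] {b : ℤ}
    (hP : DRing.VanishesAbove P b) (hL : DRing.VanishesAbove L b)
    (hPf : DRing.TermwiseFlat ((_root_.DTen.resCx (algebraMap R A)).obj P))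
    (hLf : DRing.TermwiseFlat ((_root_.DTen.resCx (algebraMap R A)).obj L)) :
    QuasiIso ((_root_.DTen.extCx (algebraMap A A')).map p) := by
  let G := ModuleCat.restrictScalars.{u} (algebraMap R A)
  let E := ModuleCat.extendScalars.{u, u, u} (algebraMap R R')
  haveI : Algebra.IsPushout R A R' A' := Algebra.IsPushout.symm ‹_›
  let η : G ⋙ E ≅ ModuleCat.extendScalars.{u, u, u} (algebraMap A A') ⋙
      ModuleCat.restrictScalars.{u} (algebraMap R' A') := Groth.L10.RelPC.extResNat R R' A A'
  let Pr := (G.mapHomologicalComplex (ComplexShape.up ℤ)).obj P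
  let Lr := (G.mapHomologicalComplex (ComplexShape.up ℤ)).obj L
  let pr : Pr ⟶ Lr := (G.mapHomologicalComplex (ComplexShape.up ℤ)).map p
  haveI : QuasiIso pr := inferInstance
  let C := CochainComplex.mappingCone pr
  have hC : ∀ i, IsZero (C.homology i) := fun i => by
    refine (Groth.L02.PC.isZero_HH_Q_iff C i).1 ?_
    haveI : IsIso (DerivedCategory.Q.map pr) := (DerivedCategory.isIso_Q_map_iff_quasiIso _ pr).2 inferInstance
    exact (DerivedCategory.homologyFunctor _ i).map_isZero
      (Pretriangulated.Triangle.isZero₃_of_isIso₁ _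
        ((DerivedCategory.mem_distTriang_iff _).2 ⟨_, _, pr, ⟨Iso.refl _⟩⟩) (show IsIso (DerivedCategory.Q.map pr) from inferInstance))
  have hCb : DRing.VanishesAbove C b := fun i hi => by
    rw [IsZero.iff_id_eq_zero]
    refine CochainComplex.mappingCone.ext_from pr (i + 1) i rfl ?_ ?_
    · exact (G.map_isZero (hP (i + 1) (by omega))).eq_of_src _ _
    · exact (G.map_isZero (hL i hi)).eq_of_src _ _
  have hCf : DRing.TermwiseFlat C := Groth.L10.KFlat.flat_mappingCone pr hPf hLf
  have hz : ∀ i, IsZero (((_root_.DTen.extCx (algebraMap R R')).obj C).homology i) := fun i =>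
    (Groth.L00.KFlatAlg.acyclic_restrictScalars (algebraMap R R') _ i).1
      ((iso_homology (resExtIso (algebraMap R R') C ≪≫ tensorResOne (algebraMap R R') C) i).2
        (Groth.L10.DR.tz_of_exact C b hCb hCf hC i (resOne (algebraMap R R'))))
  have hq : QuasiIso ((_root_.DTen.extCx (algebraMap R R')).map pr) := by
    let C' := CochainComplex.mappingCone ((_root_.DTen.extCx (algebraMap R R')).map pr)
    have hC' : ∀ i, IsZero (C'.homology i) := fun i => (hz i).of_iso
      ((HomologicalComplex.homologyFunctor _ _ i).mapIso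
        (CochainComplex.mappingCone.mapHomologicalComplexIso pr E).symm)
    refine (DerivedCategory.isIso_Q_map_iff_quasiIso _ _).1 ?_
    refine (Pretriangulated.Triangle.isZero₃_iff_isIso₁ _ ((DerivedCategory.mem_distTriang_iff _).2
      ⟨_, _, (_root_.DTen.extCx (algebraMap R R')).map pr, ⟨Iso.refl _⟩⟩)).1 ?_
    haveI : IsIso (0 : DerivedCategory.Q.obj C' ⟶ 0) :=
      (DerivedCategory.isIso_iff (ModuleCat.{u} R') _).2 fun i =>
        Limits.isIso_of_isInitial ((Groth.L02.PC.isZero_HH_Q_iff C' i).2 (hC' i)).isInitial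
          ((DerivedCategory.homologyFunctor _ i).map_isZero (isZero_zero _)).isInitial _
    exact (isZero_zero _).of_iso (asIso (0 : DerivedCategory.Q.obj C' ⟶ 0))
  haveI : QuasiIso ((ModuleCat.restrictScalars.{u} (algebraMap R' A')).mapHomologicalComplex (ComplexShape.up ℤ) |>.map
      ((_root_.DTen.extCx (algebraMap A A')).map p)) := by
    let η' := NatIso.mapHomologicalComplex η (ComplexShape.up ℤ)
    exact (HomologicalComplex.mem_quasiIso_iff _).1
      (((HomologicalComplex.quasiIso (ModuleCat.{u} R') (ComplexShape.up ℤ)).arrow_mk_iso_iff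
        (Arrow.isoMk (η'.app P) (η'.app L) (η'.hom.naturality p).symm)).1
        ((HomologicalComplex.mem_quasiIso_iff _).2 hq))
  exact (HomologicalComplex.quasiIso_map_iff_of_preservesHomology _ (ModuleCat.restrictScalars.{u} (algebraMap R' A'))).1
    inferInstance

/-- amplitude is kept by flat extensions upstairs -/
theorem amp_ext_flat {B C : Type u} [CommRing B] [CommRing C] [Algebra A B] [Algebra A C] (ψ : B →+* C)
    (hψ : algebraMap A C = ψ.comp (algebraMap A B)) [Module.Flat B (resOne ψ)] (X : DRing.Cx B) {a b : ℤ}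
    (h : DRing.HasTorAmplitudeIn A a b (DRing.toD ((_root_.DTen.resCx (algebraMap A B)).obj X))) :
    DRing.HasTorAmplitudeIn A a b (DRing.toD ((_root_.DTen.resCx (algebraMap A C)).obj
      ((_root_.DTen.extCx ψ).obj X))) :=
  (amp_iff_test _ a b).2 fun N P hP e i hi =>
    (test_ext ψ hψ P X i).2 (isZero_tensor_flat _ _ i ((amp_restrict_iff X a b).1 h N P hP e i hi))

variable {B B' Bx T : Type u} [CommRing B] [CommRing B'] [CommRing Bx] [CommRing T]
  [Algebra A B] [Algebra A B'] [Algebra A' B'] [Algebra B B']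
  [IsScalarTower A B B'] [IsScalarTower A A' B'] [Algebra.IsPushout A A' B B']
  [Algebra B Bx] [Algebra A Bx] [IsScalarTower A B Bx] [Algebra R Bx] [IsScalarTower R A Bx]
  [Algebra B' T] [Algebra Bx T] [Algebra B T] [IsScalarTower B B' T] [IsScalarTower B Bx T]
  [Algebra A' T] [IsScalarTower A' B' T]

/-- base change from the common base, both algebras flat over it -/
theorem amp_indep_bc [Algebra.IsPushout R R' A A'] [Module.Flat R A] [Module.Flat R Bx] (S : Submonoid B)
    [IsLocalization S Bx] [Module.Flat B' T] (K : DRing.Cx Bx) (hK : DRing.IsKFlat Bx K) {a b : ℤ}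
    (h : DRing.HasTorAmplitudeIn A a b (DRing.toD ((_root_.DTen.resCx (algebraMap A Bx)).obj K))) :
    DRing.HasTorAmplitudeIn A' a b (DRing.toD ((_root_.DTen.resCx (algebraMap A' T)).obj
      ((_root_.DTen.extCx (algebraMap Bx T)).obj K))) := by
  have hb : Groth.L02.PC.LEH (DRing.toD K) b := fun i hi => (Groth.L02.PC.isZero_HH_Q_iff K i).2
    ((Groth.L00.KFlatAlg.acyclic_restrictScalars (algebraMap A Bx) K i).1
      ((Groth.L02.PC.isZero_HH_Q_iff _ i).1 (Groth.L10.DR.amp_LEH h i hi)))
  obtain ⟨P₀, hP₀b, hP₀f, hP₀k, ⟨eK⟩⟩ := Groth.L02.PC.exists_free_rep hb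
  haveI := hP₀k
  obtain ⟨pK, hpK⟩ := exists_qis eK
  have hP₀fl : DRing.TermwiseFlat P₀ := fun i => by
    haveI := hP₀f i
    infer_instance
  let L : DRing.Cx A := (_root_.DTen.resCx (algebraMap A Bx)).obj P₀
  have hLb : DRing.VanishesAbove L b := fun i hi => (ModuleCat.restrictScalars _).map_isZero (hP₀b i hi)
  have hLf : DRing.TermwiseFlat ((_root_.DTen.resCx (algebraMap R A)).obj L) := fun i => by
    haveI := hP₀fl i
    letI : Module R (P₀.X i) := Module.compHom (P₀.X i) (algebraMap R Bx)
    haveI : IsScalarTower R Bx (P₀.X i) := IsScalarTower.of_algebraMap_smul fun _ _ => rfl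
    haveI : Module.Flat R (P₀.X i) := Module.Flat.trans R Bx (P₀.X i)
    let F := ModuleCat.restrictScalars.{u} (algebraMap R Bx)
    haveI : Module.Flat R (F.obj (P₀.X i)) :=
      Module.Flat.of_linearEquiv (M := P₀.X i)
        { AddEquiv.refl (P₀.X i) with map_smul' := fun _ _ => rfl }
    exact Module.Flat.of_linearEquiv
      ((ModuleCat.restrictScalarsComp'.{u} (algebraMap R A) (algebraMap A Bx) (algebraMap R Bx)
        (IsScalarTower.algebraMap_eq R A Bx).symm.symm).app (P₀.X i)).symm.toLinearEquiv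
  have hL : DRing.HasTorAmplitudeIn A a b (DRing.toD L) := by
    haveI := (DerivedCategory.isIso_Q_map_iff_quasiIso _ pK).2 hpK
    let F := ModuleCat.restrictScalars.{u} (algebraMap A Bx)
    exact Groth.L10.DR.amp_of_iso (((F.mapDerivedCategoryFactors).app K).symm ≪≫
      F.mapDerivedCategory.mapIso (asIso (DerivedCategory.Q.map pK)).symm ≪≫
      (F.mapDerivedCategoryFactors).app P₀) h
  obtain ⟨E, hEv, hEf, ⟨eE⟩⟩ := hL
  have hEfR : DRing.TermwiseFlat ((_root_.DTen.resCx (algebraMap R A)).obj E) := fun i => by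
    haveI := hEf i
    exact Groth.L20.TorAmp.flat_restrict (E.X i)
  have hEb : DRing.VanishesAbove E b := fun i hi => hEv i (Or.inr hi)
  have hLle : Groth.L02.PC.LEH (DRing.toD L) b := fun i hi => (Groth.L02.PC.isZero_HH_Q_iff L i).2
    (isZero_homology_of_X (hLb i hi))
  obtain ⟨Q, hQb, hQf, hQk, ⟨eQ⟩⟩ := Groth.L02.PC.exists_free_rep hLle
  haveI := hQk
  obtain ⟨p, hp⟩ := exists_qis eQ
  obtain ⟨r, hr⟩ := exists_qis (eQ ≪≫ eE.symm)
  have hQfR : DRing.TermwiseFlat ((_root_.DTen.resCx (algebraMap R A)).obj Q) := fun i => by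
    haveI := hQf i
    exact Groth.L20.TorAmp.flat_restrict (Q.X i)
  haveI := quasiIso_ext (R' := R') (A' := A') p hQb hLb hQfR hLf
  haveI := quasiIso_ext (R' := R') (A' := A') r hQb hEb hQfR hEfR
  let eA := _root_.DTen.extCx (algebraMap A A')
  haveI := (DerivedCategory.isIso_Q_map_iff_quasiIso _ (eA.map p)).2 inferInstance
  haveI := (DerivedCategory.isIso_Q_map_iff_quasiIso _ (eA.map r)).2 inferInstance
  let R₂ := Bx ⊗[B] B'
  haveI : Algebra.IsPushout A B A' B' := Algebra.IsPushout.symm ‹_›
  haveI : IsLocalization (Algebra.algebraMapSubmonoid B' S) R₂ :=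
    (Algebra.isLocalization_iff_isPushout S Bx).2 inferInstance
  letI : Algebra A' R₂ := ((algebraMap B' R₂).comp (algebraMap A' B')).toAlgebra
  haveI : IsScalarTower A' B' R₂ := IsScalarTower.of_algebraMap_eq fun _ => rfl
  haveI : IsScalarTower A B' R₂ := IsScalarTower.of_algebraMap_eq fun r => by
    rw [IsScalarTower.algebraMap_apply A B B' r, ← IsScalarTower.algebraMap_apply B B' R₂,
      IsScalarTower.algebraMap_apply B Bx R₂, ← IsScalarTower.algebraMap_apply A B Bx,
      IsScalarTower.algebraMap_apply A Bx R₂]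
  haveI : IsScalarTower A A' R₂ := IsScalarTower.of_algebraMap_eq fun r => by
    change algebraMap A R₂ r = algebraMap B' R₂ (algebraMap A' B' (algebraMap A A' r))
    rw [← IsScalarTower.algebraMap_apply A A' B', ← IsScalarTower.algebraMap_apply A B' R₂]
  haveI : Algebra.IsPushout A Bx A' R₂ :=
    (Algebra.IsPushout.comp_iff (R := A) (S := B) (R' := A') (S' := B') (T := Bx) (T' := R₂)).2 inferInstance
  haveI : Algebra.IsPushout A A' Bx R₂ := Algebra.IsPushout.symm ‹_›
  let η := NatIso.mapHomologicalComplex (Groth.L10.RelPC.extResNat A A' Bx R₂) (ComplexShape.up ℤ)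
  have h2 : DRing.HasTorAmplitudeIn A' a b (DRing.toD ((_root_.DTen.resCx (algebraMap A' R₂)).obj
      ((_root_.DTen.extCx (algebraMap Bx R₂)).obj P₀))) :=
    ⟨eA.obj E, fun i hi => (ModuleCat.extendScalars _).map_isZero (hEv i hi), fun i => by
      haveI := hEf i
      exact Module.Flat.of_linearEquiv (Groth.L29.FlatBC.extEquiv A A' (E.X i)),
      ⟨(asIso (DerivedCategory.Q.map (eA.map r))).symm ≪≫ asIso (DerivedCategory.Q.map (eA.map p)) ≪≫
        DerivedCategory.Q.mapIso (η.app P₀)⟩⟩
  let ψ : R₂ →+* T :=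
    (Algebra.TensorProduct.lift (IsScalarTower.toAlgHom B Bx T) (IsScalarTower.toAlgHom B B' T)
      fun _ _ => Commute.all _ _).toRingHom
  letI : Algebra R₂ T := ψ.toAlgebra
  haveI : IsScalarTower B' R₂ T := IsScalarTower.of_algebraMap_eq fun r => by
    change algebraMap B' T r = ψ (1 ⊗ₜ r)
    refine Eq.trans ?_ (Algebra.TensorProduct.lift_tmul _ _ _ (1 : Bx) r).symm
    rw [map_one, one_mul]
    rfl
  haveI : Module.Flat R₂ T :=
    (Module.flat_iff_of_isLocalization R₂ (Algebra.algebraMapSubmonoid B' S) T).2 inferInstance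
  have hψ : algebraMap A' T = ψ.comp (algebraMap A' R₂) := RingHom.ext fun r => by
    change algebraMap A' T r = ψ (1 ⊗ₜ algebraMap A' B' r)
    refine Eq.trans ?_ (Algebra.TensorProduct.lift_tmul _ _ _ (1 : Bx) (algebraMap A' B' r)).symm
    rw [map_one, one_mul]
    exact IsScalarTower.algebraMap_apply A' B' T r
  have hBx : algebraMap Bx T = ψ.comp (algebraMap Bx R₂) := RingHom.ext fun r => by
    change algebraMap Bx T r = ψ (r ⊗ₜ 1)
    refine Eq.trans ?_ (Algebra.TensorProduct.lift_tmul _ _ _ r (1 : B')).symm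
    rw [map_one, mul_one]
    rfl
  haveI := flat_resOne ψ (A := R₂) (B := T) rfl
  have h3 := amp_ext_flat (A := A') ψ hψ _ h2
  haveI : QuasiIso ((_root_.DTen.extCx (algebraMap Bx T)).map pK) :=
    Groth.L10.DTen.quasiIso_ext (algebraMap Bx T) pK (Groth.L10.KFlat.of_bounded _ b hP₀b hP₀fl) hK
  let F := ModuleCat.restrictScalars.{u} (algebraMap A' T)
  haveI := (DerivedCategory.isIso_Q_map_iff_quasiIso _ ((_root_.DTen.extCx (algebraMap Bx T)).map pK)).2 inferInstance
  exact Groth.L10.DR.amp_of_iso (DerivedCategory.Q.mapIso ((_root_.DTen.resCx (algebraMap A' T)).mapIso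
      ((NatIso.mapHomologicalComplex (ModuleCat.extendScalarsComp.{u, u} (algebraMap Bx R₂) ψ) (ComplexShape.up ℤ)).app P₀).symm ≪≫
        (_root_.DTen.resCx (algebraMap A' T)).mapIso (eqToIso (by rw [hBx]) : _ ≅ (_root_.DTen.extCx (algebraMap Bx T)).obj P₀)) ≪≫
    ((F.mapDerivedCategoryFactors).app _).symm ≪≫
      F.mapDerivedCategory.mapIso (asIso (DerivedCategory.Q.map ((_root_.DTen.extCx (algebraMap Bx T)).map pK))) ≪≫
      (F.mapDerivedCategoryFactors).app _) h3

end Groth.L10.RelPC.AmpIndepBC
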