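import Groth.Agent.L10.RelPC.FlatModule
import Groth.Agent.L10.DRing.FlatFibre
import Groth.Agent.L10.DRing.PCRestrict
import Groth.Agent.L10.DRing.LTensorKFlat
import Groth.Agent.L10.Shriek.Adjoint
import Groth.Agent.L29.Dual.DualBC
import Groth.Agent.L04.RegularPd
import Groth.Prelude.Def_DualSh
import Mathlib.RingTheory.RegularLocalRing.Polynomial
import Mathlib.RingTheory.KrullDimension.Polynomial
import Mathlib.RingTheory.TensorProduct.MvPolynomial
import Mathlib.RingTheory.LocalRing.ResidueField.Fiber

/-!
Tor amplitude at a prime of a relatively pseudo-coherent complex, from the fibre.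
-/

set_option autoImplicit false

universe u

open CategoryTheory CategoryTheory.Limits TensorProduct

attribute [local instance] HasDerivedCategory.standard

set_option backward.defeqAttrib.useBackward true
set_option backward.isDefEq.respectTransparency false
set_option backward.isDefEq.respectTransparency.types false
set_option linter.style.haveILetI false

namespace Groth.L10.RelPC.FibreAmp

open Groth.L02.PC Groth.L10.DR

/-- regular local rings of dimension at most `d` have global dimension at most `d` -/
theorem pd_of_dim {T : Type u} [CommRing T] [IsRegularLocalRing T] (d : ℕ) (h : ringKrullDim T ≤ (d : WithBot ℕ∞))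
    (M : ModuleCat.{u} T) : HasProjectiveDimensionLT M (d + 1) := by
  obtain ⟨e, he⟩ : ∃ e : ℕ, ringKrullDim T = e := by
    obtain ⟨x, hx⟩ := WithBot.ne_bot_iff_exists.1 (ringKrullDim_ne_bot (R := T))
    have hxt : x ≠ ⊤ := fun ht => by
      rw [← hx, ht] at h
      exact absurd (WithBot.coe_le_coe.1 h) (by simp)
    obtain ⟨k, hk⟩ := ENat.ne_top_iff_exists.1 hxt
    exact ⟨k, by rw [← hx, ← hk]; rfl⟩
  haveI := Groth.L04.hasProjectiveDimensionLE_of_regularLocal he M
  rw [he] at h
  exact hasProjectiveDimensionLT_of_ge M (e + 1) (d + 1) (by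
    have : e ≤ d := by exact_mod_cast h
    omega)

/-- the fibre of a polynomial ring at a point has global dimension at most the number of variables -/
theorem pd_fibre {R : Type u} [CommRing R] (d : ℕ) (p : Ideal R) [p.IsPrime]
    (Q : Ideal (MvPolynomial (Fin d) R)) [Q.IsPrime] [Q.LiesOver p]
    (M : ModuleCat.{u} (Localization.AtPrime Q ⧸ p.map (algebraMap R (Localization.AtPrime Q)))) :
    HasProjectiveDimensionLT M (d + 1) := by
  obtain ⟨Qb, hQb⟩ : ∃ Qb : PrimeSpectrum (p.Fiber (MvPolynomial (Fin d) R)),
      Qb.asIdeal.comap Algebra.TensorProduct.includeRight = Q :=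
    ⟨PrimeSpectrum.preimageEquivFiber R _ ⟨p, inferInstance⟩
      ⟨⟨Q, inferInstance⟩, PrimeSpectrum.ext (Q.over_def p).symm⟩, congrArg (fun z => z.1.asIdeal)
      ((PrimeSpectrum.preimageEquivFiber R _ ⟨p, inferInstance⟩).symm_apply_apply
        ⟨⟨Q, inferInstance⟩, PrimeSpectrum.ext (Q.over_def p).symm⟩)⟩
  subst hQb
  letI := Localization.AtPrime.algebraOfLiesOver p
    (Qb.asIdeal.comap (Algebra.TensorProduct.includeRight (R := R) (A := p.ResidueField)
      (B := MvPolynomial (Fin d) R)))
  let e := (Ideal.Fiber.localizationAlgEquivQuotient p Qb.asIdeal).toRingEquiv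
  let ε := (MvPolynomial.algebraTensorAlgEquiv R p.ResidueField (σ := Fin d)).toRingEquiv
  haveI : IsRegularRing (MvPolynomial (Fin d) p.ResidueField) := inferInstance
  haveI : IsRegularRing (p.Fiber (MvPolynomial (Fin d) R)) := IsRegularRing.of_ringEquiv ε.symm
  haveI : IsRegularLocalRing (Localization.AtPrime Qb.asIdeal) := inferInstance
  haveI : IsRegularLocalRing (Localization.AtPrime (Qb.asIdeal.comap
      (Algebra.TensorProduct.includeRight (R := R) (A := p.ResidueField) (B := MvPolynomial (Fin d) R))) ⧸
      p.map (algebraMap R (Localization.AtPrime (Qb.asIdeal.comap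
      (Algebra.TensorProduct.includeRight (R := R) (A := p.ResidueField) (B := MvPolynomial (Fin d) R)))))) :=
    IsRegularLocalRing.of_ringEquiv (R := Localization.AtPrime Qb.asIdeal) e
  refine pd_of_dim (T := Localization.AtPrime (Qb.asIdeal.comap
      (Algebra.TensorProduct.includeRight (R := R) (A := p.ResidueField) (B := MvPolynomial (Fin d) R))) ⧸
      p.map (algebraMap R _)) d ?_ M
  refine (ringKrullDim_eq_of_ringEquiv e).symm.trans_le ?_
  refine (IsLocalization.AtPrime.ringKrullDim_eq_height Qb.asIdeal (Localization.AtPrime Qb.asIdeal)).trans_le ?_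
  refine (Ideal.height_le_ringKrullDim_of_ne_top Qb.2.ne_top).trans ?_
  refine (ringKrullDim_eq_of_ringEquiv ε).trans_le ?_
  rw [MvPolynomial.ringKrullDim_of_isNoetherianRing, ringKrullDim_eq_zero_of_field, zero_add]
  simp

/-- base change to the quotient by the extended ideal is tensoring with the residue ring -/
theorem isZero_bc_quot {T S : Type u} [CommRing T] [CommRing S] [Algebra T S] (I : Ideal T) (J : Ideal S)
    (hJ : J = I.map (algebraMap T S)) (k : ModuleCat.{u} T) (e : (T ⧸ I) ≃ₗ[T] k) (X : DRing.Cx S) (i : ℤ)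
    (h : IsZero ((DRing.tensorCx (Groth.L20.TorAmp.res (A := T) X) k).homology i)) :
    IsZero (((bcCx (Ideal.Quotient.mk J)).obj X).homology i) := by
  subst hJ
  exact isZero_bcCx_of_fibre (Ideal.Quotient.mk (I.map (algebraMap T S))) (ModuleCat.of T (T ⧸ I))
    (Algebra.TensorProduct.quotIdealMapEquivTensorQuot S I).toLinearEquiv X i
    (Groth.L10.LTensorKFlat.isZero_of_iso e.symm.toModuleIso i h)

/-- amplitude over a local ring from a closed fibre of finite global dimension -/
theorem amp_of_quot {T S : Type u} [CommRing T] [CommRing S] [IsLocalRing S] [Algebra T S] (I : Ideal T)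
    (J : Ideal S) (hJ : J = I.map (algebraMap T S)) (hJle : J ≤ IsLocalRing.maximalIdeal S) (d : ℕ)
    (hpd : ∀ M : ModuleCat.{u} (S ⧸ J), HasProjectiveDimensionLT M (d + 1))
    (k : ModuleCat.{u} T) (e : (T ⧸ I) ≃ₗ[T] k) {K : Dual.D S} (X : DRing.Cx S) {N : ℤ}
    (eX : DRing.toD X ≅ K) (hXb : DRing.VanishesAbove X N) (hXf : DRing.TermwiseFiniteFree X) (a b : ℤ)
    (hz : ∀ i : ℤ, (i < a ∨ b < i) →
      IsZero ((DRing.tensorCx (Groth.L20.TorAmp.res (A := T) X) k).homology i)) :
    DRing.HasTorAmplitudeIn S (a - d) b K := by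
  refine (perfect_and_amp_of_fibres d eX hXb hXf a b fun n hn => ?_).2
  obtain rfl := IsLocalRing.eq_maximalIdeal hn
  exact ⟨CommRingCat.of (S ⧸ J), Ideal.Quotient.mk J, Ideal.Quotient.factor hJle,
    Ideal.Quotient.factor_comp_mk hJle, hpd, fun i hi => isZero_bc_quot I J hJ k e X i (hz i hi)⟩

variable (R A : Type u) [CommRing R] [CommRing A] [Algebra R A] [Module.Flat R A]
  [Algebra.FinitePresentation R A] (d : ℕ) (ψ : MvPolynomial (Fin d) R →ₐ[R] A) (hψ : Function.Surjective ψ)
  (q : Ideal A) [q.IsPrime]

include hψ in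
/-- the local ring upstairs sees the local ring of `A` as a pseudo-coherent module -/
theorem pc_local [Algebra (Localization.AtPrime (q.comap ψ.toRingHom)) (Localization.AtPrime q)]
    (hcomp : ∀ x, algebraMap (Localization.AtPrime (q.comap ψ.toRingHom)) (Localization.AtPrime q)
      (algebraMap _ _ x) = algebraMap A (Localization.AtPrime q) (ψ x)) :
    DRing.IsPseudoCoherentModule' (Localization.AtPrime (q.comap ψ.toRingHom)) (Localization.AtPrime q) := by
  let P := MvPolynomial (Fin d) R
  let Q := q.comap ψ.toRingHom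
  let S := Localization.AtPrime Q
  let Aq := Localization.AtPrime q
  letI : Algebra P A := ψ.toRingHom.toAlgebra
  haveI : IsScalarTower R P A := IsScalarTower.of_algebraMap_eq fun r => (ψ.commutes r).symm
  haveI : Module.Finite P A := RingHom.Finite.of_surjective ψ.toRingHom hψ
  haveI : Algebra.FinitePresentation P A := Algebra.FinitePresentation.of_restrict_scalars_finitePresentation R P A
  haveI : Module.FinitePresentation P A := Module.FinitePresentation.of_finite_of_finitePresentation P A
  have hA : DRing.IsPseudoCoherentModule' P A := Groth.L10.RelPC.pc'_flat_module R P A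
  haveI : Module.Flat P S := IsLocalization.flat S Q.primeCompl
  haveI := Groth.L10.KFlatLBC.hasLBaseChange (algebraMap P S)
  haveI : IsScalarTower P A Aq := inferInstance
  haveI : IsScalarTower P S Aq := IsScalarTower.of_algebraMap_eq fun x =>
    (IsScalarTower.algebraMap_apply P A Aq x).trans (hcomp x).symm
  haveI : IsLocalization (Algebra.algebraMapSubmonoid A Q.primeCompl) Aq := by
    have : Algebra.algebraMapSubmonoid A Q.primeCompl = q.primeCompl := by
      ext a
      constructor
      · rintro ⟨x, hx, rfl⟩; exact hx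
      · intro ha
        obtain ⟨x, rfl⟩ := hψ a
        exact ⟨x, ha, rfl⟩
    rw [this]; infer_instance
  haveI : IsLocalizedModule Q.primeCompl (IsScalarTower.toAlgHom P A Aq).toLinearMap :=
    isLocalizedModule_iff_isLocalization.2 inferInstance
  have hbc : IsBaseChange S (IsScalarTower.toAlgHom P A Aq).toLinearMap :=
    IsLocalizedModule.isBaseChange Q.primeCompl S _
  refine Groth.L10.RelPC.pcModule'_of_equiv (M := S ⊗[P] A) hbc.equiv ?_
  exact pc'_of_forall fun m => pc_of_iso
    ((Groth.L29.FlatBC.lbcIso (A := P) (B := S)).app _ ≪≫ Groth.L29.FlatBC.singleL S A)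
    (pc_lBaseChange (φ := algebraMap P S) (pc_of_pc' hA m))

include hψ in
/-- the amplitude at a prime is controlled by the fibre -/
theorem amp_of_fibre (p : Ideal R) [p.IsPrime] (hpq : p = Ideal.comap (algebraMap R A) q)
    [DRing.HasLBaseChange (algebraMap A (Localization.AtPrime q))]
    [DRing.HasLTensor (Localization.AtPrime p) (ModuleCat.of (Localization.AtPrime p) p.ResidueField)]
    (K : Dual.D A) (hK : DRing.IsPseudoCoherent' A K) (a b : ℤ)
    (hfib : ∀ i : ℤ, i < a ∨ b < i → Subsingleton (Dual.HD (Localization.AtPrime p)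
      ((DRing.LTensor (Localization.AtPrime p) (ModuleCat.of (Localization.AtPrime p) p.ResidueField)).obj
        ((DRing.restrictD (Localization.localRingHom p q (algebraMap R A) hpq)).obj
          ((DRing.LBaseChange (algebraMap A (Localization.AtPrime q))).obj K))) i)) :
    DRing.HasTorAmplitudeIn R (a - d) b
      ((DRing.restrictD (algebraMap R (Localization.AtPrime q))).obj
        ((DRing.LBaseChange (algebraMap A (Localization.AtPrime q))).obj K)) := by
  let P := MvPolynomial (Fin d) R
  let Q : Ideal P := q.comap ψ.toRingHom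
  let S := Localization.AtPrime Q
  let Aq := Localization.AtPrime q
  let Rp := Localization.AtPrime p
  have hQp : p = Q.comap (algebraMap R P) := by
    ext r
    rw [hpq]
    show algebraMap R A r ∈ q ↔ ψ (algebraMap R P r) ∈ q
    rw [ψ.commutes]
  haveI : Q.LiesOver p := ⟨hQp⟩
  letI algS : Algebra S Aq := (Localization.localRingHom Q q ψ.toRingHom rfl).toAlgebra
  letI algP : Algebra Rp S := (Localization.localRingHom p Q (algebraMap R P) hQp).toAlgebra
  letI algA : Algebra Rp Aq := (Localization.localRingHom p q (algebraMap R A) hpq).toAlgebra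
  haveI : IsScalarTower R Rp S := IsScalarTower.of_algebraMap_eq fun r => by
    show _ = Localization.localRingHom p Q (algebraMap R P) hQp _
    rw [Localization.localRingHom_to_map, ← IsScalarTower.algebraMap_apply]
  haveI : IsScalarTower R S Aq := IsScalarTower.of_algebraMap_eq fun r => by
    show _ = Localization.localRingHom Q q ψ.toRingHom rfl _
    rw [IsScalarTower.algebraMap_apply R P S, Localization.localRingHom_to_map]
    show _ = algebraMap A Aq (ψ (algebraMap R P r))
    rw [ψ.commutes, ← IsScalarTower.algebraMap_apply]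
  have hloc : algebraMap Rp Aq = (algebraMap S Aq).comp (algebraMap Rp S) :=
    IsLocalization.ringHom_ext p.primeCompl (RingHom.ext fun r => by
      show Localization.localRingHom p q (algebraMap R A) hpq (algebraMap R Rp r) =
        algebraMap S Aq (algebraMap Rp S (algebraMap R Rp r))
      rw [Localization.localRingHom_to_map, ← IsScalarTower.algebraMap_apply R Rp S,
        ← IsScalarTower.algebraMap_apply R S Aq, ← IsScalarTower.algebraMap_apply R A Aq])
  haveI : Module.Flat R P := Module.Flat.of_free
  haveI : Module.Flat P S := IsLocalization.flat S Q.primeCompl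
  haveI : Module.Flat R S := Module.Flat.trans R P S
  haveI : Module.Flat Rp S := (Module.flat_iff_of_isLocalization Rp p.primeCompl S).mpr inferInstance
  -- the localized complex over the local ring upstairs
  let Kq : Dual.D Aq := (DRing.LBaseChange (algebraMap A Aq)).obj K
  have hKq : DRing.IsPseudoCoherent' Aq Kq :=
    pc'_of_forall fun m => pc_lBaseChange (φ := algebraMap A Aq) (pc_of_pc' hK m)
  have hA := pc_local R A d ψ hψ q fun x => Localization.localRingHom_to_map _ _ _ _ x
  let K' : Dual.D S := (DRing.restrictD (algebraMap S Aq)).obj Kq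
  have hK' : DRing.IsPseudoCoherent' S K' := (Groth.L10.PCRestrict.pc'_iff_restrict hA Kq).1 hKq
  obtain ⟨X, N, hXb, hXf, ⟨eX⟩⟩ := hK'
  have hfree : ∀ i, Module.Free S (X.X i) := fun i => (hXf i).2
  let κ : ModuleCat.{u} Rp := ModuleCat.of Rp p.ResidueField
  let eR : DRing.toD (Groth.L20.TorAmp.res (A := Rp) X) ≅
      (DRing.restrictD (Localization.localRingHom p q (algebraMap R A) hpq)).obj Kq :=
    (Groth.L20.TorAmp.resIso (A := Rp) X).symm ≪≫ (DRing.restrictD (algebraMap Rp S)).mapIso eX ≪≫
      (Groth.L10.Shriek.restrictDCompIso (algebraMap Rp S) (algebraMap S Aq) (algebraMap Rp Aq) hloc).symm.app Kq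
  have hz : ∀ i : ℤ, (i < a ∨ b < i) →
      IsZero ((DRing.tensorCx (Groth.L20.TorAmp.res (A := Rp) X) κ).homology i) := fun i hi => by
    haveI := hfib i hi
    refine (Groth.L02.PC.isZero_HH_Q_iff _ i).1 (IsZero.of_iso ?_ ((Groth.L02.PC.HH i).mapIso
      ((Groth.L10.LTensorKFlat.compute κ _ (isKFlat_res hXb hfree)).symm ≪≫
        (DRing.LTensor Rp κ).mapIso eR)))
    exact ModuleCat.isZero_of_subsingleton _
  -- fibres
  let J : Ideal S := p.map (algebraMap R S)
  have hJ : J = (IsLocalRing.maximalIdeal Rp).map (algebraMap Rp S) := by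
    rw [← IsLocalization.AtPrime.map_eq_maximalIdeal p Rp, Ideal.map_map, ← IsScalarTower.algebraMap_eq]
  have hJle : J ≤ IsLocalRing.maximalIdeal S := by
    rw [Ideal.map_le_iff_le_comap]
    intro r hr
    show algebraMap R S r ∈ IsLocalRing.maximalIdeal S
    rw [IsScalarTower.algebraMap_apply R P S, IsLocalization.AtPrime.to_map_mem_maximal_iff S Q]
    exact (Ideal.ext_iff.1 hQp r).1 hr
  have hpd : ∀ M : ModuleCat.{u} (S ⧸ J), HasProjectiveDimensionLT M (d + 1) := fun M => pd_fibre d p Q M
  let eκ : (Rp ⧸ IsLocalRing.maximalIdeal Rp) ≃ₗ[Rp] κ :=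
    LinearEquiv.ofBijective
      (Submodule.liftQ (IsLocalRing.maximalIdeal Rp) (Algebra.linearMap Rp p.ResidueField)
        fun x hx => (IsLocalRing.residue_eq_zero_iff x).2 hx)
      ⟨fun x y hxy => by
        obtain ⟨x, rfl⟩ := Submodule.Quotient.mk_surjective _ x
        obtain ⟨y, rfl⟩ := Submodule.Quotient.mk_surjective _ y
        exact Ideal.Quotient.eq.2 ((IsLocalRing.residue_eq_zero_iff (x - y)).1 (by
          rw [map_sub]; exact sub_eq_zero.2 hxy)),
      fun z => by
        obtain ⟨w, hw⟩ := IsLocalRing.residue_surjective (R := Rp) z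
        exact ⟨Submodule.Quotient.mk w, hw⟩⟩
  have hamp : DRing.HasTorAmplitudeIn S (a - d) b K' :=
    amp_of_quot (T := Rp) (S := S) (IsLocalRing.maximalIdeal Rp) J hJ hJle d hpd κ eκ X eX hXb hXf a b hz
  obtain ⟨E, hEv, hEf, ⟨eE⟩⟩ := hamp
  exact ⟨Groth.L20.TorAmp.res (A := R) E, fun i hi => Functor.map_isZero (ModuleCat.restrictScalars.{u} (algebraMap R S)) (hEv i hi),
    fun i => haveI := hEf i; Groth.L20.TorAmp.flat_restrict (E.X i),
    ⟨(Groth.L20.TorAmp.resIso (A := R) E).symm ≪≫ (DRing.restrictD (algebraMap R S)).mapIso eE ≪≫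
      (Groth.L10.Shriek.restrictDCompIso (algebraMap R S) (algebraMap S Aq) (algebraMap R Aq)
        (IsScalarTower.algebraMap_eq R S Aq)).symm.app Kq⟩⟩

end Groth.L10.RelPC.FibreAmp
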