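import Groth.Agent.L10.RelPC.FibreAmp
import Groth.Agent.L10.Shriek.FlatRange
import Groth.Agent.L29.Dual.ExactHomology
import Mathlib.RingTheory.Spectrum.Prime.FreeLocus
import Mathlib.RingTheory.FinitePresentation

/-!
Relative perfection from fibres bounded below.
-/

set_option autoImplicit false

universe u

open CategoryTheory CategoryTheory.Limits TensorProduct

attribute [local instance] HasDerivedCategory.standard

set_option backward.defeqAttrib.useBackward true
set_option backward.isDefEq.respectTransparency false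
set_option backward.isDefEq.respectTransparency.types false
set_option linter.style.haveILetI false

namespace Groth.L10.RelPC.FibreBounded

open Groth.L02.PC Groth.L10.DR Groth.L10.ResidueExact

theorem finite_quot (B : Type u) [CommRing B] (I : Ideal B) : Module.Finite B (B ⧸ I) :=
  Module.Finite.quotient _ I

/-- polynomial rings over a field have global dimension at most the number of variables -/
theorem pd_poly (k : Type u) [Field k] (d : ℕ) (M : ModuleCat.{u} (MvPolynomial (Fin d) k)) :
    HasProjectiveDimensionLT M (d + 1) := by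
  refine Groth.L06.ExtDim.hasProjectiveDimensionLT_of_forall_cyclic d (fun I => ?_) M
  have hfin : Module.Finite (MvPolynomial (Fin d) k) (MvPolynomial (Fin d) k ⧸ I) := finite_quot _ I
  refine Groth.L10.Shriek.FlatRange.hasPD_of_amp d (ModuleCat.of _ (MvPolynomial (Fin d) k ⧸ I)) hfin ?_
  simpa using Groth.L19.PerfectHom.amp_mvPolynomial d (MvPolynomial (Fin d) k ⧸ I) 0
    ((hasTorDimLE_iff_amp 0).1 (hasTorDimLE_zero_iff.2 inferInstance))

/-- exactness modulo a maximal ideal from a fibre of finite global dimension -/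
theorem exMod_of_fibre {B : Type u} [CommRing B] (d : ℕ) {P : DRing.Cx B} {N : ℤ}
    (hPb : DRing.VanishesAbove P N) (hP : DRing.TermwiseFiniteFree P) (a : ℤ) (n : Ideal B) {C : Type u}
    [CommRing C] (φ : B →+* C) (ψ : C →+* B ⧸ n) (hψ : ψ.comp φ = Ideal.Quotient.mk n)
    (hgl : ∀ M : ModuleCat.{u} C, HasProjectiveDimensionLT M (d + 1))
    (h : ∀ i : ℤ, i < a → IsZero (((bcCx φ).obj P).homology i)) (i : ℤ) (hi : i < a - d) :
    ExMod n (P.d (i - 1) i).hom (P.d i (i + 1)).hom := by
  let Pb := (bcCx φ).obj P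
  have hb : DRing.VanishesAbove Pb N := fun j hj => (ModuleCat.extendScalars.{u, u, u} φ).map_isZero (hPb j hj)
  have hf : DRing.TermwiseFlat Pb :=
    flat_of_free fun j => haveI := (hP j).1; haveI := (hP j).2; (finite_free_extendScalars φ (P.X j)).2
  obtain ⟨E, hEv, hEf, ⟨eE⟩⟩ := amp_of_homology d hgl (DRing.toD Pb) a N fun j hj =>
    (Groth.L02.PC.isZero_HH_Q_iff Pb j).2 (hj.elim (h j) fun hj =>
      (HomologicalComplex.exactAt_iff_isZero_homology _ j).1 (HomologicalComplex.ExactAt.of_isZero (hb j hj)))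
  have htE : TZ E i := fun Z => (HomologicalComplex.exactAt_iff_isZero_homology _ i).1
    (HomologicalComplex.ExactAt.of_isZero ((MonoidalCategory.tensorRight Z).map_isZero (hEv i (Or.inl hi))))
  have ht : TZ Pb i := (tz_iff_of_iso eE.symm hb hf (c := N) (fun j hj => hEv j (Or.inr hj)) hEf i).2 htE
  have h1 := isZero_homology_bcCx_comp φ ψ P i (tz_homology (tz_bcCx ψ Pb i ht))
  rw [hψ] at h1
  have := exMod_of_isZero_bcCx (Ideal.Quotient.mk n) Ideal.Quotient.mk_surjective P i h1
  rwa [Ideal.mk_ker] at this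

section Locus

variable {R : Type u} [CommRing R] {F G H : Type u} [AddCommGroup F] [Module R F] [AddCommGroup G] [Module R G]
  [AddCommGroup H] [Module R H]

/-- exactness modulo a maximal ideal gives a free cokernel there -/
theorem mem_freeLocus_of_exMod [Module.Finite R G] [Module.Finite R H] [Module.Free R H]
    (f : F →ₗ[R] G) (g : G →ₗ[R] H) (hgf : g ∘ₗ f = 0) (m : Ideal R) [m.IsMaximal] (h : ExMod m f g) :
    (⟨m, inferInstance⟩ : PrimeSpectrum R) ∈ Module.freeLocus R (H ⧸ LinearMap.range g) := by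
  have : Module.Free (Localization.AtPrime m) (LocalizedModule m.primeCompl H) :=
    Module.free_of_isLocalizedModule m.primeCompl (LocalizedModule.mkLinearMap m.primeCompl H)
  have h2 := (exact_and_free_coker_local (LocalizedModule.map m.primeCompl f) (LocalizedModule.map m.primeCompl g)
    (LinearMap.ext fun x => by
      induction x using LocalizedModule.induction_on with
      | h x s => simp [LocalizedModule.map_mk, show g (f x) = 0 from LinearMap.congr_fun hgf x])
    (exMod_localized m f g h)).2
  have hr : (LinearMap.range g).localized m.primeCompl = LinearMap.range (LocalizedModule.map m.primeCompl g) :=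
    LinearMap.localized'_range_eq_range_localizedMap (Localization.AtPrime m) m.primeCompl
      (LocalizedModule.mkLinearMap m.primeCompl G) (LocalizedModule.mkLinearMap m.primeCompl H) g
  exact Module.Free.of_equiv ((Submodule.quotEquivOfEq _ _ hr.symm).trans
    (localizedQuotientEquiv m.primeCompl (LinearMap.range g)))

/-- along an exact pair the freeness of the cokernels propagates downwards -/
theorem freeLocus_coker_subset [Module.Finite R G] [Module.Finite R H] [Module.Free R H] (f : F →ₗ[R] G)
    (g : G →ₗ[R] H) (hex : Function.Exact f g) :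
    Module.freeLocus R (H ⧸ LinearMap.range g) ⊆ Module.freeLocus R (G ⧸ LinearMap.range f) := by
  intro Q hQ
  let ι : (G ⧸ LinearMap.range f) →ₗ[R] H :=
    Submodule.liftQ _ g (le_of_eq hex.linearMap_ker_eq.symm)
  have hι : Function.Injective ι :=
    LinearMap.ker_eq_bot.1 (Submodule.ker_liftQ_eq_bot _ _ _ hex.linearMap_ker_eq.le)
  have hexι : Function.Exact ι (LinearMap.range g).mkQ := fun x => by
    show (LinearMap.range g).mkQ x = 0 ↔ _
    rw [Submodule.mkQ_apply, Submodule.Quotient.mk_eq_zero]
    constructor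
    · rintro ⟨y, rfl⟩
      exact ⟨Submodule.Quotient.mk y, rfl⟩
    · rintro ⟨y, rfl⟩
      obtain ⟨y, rfl⟩ := Submodule.Quotient.mk_surjective _ y
      exact ⟨y, rfl⟩
  let S := Q.asIdeal.primeCompl
  have h1 := LocalizedModule.map_injective S ι hι
  have h2 := LocalizedModule.map_exact S _ _ hexι
  have h3 := LocalizedModule.map_surjective S _ (LinearMap.range g).mkQ_surjective
  haveI : Module.Free (Localization.AtPrime Q.asIdeal) (LocalizedModule S (H ⧸ LinearMap.range g)) := hQ
  haveI : Module.Free (Localization.AtPrime Q.asIdeal) (LocalizedModule S H) :=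
    Module.free_of_isLocalizedModule S (LocalizedModule.mkLinearMap S H)
  obtain ⟨l, hl⟩ := Module.projective_lifting_property (LocalizedModule.map S (LinearMap.range g).mkQ)
    LinearMap.id h3
  have h2' : Function.Exact (LocalizedModule.map S ι) (LocalizedModule.map S (LinearMap.range g).mkQ) := h2
  have h1' : Function.Injective (LocalizedModule.map S ι) := h1
  obtain ⟨r, hr⟩ := ((h2'.split_tfae h1' h3).out 0 1 rfl rfl).1 ⟨l, hl⟩
  haveI : Module.Projective (Localization.AtPrime Q.asIdeal) (LocalizedModule S (G ⧸ LinearMap.range f)) :=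
    Module.Projective.of_split (LocalizedModule.map S ι) r hr
  haveI : Module.Finite (Localization.AtPrime Q.asIdeal) (LocalizedModule S (G ⧸ LinearMap.range f)) :=
    Module.Finite.equiv (LocalizedModule.equivTensorProduct S _).symm
  exact Module.free_of_flat_of_isLocalRing

end Locus

variable (R A : Type u) [CommRing R] [CommRing A] [Algebra R A] [Module.Flat R A]
  [Algebra.FinitePresentation R A]

theorem isRelPerfect_of_fibres [∀ p : PrimeSpectrum R, DRing.HasLTensor R (ModuleCat.of R p.asIdeal.ResidueField)]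
    (K : Dual.D A) (hK : DRing.IsPseudoCoherent' A K)
    (hlo : ∃ a : ℤ, ∀ i : ℤ, i < a → Subsingleton (Dual.HD A K i))
    (hfib : ∀ p : PrimeSpectrum R, ∃ a : ℤ, ∀ i : ℤ, i < a →
      Subsingleton (Dual.HD R ((DRing.LTensor R (ModuleCat.of R p.asIdeal.ResidueField)).obj
        ((DRing.restrictD (algebraMap R A)).obj K)) i)) :
    Dual2.IsRelPerfect R A K := by
  refine ⟨hK, ?_⟩
  obtain ⟨d, ψ, hψ, -⟩ := Algebra.FinitePresentation.out (R := R) (A := A)
  obtain ⟨a₀, ha₀⟩ := hlo
  let P := MvPolynomial (Fin d) R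
  letI : Algebra P A := ψ.toRingHom.toAlgebra
  haveI : IsScalarTower R P A := IsScalarTower.of_algebraMap_eq fun r => (ψ.commutes r).symm
  haveI : Module.Finite P A := RingHom.Finite.of_surjective ψ.toRingHom hψ
  haveI : Algebra.FinitePresentation P A := Algebra.FinitePresentation.of_restrict_scalars_finitePresentation R P A
  haveI : Module.FinitePresentation P A := Module.FinitePresentation.of_finite_of_finitePresentation P A
  haveI : Module.Flat R P := Module.Flat.of_free
  have hA : DRing.IsPseudoCoherentModule' P A := Groth.L10.RelPC.pc'_flat_module R P A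
  let K' : Dual.D P := (DRing.restrictD (algebraMap P A)).obj K
  obtain ⟨X, N, hXb, hXf, ⟨eX⟩⟩ := (Groth.L10.PCRestrict.pc'_iff_restrict hA K).1 hK
  have hfree : ∀ i, Module.Free P (X.X i) := fun i => (hXf i).2
  haveI : ∀ i, Module.Finite P (X.X i) := fun i => (hXf i).1
  haveI := hfree
  have hex : ∀ i, i < a₀ → IsZero (X.homology i) := fun i hi => by
    haveI := ha₀ i hi
    refine (HH_iso_zero eX i).1 ?_
    exact ((ModuleCat.restrictScalars.{u} (algebraMap P A)).map_isZero (ModuleCat.isZero_of_subsingleton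
      (ModuleCat.of A (Dual.HD A K i)))).of_iso ((Groth.L29.ExactHomology.hIso
        (ModuleCat.restrictScalars.{u} (algebraMap P A)) i).app K)
  let U : ℕ → Set (PrimeSpectrum P) := fun k =>
    Module.freeLocus P (X.X (a₀ - k) ⧸ LinearMap.range (X.d (a₀ - k - 1) (a₀ - k)).hom)
  have hfp : ∀ i j : ℤ, Module.FinitePresentation P (X.X j ⧸ LinearMap.range (X.d i j).hom) := fun i j =>
    Module.finitePresentation_of_free_of_surjective _ (Submodule.mkQ_surjective _)
      (by rw [Submodule.ker_mkQ, LinearMap.range_eq_map]; exact Module.Finite.fg_top.map _)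
  have hopen : ∀ k, IsOpen (U k) := fun k => haveI := hfp (a₀ - k - 1) (a₀ - k); Module.isOpen_freeLocus
  have hstep : ∀ j : ℤ, j ≤ a₀ → Module.freeLocus P (X.X j ⧸ LinearMap.range (X.d (j - 1) j).hom) ⊆
      Module.freeLocus P (X.X (j - 1) ⧸ LinearMap.range (X.d (j - 1 - 1) (j - 1)).hom) := fun j hj =>
    freeLocus_coker_subset _ _
      ((isZero_homology_iff_exact X (j - 1 - 1) (j - 1) j (by omega) (by omega)).1 (hex (j - 1) (by omega)))
  have hmono : Monotone U := monotone_nat_of_le_succ fun k => by
    have := hstep (a₀ - k) (by omega)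
    show U k ⊆ U (k + 1)
    simp only [U]
    rw [show a₀ - (((k + 1 : ℕ)) : ℤ) = a₀ - k - 1 by push_cast; ring]
    exact this
  have hcov : ∀ Q : PrimeSpectrum P, ∃ k, Q ∈ U k := fun Q => by
    obtain ⟨m, hm, hQm⟩ := Ideal.exists_le_maximal Q.asIdeal Q.2.ne_top
    suffices h : ∃ k, (⟨m, hm.isPrime⟩ : PrimeSpectrum P) ∈ U k by
      obtain ⟨k, hk⟩ := h
      exact ⟨k, ((PrimeSpectrum.le_iff_specializes Q ⟨m, hm.isPrime⟩).1 hQm).mem_open (hopen k) hk⟩
    let p : PrimeSpectrum R := ⟨m.comap (algebraMap R P), inferInstance⟩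
    let k := p.asIdeal.ResidueField
    obtain ⟨a, ha⟩ := hfib p
    letI : Field (P ⧸ m) := Ideal.Quotient.field m
    let σ : k →ₐ[R] P ⧸ m := Ideal.ResidueField.liftₐ p.asIdeal
      ((Ideal.Quotient.mkₐ R m).comp (Algebra.ofId R P))
      (fun x hx => Ideal.Quotient.eq_zero_iff_mem.2 hx)
      (fun x hx => isUnit_iff_ne_zero.2 fun h0 => hx (Ideal.Quotient.eq_zero_iff_mem.1 h0 : algebraMap R P x ∈ m))
    let C := MvPolynomial (Fin d) k
    let φ : P →+* C := MvPolynomial.map (algebraMap R k)
    let ψ' : C →+* P ⧸ m := MvPolynomial.eval₂Hom σ.toRingHom fun i => Ideal.Quotient.mk m (MvPolynomial.X i)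
    have hcomp : ψ'.comp φ = Ideal.Quotient.mk m := MvPolynomial.ringHom_ext
      (fun r => by
        show MvPolynomial.eval₂Hom σ.toRingHom _ (MvPolynomial.map (algebraMap R k) (MvPolynomial.C r)) = _
        rw [MvPolynomial.map_C, MvPolynomial.eval₂Hom_C]
        exact σ.commutes r)
      (fun i => by
        show MvPolynomial.eval₂Hom σ.toRingHom _ (MvPolynomial.map (algebraMap R k) (MvPolynomial.X i)) = _
        rw [MvPolynomial.map_X, MvPolynomial.eval₂Hom_X'])
    let κ : ModuleCat.{u} R := ModuleCat.of R k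
    have hz : ∀ i : ℤ, i < a → IsZero (((bcCx φ).obj X).homology i) := fun i hi => by
      letI := φ.toAlgebra
      let e₀ : k ⊗[R] P ≃ₐ[R] C := (MvPolynomial.algebraTensorAlgEquiv R k (σ := Fin d)).restrictScalars R
      refine isZero_bcCx_of_fibre φ κ ?_ X i ?_
      · refine (e₀.symm.toAddEquiv.trans (TensorProduct.comm R k P).toAddEquiv).toLinearEquiv fun c x => ?_
        show TensorProduct.comm R k P (e₀.symm (φ c * x)) = c • TensorProduct.comm R k P (e₀.symm x)
        have hφ : e₀.symm (φ c) = (1 : k) ⊗ₜ[R] c := by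
          rw [AlgEquiv.symm_apply_eq]
          show MvPolynomial.map (algebraMap R k) c = MvPolynomial.algebraTensorAlgEquiv R k ((1 : k) ⊗ₜ[R] c)
          rw [MvPolynomial.algebraTensorAlgEquiv_tmul, one_smul]
        rw [map_mul, hφ]
        induction e₀.symm x using TensorProduct.induction_on with
        | zero => simp
        | add u v hu hv => simp_all [mul_add]
        | tmul y z =>
          rw [Algebra.TensorProduct.tmul_mul_tmul, one_mul]
          simp [TensorProduct.smul_tmul']
      · haveI := ha i hi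
        let eR : DRing.toD (Groth.L20.TorAmp.res (A := R) X) ≅ (DRing.restrictD (algebraMap R A)).obj K :=
          (Groth.L20.TorAmp.resIso (A := R) X).symm ≪≫ (DRing.restrictD (algebraMap R P)).mapIso eX ≪≫
            (Groth.L10.Shriek.restrictDCompIso (algebraMap R P) (algebraMap P A) (algebraMap R A)
              (IsScalarTower.algebraMap_eq R P A)).symm.app K
        refine (Groth.L02.PC.isZero_HH_Q_iff _ i).1 (IsZero.of_iso ?_ ((Groth.L02.PC.HH i).mapIso
          ((Groth.L10.LTensorKFlat.compute κ _ (isKFlat_res hXb hfree)).symm ≪≫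
            (DRing.LTensor R κ).mapIso eR)))
        exact ModuleCat.isZero_of_subsingleton _
    refine ⟨(a₀ - (a - d)).toNat, ?_⟩
    let j : ℤ := a₀ - ((a₀ - (a - d)).toNat : ℕ)
    haveI := hm
    have hj := mem_freeLocus_of_exMod (X.d (j - 1 - 1) (j - 1)).hom (X.d (j - 1) (j - 1 + 1)).hom
      (congrArg ModuleCat.Hom.hom (X.d_comp_d _ _ _)) m
      (exMod_of_fibre d hXb hXf a m φ ψ' hcomp (pd_poly k d) hz (j - 1) (by omega))
    have key : ∀ l, l = j → (⟨m, hm.isPrime⟩ : PrimeSpectrum P) ∈
        Module.freeLocus P (X.X l ⧸ LinearMap.range (X.d (j - 1) l).hom) →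
        (⟨m, hm.isPrime⟩ : PrimeSpectrum P) ∈ Module.freeLocus P (X.X j ⧸ LinearMap.range (X.d (j - 1) j).hom) := by
      rintro l rfl h; exact h
    exact key (j - 1 + 1) (by omega) hj
  obtain ⟨k, hk⟩ := CompactSpace.isCompact_univ.elim_directed_cover U hopen
    (fun Q _ => Set.mem_iUnion.2 (hcov Q)) hmono.directed_le
  let c : ℤ := a₀ - (k : ℤ)
  haveI : Module.Projective P (X.X c ⧸ LinearMap.range (X.d (c - 1) c).hom) :=
    haveI := hfp (c - 1) c
    Module.freeLocus_eq_univ_iff.1 (Set.eq_univ_of_univ_subset hk)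
  obtain ⟨e'⟩ := toD_truncGE_iso c fun i hi => hex i (by omega)
  have hEp := finiteProjective_truncGE (P := X) (fun i => ⟨(hXf i).1, inferInstance⟩) c inferInstance
  refine ⟨c, N, Groth.L20.TorAmp.res (A := R) (X.truncGE c),
    fun i hi => Functor.map_isZero (ModuleCat.restrictScalars.{u} (algebraMap R P))
      (vanishesOutside_truncGE c N hXb i hi),
    fun i => haveI := (hEp i).2; Groth.L20.TorAmp.flat_restrict ((X.truncGE c).X i),
    ⟨(Groth.L20.TorAmp.resIso (A := R) _).symm ≪≫ (DRing.restrictD (algebraMap R P)).mapIso (e'.symm ≪≫ eX) ≪≫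
      (Groth.L10.Shriek.restrictDCompIso (algebraMap R P) (algebraMap P A) (algebraMap R A)
        (IsScalarTower.algebraMap_eq R P A)).symm.app K⟩⟩

theorem fibres_of_isRelPerfect [∀ p : PrimeSpectrum R, DRing.HasLTensor R (ModuleCat.of R p.asIdeal.ResidueField)]
    (K : Dual.D A) (hK : Dual2.IsRelPerfect R A K) :
    (∃ a : ℤ, ∀ i : ℤ, i < a → Subsingleton (Dual.HD A K i)) ∧
      ∀ p : PrimeSpectrum R, ∃ a : ℤ, ∀ i : ℤ, i < a →
        Subsingleton (Dual.HD R ((DRing.LTensor R (ModuleCat.of R p.asIdeal.ResidueField)).obj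
          ((DRing.restrictD (algebraMap R A)).obj K)) i) := by
  obtain ⟨a, b, E, hEv, hEf, ⟨eE⟩⟩ := hK.2
  refine ⟨⟨a, fun i hi => ?_⟩, fun p => ⟨a, fun i hi => ?_⟩⟩
  · have h : IsZero ((Groth.L02.PC.HH i).obj ((DRing.restrictD (algebraMap R A)).obj K)) :=
      (HH_iso_zero eE i).2 ((HomologicalComplex.exactAt_iff_isZero_homology _ i).1
        (HomologicalComplex.ExactAt.of_isZero (hEv i (Or.inl hi))))
    have h' : IsZero ((ModuleCat.restrictScalars.{u} (algebraMap R A)).obj (ModuleCat.of A (Dual.HD A K i))) :=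
      h.of_iso ((Groth.L29.ExactHomology.hIso (ModuleCat.restrictScalars.{u} (algebraMap R A)) i).app K).symm
    exact (ModuleCat.subsingleton_of_isZero h' :
      Subsingleton ((ModuleCat.restrictScalars.{u} (algebraMap R A)).obj (ModuleCat.of A (Dual.HD A K i))))
  · let κ : ModuleCat.{u} R := ModuleCat.of R p.asIdeal.ResidueField
    exact ModuleCat.subsingleton_of_isZero ((HH_iso_zero ((Groth.L10.LTensorKFlat.compute κ E
      (Groth.L10.KFlat.of_bounded E b (fun j hj => hEv j (Or.inr hj)) hEf)).symm ≪≫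
      (DRing.LTensor R κ).mapIso eE) i).2 ((HomologicalComplex.exactAt_iff_isZero_homology _ i).1
        (HomologicalComplex.ExactAt.of_isZero ((MonoidalCategory.tensorRight κ).map_isZero (hEv i (Or.inl hi))))))

end Groth.L10.RelPC.FibreBounded
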