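import Groth.Agent.L10.RelPC.FlatQuot
import Groth.Agent.L10.RelPC.Basic
import Groth.Prelude.Def_MoreMor
import Mathlib.RingTheory.Flat.Basic

/-! Quotients of flat algebras of finite presentation. -/

universe u

open CategoryTheory CategoryTheory.Limits CategoryTheory.Pretriangulated

attribute [local instance] HasDerivedCategory.standard

set_option backward.defeqAttrib.useBackward true
set_option backward.isDefEq.respectTransparency false
namespace Groth.L10.RelPC

open Groth.L02.PC Groth.L10.DR

theorem isPseudoCoherentHom_quotient_iff {A B : Type u} [CommRing A] [CommRing B] [Algebra A B]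
    [Module.Flat A B] [Algebra.FinitePresentation A B] (I : Ideal B) :
    MoreMor.IsPseudoCoherentHom A (B ⧸ I) ↔ DRing.IsPseudoCoherentModule' B ↥I := by
  obtain ⟨n, α, hα⟩ := exists_presentation A B
  have hαpc : PCHom (α : MvPolynomial (Fin n) A →+* B) := by
    letI := (α : MvPolynomial (Fin n) A →+* B).toAlgebra
    haveI : IsScalarTower A (MvPolynomial (Fin n) A) B :=
      IsScalarTower.of_algebraMap_eq fun a => (α.commutes a).symm
    exact pcHom_flat_quotient A (MvPolynomial (Fin n) A) B hα
  let β : MvPolynomial (Fin n) A →ₐ[A] B ⧸ I := (Ideal.Quotient.mkₐ A I).comp α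
  have hβ : Function.Surjective β := (Ideal.Quotient.mkₐ_surjective A I).comp hα
  let S : ShortComplex (ModuleCat.{u} B) := ShortComplex.mk (ModuleCat.ofHom I.subtype)
    (ModuleCat.ofHom (Submodule.mkQ (I : Submodule B B)))
    (ModuleCat.hom_ext (LinearMap.ext fun x => (Submodule.Quotient.mk_eq_zero _).2 x.2))
  have hS : S.ShortExact :=
    { exact := (ShortComplex.ShortExact.moduleCat_exact_iff_function_exact _).2
        (LinearMap.exact_subtype_mkQ _)
      mono_f := ConcreteCategory.mono_of_injective _ Subtype.val_injective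
      epi_g := ConcreteCategory.epi_of_surjective _ (Submodule.mkQ_surjective _) }
  have hfree : ∀ k, DRing.IsPseudoCoherentModule B k B :=
    fun k => pc_of_pc' (pcModule'_finiteFree B) k
  have key : ∀ m, Pc (β : MvPolynomial (Fin n) A →+* B ⧸ I) m (Dual.inD (B ⧸ I) (B ⧸ I)) ↔
      DRing.IsPseudoCoherentModule B m (B ⧸ I) := fun m => by
    let e := inDIso (Ideal.Quotient.mk I) (B ⧸ I) (fun a x => Algebra.smul_def a x)
    rw [Pc.comp_iff (h := (β : MvPolynomial (Fin n) A →+* B ⧸ I))
      (α : MvPolynomial (Fin n) A →+* B) (Ideal.Quotient.mk I) rfl, ← hαpc.pc_iff]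
    exact ⟨pc_of_iso e, pc_of_iso e.symm⟩
  constructor
  · rintro ⟨k, γ, hγ, h⟩
    have hq : ∀ m, DRing.IsPseudoCoherentModule B m (B ⧸ I) := fun m =>
      (key m).1 ((via_iff γ hγ β hβ _).1 (PCHom.pcModule' (φ := (γ : MvPolynomial (Fin k) A →+* B ⧸ I)) h m))
    exact pc'_of_forall fun m => by
      simpa using pc_first _ hS.singleTriangle_distinguished (m - 1) (hfree (m - 1 + 1)) (hq (m - 1))
  · intro h
    exact ⟨n, β, hβ, PCHom.of_forall (φ := (β : MvPolynomial (Fin n) A →+* B ⧸ I)) fun m =>
      (key m).2 (pc_third _ hS.singleTriangle_distinguished m (pc_of_pc' h (m + 1)) (hfree m))⟩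

end Groth.L10.RelPC
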