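import Groth.Agent.L10.RelPC.FlatQuot
import Groth.Agent.L10.DRing.Perfect
import Groth.Agent.L20.TorAmpWeaklyEtale
import Mathlib.Algebra.TrivSqZeroExt.Basic
import Mathlib.RingTheory.Finiteness.ModuleFinitePresentation

/-! A finitely presented module, flat over the base, over a flat algebra of finite presentation is pseudo-coherent. -/

universe u

open CategoryTheory CategoryTheory.Limits CategoryTheory.Pretriangulated TensorProduct

attribute [local instance] HasDerivedCategory.standard

set_option backward.defeqAttrib.useBackward true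
set_option backward.isDefEq.respectTransparency false
namespace Groth.L10.RelPC

open Groth.L02.PC Groth.L10.DR

theorem pcModule'_of_equiv {A : Type u} [CommRing A] {M N : Type u} [AddCommGroup M] [Module A M]
    [AddCommGroup N] [Module A N] (e : M ≃ₗ[A] N) (h : DRing.IsPseudoCoherentModule' A M) :
    DRing.IsPseudoCoherentModule' A N :=
  pc'_of_forall fun m => pc_of_iso ((DerivedCategory.singleFunctor _ 0).mapIso e.toModuleIso) (pc_of_pc' h m)

variable (R A : Type u) [CommRing R] [CommRing A] [Algebra R A]

theorem pc'_flat_module [Module.Flat R A] [Algebra.FinitePresentation R A]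
    (M : Type u) [AddCommGroup M] [Module A M] [Module R M] [IsScalarTower R A M]
    [Module.FinitePresentation A M] [Module.Flat R M] : DRing.IsPseudoCoherentModule' A M := by
  obtain ⟨r, f, hf⟩ := Module.Finite.exists_fin' A M
  letI : Module Aᵐᵒᵖ M := Module.compHom M ((RingHom.id A).fromOpposite mul_comm)
  haveI : IsCentralScalar A M := ⟨fun _ _ => rfl⟩
  letI : Module Rᵐᵒᵖ M := Module.compHom M ((RingHom.id R).fromOpposite mul_comm)
  haveI : IsCentralScalar R M := ⟨fun _ _ => rfl⟩
  let F := TrivSqZeroExt A (Fin r → A)
  let A' := TrivSqZeroExt A M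
  let q : F →ₐ[A] A' := TrivSqZeroExt.map f
  letI : Algebra F A' := q.toRingHom.toAlgebra
  haveI : IsScalarTower A F A' := IsScalarTower.of_algebraMap_eq fun a => (q.commutes a).symm
  haveI : IsScalarTower R F A' := IsScalarTower.of_algebraMap_eq fun x => ((q.restrictScalars R).commutes x).symm
  have eF : F ≃ₗ[A] A × (Fin r → A) := LinearEquiv.refl A F
  have eA' : A' ≃ₗ[A] A × M := LinearEquiv.refl A A'
  haveI : Module.Free A F := Module.Free.of_equiv eF.symm
  haveI : Module.Finite A F := Module.Finite.equiv eF.symm
  haveI : Module.FinitePresentation A F := Module.FinitePresentation.of_equiv eF.symm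
  haveI : Module.Flat R (A × M) := Groth.L20.TorAmp.flat_prod
  haveI : Module.FinitePresentation A A' := Module.FinitePresentation.of_equiv eA'.symm
  haveI : Algebra.FinitePresentation R F := Algebra.FinitePresentation.trans R A F
  haveI : Algebra.FinitePresentation R A' := Algebra.FinitePresentation.trans R A A'
  haveI : Module.Flat R F := Module.Flat.trans R A F
  haveI : Module.Flat R A' := Module.Flat.of_linearEquiv (eA'.restrictScalars R)
  have hsurj : Function.Surjective (algebraMap F A') := fun x => by
    obtain ⟨y, hy⟩ := hf x.snd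
    refine ⟨TrivSqZeroExt.inl x.fst + TrivSqZeroExt.inr y, ?_⟩
    show q _ = x
    rw [map_add, TrivSqZeroExt.map_inl, TrivSqZeroExt.map_inr, hy]
    exact TrivSqZeroExt.inl_fst_add_inr_snd_eq x
  have h1 : PCHom (algebraMap F A') := PCHom.algebraMap_iff.2 (pcHom_flat_quotient R F A' hsurj)
  have h2 : PCHom (algebraMap A F) := PCHom.algebraMap_iff.2 (pcModule'_finiteFree F)
  have h3 : DRing.IsPseudoCoherentModule' A A' := PCHom.algebraMap_iff.1
    ((IsScalarTower.algebraMap_eq A F A').symm ▸ PCHom.comp h2 h1)
  have h4 := pcModule'_of_equiv eA' h3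
  haveI : HasBinaryBiproduct (Dual.inD A A) (Dual.inD A M) := HasBinaryBiproducts.has_binary_biproduct _ _
  haveI : PreservesBinaryBiproduct (ModuleCat.of A A) (ModuleCat.of A M)
      (DerivedCategory.singleFunctor (ModuleCat.{u} A) 0) := preservesBinaryBiproduct_of_preservesBiproduct _ _ _
  refine (pc'_biprod (Dual.inD A A) (Dual.inD A M) ?_).2
  exact pc'_of_forall fun m => pc_of_iso
    ((DerivedCategory.singleFunctor (ModuleCat.{u} A) 0).mapIso (ModuleCat.biprodIsoProd
      (ModuleCat.of A A) (ModuleCat.of A M)).symm ≪≫
      (DerivedCategory.singleFunctor (ModuleCat.{u} A) 0).mapBiprod _ _) (pc_of_pc' h4 m)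

end Groth.L10.RelPC
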