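import Groth.Agent.L10.RelPC.Hom
import Groth.Agent.L07.GeomReducedDescent
import Groth.Agent.L02.Flat
import Mathlib.RingTheory.TensorProduct.Quotient
import Mathlib.RingTheory.Polynomial.Basic
import Mathlib.RingTheory.Flat.Stability

/-! A quotient, flat of finite presentation over the base, of a flat algebra of finite presentation is a
pseudo-coherent module. -/

universe u

open CategoryTheory CategoryTheory.Limits CategoryTheory.Pretriangulated TensorProduct

attribute [local instance] HasDerivedCategory.standard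

set_option backward.defeqAttrib.useBackward true
set_option backward.isDefEq.respectTransparency false
namespace Groth.L10.RelPC

open Groth.L02.PC Groth.L10.DR

/-- base change of pseudo-coherent modules flat over the base -/
theorem pc'_bc_of_flat {A R S B : Type u} [CommRing A] [CommRing R] [CommRing S] [CommRing B]
    [Algebra A R] [Algebra A S] [Algebra R B] [Algebra S B] [Algebra A B] [IsScalarTower A R B]
    [IsScalarTower A S B] [Algebra.IsPushout A R S B] [Module.Flat A S]
    (N : Type u) [AddCommGroup N] [Module S N] [Module A N] [IsScalarTower A S N] [Module.Flat A N]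
    (hN : DRing.IsPseudoCoherentModule' S N) : DRing.IsPseudoCoherentModule' B (B ⊗[S] N) := by
  suffices ∀ (k : ℕ) (N : Type u) [AddCommGroup N] [Module S N] [Module A N] [IsScalarTower A S N],
      DRing.IsPseudoCoherentModule' S N → Module.Flat A N →
      DRing.IsPseudoCoherentModule B (1 - (k : ℤ)) (B ⊗[S] N) from
    pc'_of_forall fun m => pc_mono (show 1 - ((1 - m).toNat : ℤ) ≤ m by omega) (this _ N hN inferInstance)
  intro k
  induction k with
  | zero =>
    intro N _ _ _ _ _ _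
    exact pc_mono (show (0 : ℤ) + 1 ≤ 1 - ((0 : ℕ) : ℤ) by omega) (pc_of_LEH (LEH_inD _))
  | succ k ih =>
    intro N _ _ _ _ hN hfl
    haveI : Module.Finite S N := finite_of_pcModule_zero (pc_of_pc' hN 0)
    obtain ⟨r, f, hf⟩ := Module.Finite.exists_fin' S N
    let F := Fin r → S
    let i : LinearMap.ker f →ₗ[S] F := (LinearMap.ker f).subtype
    have hif : Function.Exact i f := f.exact_subtype_ker_map
    have hN' : DRing.IsPseudoCoherentModule' S (LinearMap.ker f) := by
      let T : ShortComplex (ModuleCat.{u} S) := ShortComplex.mk (ModuleCat.ofHom i) (ModuleCat.ofHom f)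
        (ModuleCat.hom_ext (LinearMap.ext fun x => x.2))
      have hT : T.ShortExact :=
        { exact := (ShortComplex.ShortExact.moduleCat_exact_iff_function_exact _).2 hif
          mono_f := ConcreteCategory.mono_of_injective _ Subtype.val_injective
          epi_g := ConcreteCategory.epi_of_surjective _ hf }
      exact pc'_of_forall fun j => by
        simpa using pc_first _ hT.singleTriangle_distinguished (j - 1)
          (pcModule_free r (j - 1 + 1)) (pc_of_pc' hN (j - 1))
    have hui := Groth.L02.universallyInjective_of_flat_coker (i.restrictScalars A) (f.restrictScalars A)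
      Subtype.val_injective hif hf
    haveI : Module.Flat A F :=
      Module.Flat.trans A S (Fin r → S)
    have hfl' : Module.Flat A (LinearMap.ker f) := by
      rw [Module.Flat.iff_rTensor_preserves_injective_linearMap]
      intro M M' _ _ _ _ g hg x y hxy
      apply (TensorProduct.comm A M (LinearMap.ker f)).injective
      apply hui M
      apply Module.Flat.lTensor_preserves_injective_linearMap (M := F) g hg
      have e : ∀ z : M ⊗[A] LinearMap.ker f,
          g.lTensor F ((i.restrictScalars A).rTensor M (TensorProduct.comm A M _ z)) =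
          (i.restrictScalars A).rTensor M' (TensorProduct.comm A M' _ (g.rTensor _ z)) :=
        fun z => by
          induction z using TensorProduct.induction_on with
          | zero => simp
          | tmul a b => simp
          | add a b ha hb => simp only [map_add, ha, hb]
      rw [e, e]
      exact congrArg _ (congrArg _ hxy)
    let c : ∀ (X : Type u) [AddCommGroup X] [Module S X] [Module A X] [IsScalarTower A S X],
        R ⊗[A] X ≃+ B ⊗[S] X := fun X _ _ _ _ =>
      (Algebra.IsPushout.cancelBaseChange A R S B X).symm.toAddEquiv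
    have hinj : Function.Injective (i.baseChange B) := by
      intro x y hxy
      obtain ⟨x, rfl⟩ := (c _).surjective x
      obtain ⟨y, rfl⟩ := (c _).surjective y
      have e : ∀ z : R ⊗[A] LinearMap.ker f, i.baseChange B (c _ z) = c F ((i.restrictScalars A).lTensor R z) :=
        fun z => by
          induction z using TensorProduct.induction_on with
          | zero => simp
          | tmul a b => simp [c]
          | add a b ha hb => simp only [map_add, ha, hb]
      rw [e, e] at hxy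
      refine congrArg _ ((LinearMap.lTensor_inj_iff_rTensor_inj R (i.restrictScalars A)).2 (hui R) ((c F).injective hxy))
    let T : ShortComplex (ModuleCat.{u} B) := ShortComplex.mk (ModuleCat.ofHom (i.baseChange B))
      (ModuleCat.ofHom (f.baseChange B)) (ModuleCat.hom_ext (by
        rw [ModuleCat.hom_comp, ModuleCat.hom_ofHom, ModuleCat.hom_ofHom, ← LinearMap.baseChange_comp,
          hif.linearMap_comp_eq_zero, LinearMap.baseChange_zero]
        rfl))
    have hT : T.ShortExact :=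
      { exact := (ShortComplex.ShortExact.moduleCat_exact_iff_function_exact _).2 (lTensor_exact B hif hf)
        mono_f := ConcreteCategory.mono_of_injective _ hinj
        epi_g := ConcreteCategory.epi_of_surjective _ (LinearMap.lTensor_surjective B hf) }
    have h2 : DRing.IsPseudoCoherentModule' B (B ⊗[S] F) := pcModule'_finiteFree _
    have h1 := ih (LinearMap.ker f) hN' hfl'
    exact pc_third _ hT.singleTriangle_distinguished _ (pc_mono (by omega) h1) (pc_of_pc' h2 _)

/-- a finitely presented flat module descends to a flat one -/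
theorem exists_flat_stage {R A₁ : Type u} [CommRing R] [CommRing A₁] [Algebra A₁ R] {B M : Type u} [CommRing B]
    [Algebra A₁ B] [Algebra.FinitePresentation A₁ B] [AddCommGroup M] [Module B M] [Module A₁ M]
    [IsScalarTower A₁ B M] [Module.FinitePresentation B M] [Module.Flat R (R ⊗[A₁] M)] :
    ∃ S : Finset R, ∀ (A₂ : Subalgebra A₁ R), (S : Set R) ⊆ A₂ → Module.Flat A₂ (A₂ ⊗[A₁] M) := by
  obtain ⟨d, n, R₀, hR, K, ⟨e⟩⟩ := Groth.L07.FlatDescent.exists_model A₁ (B₀ := B) M
  haveI := hR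
  obtain ⟨e₁⟩ := Groth.L07.FlatDescent.exists_modelEquiv K e R
  haveI : Module.Flat R (Groth.L07.FlatDescent.MC R K) := Module.Flat.of_linearEquiv e₁.symm
  obtain ⟨B', ⟨S, hS⟩, hB'⟩ := Groth.L07.FlatDescent.exists_fg_stage K R
  refine ⟨S, fun A₂ hSA => ?_⟩
  have hmem : ∀ b ∈ B', b ∈ A₂ := by
    intro b hb
    rw [← hS] at hb
    induction hb using Algebra.adjoin_induction with
    | mem x hx => exact hSA hx
    | algebraMap r => exact A₂.algebraMap_mem (algebraMap R₀ A₁ r)
    | add x y _ _ hx hy => exact A₂.add_mem hx hy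
    | mul x y _ _ hx hy => exact A₂.mul_mem hx hy
  let χ : B' →+* A₂ :=
    { toFun := fun b => ⟨b.1, hmem b.1 b.2⟩
      map_one' := rfl
      map_mul' := fun _ _ => rfl
      map_zero' := rfl
      map_add' := fun _ _ => rfl }
  letI := χ.toAlgebra
  haveI : IsScalarTower R₀ B' A₂ := IsScalarTower.of_algebraMap_eq fun r => Subtype.ext rfl
  haveI : Module.Flat B' (Groth.L07.FlatDescent.MC B' K) := hB'
  haveI := Groth.L07.FlatDescent.flat_MC_of_flat K (A := B') (C := A₂)
  obtain ⟨e₂⟩ := Groth.L07.FlatDescent.exists_modelEquiv K e A₂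
  exact Module.Flat.of_linearEquiv e₂

/-- the quotient of the model is pseudo-coherent -/
theorem pc'_quotient_tensor {R A₁ : Type u} [CommRing R] [CommRing A₁] [IsNoetherianRing A₁] [Algebra A₁ R]
    (B₁ : Type u) [CommRing B₁] [Algebra A₁ B₁] [Algebra.FiniteType A₁ B₁] [Module.Flat A₁ B₁]
    (I : Ideal B₁) [Module.Flat R (R ⊗[A₁] (B₁ ⧸ I))] :
    letI := (Algebra.TensorProduct.includeRight : B₁ →ₐ[A₁] R ⊗[A₁] B₁).toRingHom.toAlgebra
    DRing.IsPseudoCoherentModule' (R ⊗[A₁] B₁) ((R ⊗[A₁] B₁) ⊗[B₁] (B₁ ⧸ I)) := by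
  letI := (Algebra.TensorProduct.includeRight : B₁ →ₐ[A₁] R ⊗[A₁] B₁).toRingHom.toAlgebra
  haveI : Algebra.FinitePresentation A₁ B₁ := Algebra.FinitePresentation.of_finiteType.mp inferInstance
  haveI : IsNoetherianRing B₁ := Algebra.FiniteType.isNoetherianRing A₁ B₁
  haveI : Module.FinitePresentation B₁ (B₁ ⧸ I) := Module.finitePresentation_of_finite _ _
  obtain ⟨S, hS⟩ := exists_flat_stage (R := R) (A₁ := A₁) (B := B₁) (M := B₁ ⧸ I)
  let A₂ : Subalgebra A₁ R := Algebra.adjoin A₁ (S : Set R)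
  haveI : Algebra.FiniteType A₁ A₂ := A₂.fg_iff_finiteType.mp ⟨S, rfl⟩
  haveI : IsNoetherianRing A₂ := Algebra.FiniteType.isNoetherianRing A₁ A₂
  haveI hfl : Module.Flat A₂ (A₂ ⊗[A₁] (B₁ ⧸ I)) := hS A₂ Algebra.subset_adjoin
  let B₂ := A₂ ⊗[A₁] B₁
  letI : Algebra B₁ B₂ := (Algebra.TensorProduct.includeRight : B₁ →ₐ[A₁] B₂).toRingHom.toAlgebra
  let j : B₂ →ₐ[A₁] R ⊗[A₁] B₁ :=
    Algebra.TensorProduct.map (IsScalarTower.toAlgHom A₁ A₂ R) (AlgHom.id A₁ B₁)
  letI : Algebra B₂ (R ⊗[A₁] B₁) := j.toRingHom.toAlgebra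
  haveI : IsScalarTower A₁ B₁ B₂ := IsScalarTower.of_algebraMap_eq fun r =>
    ((Algebra.TensorProduct.includeRight : B₁ →ₐ[A₁] B₂).commutes r).symm
  haveI : IsScalarTower A₁ B₁ (R ⊗[A₁] B₁) := IsScalarTower.of_algebraMap_eq fun r =>
    ((Algebra.TensorProduct.includeRight : B₁ →ₐ[A₁] R ⊗[A₁] B₁).commutes r).symm
  haveI : IsScalarTower B₁ B₂ (R ⊗[A₁] B₁) := IsScalarTower.of_algebraMap_eq fun b => by
    show (1 : R) ⊗ₜ b = j ((1 : A₂) ⊗ₜ b)
    rfl
  haveI : IsScalarTower A₂ B₂ (R ⊗[A₁] B₁) := IsScalarTower.of_algebraMap_eq fun a => by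
    show algebraMap A₂ R a ⊗ₜ (1 : B₁) = j (a ⊗ₜ (1 : B₁))
    rfl
  haveI : Algebra.IsPushout A₁ A₂ B₁ B₂ := inferInstance
  haveI hbig : Algebra.IsPushout A₁ R B₁ (R ⊗[A₁] B₁) := inferInstance
  haveI : Algebra.IsPushout A₂ R B₂ (R ⊗[A₁] B₁) := (Algebra.IsPushout.comp_iff A₁ A₂ B₁ B₂).1 hbig
  haveI : IsNoetherianRing B₂ := Algebra.FiniteType.isNoetherianRing A₂ B₂
  let N := B₂ ⊗[B₁] (B₁ ⧸ I)
  haveI : Module.Flat A₂ N :=
    Module.Flat.of_linearEquiv (Algebra.IsPushout.cancelBaseChange A₁ A₂ B₁ B₂ (B₁ ⧸ I))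
  have h := pc'_bc_of_flat (A := A₂) (R := R) (S := B₂) (B := R ⊗[A₁] B₁) N (pcModule'_noetherian N)
  exact pc'_of_forall fun m => pc_of_iso ((DerivedCategory.singleFunctor _ 0).mapIso
    (TensorProduct.AlgebraTensorModule.cancelBaseChange B₁ B₂ (R ⊗[A₁] B₁) (R ⊗[A₁] B₁) (B₁ ⧸ I)).toModuleIso)
    (pc_of_pc' h m)

set_option maxHeartbeats 1000000 in
/-- the quotient from a Noetherian flat model -/
theorem pcHom_of_model {R B A : Type u} [CommRing R] [CommRing B] [CommRing A]
    [Algebra R B] [Algebra R A] [Algebra B A] [IsScalarTower R B A]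
    (hφ : Function.Surjective (algebraMap B A)) [Module.Flat R A] (s : Finset B)
    (hs : Ideal.span (s : Set B) = RingHom.ker (IsScalarTower.toAlgHom R B A).toRingHom)
    {A₁ : Type u} [CommRing A₁] [IsNoetherianRing A₁] [Algebra A₁ R]
    (B₁ : Type u) [CommRing B₁] [Algebra A₁ B₁] [Algebra.FiniteType A₁ B₁] [Module.Flat A₁ B₁]
    (e' : R ⊗[A₁] B₁ ≃ₐ[R] B) (hmem' : ∀ x : {x // x ∈ s}, ∃ t : B₁, e' (1 ⊗ₜ t) = x.1) :
    DRing.IsPseudoCoherentModule' B A := by
  choose t ht using hmem'
  let I : Ideal B₁ := Ideal.span (Set.range t)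
  letI : Algebra B₁ (R ⊗[A₁] B₁) :=
    (Algebra.TensorProduct.includeRight : B₁ →ₐ[A₁] R ⊗[A₁] B₁).toRingHom.toAlgebra
  haveI : IsScalarTower A₁ B₁ (R ⊗[A₁] B₁) := IsScalarTower.of_algebraMap_eq fun r =>
    ((Algebra.TensorProduct.includeRight : B₁ →ₐ[A₁] R ⊗[A₁] B₁).commutes r).symm
  let φ : R ⊗[A₁] B₁ →ₐ[R] A := (IsScalarTower.toAlgHom R B A).comp e'.toAlgHom
  have hφs : Function.Surjective φ := hφ.comp e'.surjective
  have hker : RingHom.ker φ = I.map (algebraMap B₁ (R ⊗[A₁] B₁)) := by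
    apply le_antisymm
    · intro z hz
      have hz' : e' z ∈ RingHom.ker (IsScalarTower.toAlgHom R B A).toRingHom := hz
      rw [← hs] at hz'
      have h2 : e'.symm (e' z) ∈ Ideal.map (e'.symm : B →+* R ⊗[A₁] B₁) (Ideal.span (s : Set B)) :=
        Ideal.mem_map_of_mem (e'.symm : B →+* R ⊗[A₁] B₁) hz'
      rw [e'.symm_apply_apply, Ideal.map_span] at h2
      refine Ideal.span_le.2 ?_ h2
      rintro _ ⟨x, hx, rfl⟩
      show e'.symm x ∈ _
      have hx' : x = e' (1 ⊗ₜ t ⟨x, hx⟩) := (ht ⟨x, hx⟩).symm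
      rw [hx', e'.symm_apply_apply]
      exact Ideal.mem_map_of_mem _ (Ideal.subset_span ⟨_, rfl⟩)
    · rw [Ideal.map_span, Ideal.span_le]
      rintro _ ⟨_, ⟨x, rfl⟩, rfl⟩
      show algebraMap B A (e' (1 ⊗ₜ t x)) = 0
      rw [ht x]
      exact (hs ▸ Ideal.subset_span x.2 : x.1 ∈ RingHom.ker (IsScalarTower.toAlgHom R B A).toRingHom)
  let q : (R ⊗[A₁] B₁) ⊗[B₁] (B₁ ⧸ I) ≃ₐ[R ⊗[A₁] B₁] ((R ⊗[A₁] B₁) ⧸ RingHom.ker φ) :=
    (Algebra.TensorProduct.quotIdealMapEquivTensorQuot (R ⊗[A₁] B₁) I).symm.trans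
      (Ideal.quotientEquivAlgOfEq _ hker.symm)
  let q2 : ((R ⊗[A₁] B₁) ⧸ RingHom.ker φ) ≃ₐ[R] A := Ideal.quotientKerAlgEquivOfSurjective hφs
  letI : Algebra (R ⊗[A₁] B₁) A := φ.toRingHom.toAlgebra
  let qA : (R ⊗[A₁] B₁) ⊗[B₁] (B₁ ⧸ I) ≃ₗ[R ⊗[A₁] B₁] A :=
    q.toLinearEquiv.trans
      { q2.toLinearEquiv.toAddEquiv with
        map_smul' := fun p x => by
          obtain ⟨x, rfl⟩ := Ideal.Quotient.mk_surjective x
          show q2 (Ideal.Quotient.mk _ (p * x)) = φ p * q2 (Ideal.Quotient.mk _ x)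
          exact map_mul φ p x }
  haveI : Module.Flat R (R ⊗[A₁] (B₁ ⧸ I)) := by
    haveI : Algebra.IsPushout A₁ R B₁ (R ⊗[A₁] B₁) := inferInstance
    exact Module.Flat.of_linearEquiv
      ((Algebra.IsPushout.cancelBaseChange A₁ R B₁ (R ⊗[A₁] B₁) (B₁ ⧸ I)).symm.trans
        { qA.toAddEquiv with
          map_smul' := fun r x => by
            show qA (r • x) = r • qA x
            rw [← IsScalarTower.algebraMap_smul (R ⊗[A₁] B₁) r x, map_smul]
            show φ (algebraMap R _ r) * _ = _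
            rw [φ.commutes, Algebra.smul_def] })
  have hp : PCHom (φ : R ⊗[A₁] B₁ →+* A) := pc'_of_forall fun m => pc_of_iso
    ((DerivedCategory.singleFunctor _ 0).mapIso qA.toModuleIso) (pc_of_pc' (pc'_quotient_tensor B₁ I) m)
  have hfin := (PCHom.ringEquiv e'.symm.toRingEquiv).comp hp
  rw [show ((φ : R ⊗[A₁] B₁ →+* A).comp (e'.symm.toRingEquiv : B →+* R ⊗[A₁] B₁)) = algebraMap B A from
    RingHom.ext fun b => congrArg (algebraMap B A) (e'.apply_symm_apply b)] at hfin
  exact PCHom.algebraMap_iff.1 hfin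

set_option maxHeartbeats 1000000 in
theorem pcHom_flat_quotient (R B A : Type u) [CommRing R] [CommRing B] [CommRing A]
    [Algebra R B] [Algebra R A] [Algebra B A] [IsScalarTower R B A]
    (hφ : Function.Surjective (algebraMap B A))
    [Module.Flat R B] [Algebra.FinitePresentation R B] [Module.Flat R A] [Algebra.FinitePresentation R A] :
    DRing.IsPseudoCoherentModule' B A := by
  classical
  obtain ⟨s, hs⟩ := Algebra.FinitePresentation.ker_fG_of_surjective (IsScalarTower.toAlgHom R B A) hφ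
  obtain ⟨A₀, _, B₀, _, _, _, _, ⟨e⟩⟩ := Groth.L07.FlatGeomReduced.exists_flat_model R B
  obtain ⟨A', hA', hmem⟩ := Groth.L07.FlatGeomReduced.exists_stage_mem (A := R) (B₁ := B₀)
    (s.image e.symm)
  haveI : Algebra.FiniteType A₀ A' := A'.fg_iff_finiteType.mp hA'
  haveI : IsNoetherianRing A' := Algebra.FiniteType.isNoetherianRing A₀ A'
  let B₁ := A' ⊗[A₀] B₀
  let e' : R ⊗[A'] B₁ ≃ₐ[R] B := (Algebra.TensorProduct.cancelBaseChange A₀ A' R R B₀).trans e
  have hmem' : ∀ x : {x // x ∈ s}, ∃ t : B₁, e' (1 ⊗ₜ t) = x.1 := fun x => by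
    obtain ⟨t, ht⟩ := hmem _ (Finset.mem_image_of_mem e.symm x.2)
    refine ⟨t, ?_⟩
    have : ∀ t : B₁, Algebra.TensorProduct.cancelBaseChange A₀ A' R R B₀ (1 ⊗ₜ t) =
        Algebra.TensorProduct.map A'.val (AlgHom.id A₀ B₀) t := fun t => by
      induction t using TensorProduct.induction_on with
      | zero => rw [TensorProduct.tmul_zero, map_zero, map_zero]
      | tmul a b => simp [Algebra.smul_def]
      | add a b ha hb => rw [TensorProduct.tmul_add, map_add, map_add, ha, hb]
    show e (Algebra.TensorProduct.cancelBaseChange A₀ A' R R B₀ (1 ⊗ₜ t)) = _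
    rw [this]
    exact (congrArg e ht).trans (e.apply_symm_apply _)
  exact pcHom_of_model hφ s hs B₁ e' hmem'

end Groth.L10.RelPC
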