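import Groth.Agent.L10.DRing.LocalAmp
import Groth.Agent.L10.DRing.Amp
import Groth.Agent.L10.DTen.Base
import Groth.Agent.L29.DCoh.PullTensor
import Groth.Prelude.Def_DerSch

/-!
Tor amplitude of pullbacks and mixed tensor products, stalkwise.
-/

set_option autoImplicit false
set_option linter.style.haveILetI false
set_option backward.isDefEq.respectTransparency false
set_option backward.isDefEq.respectTransparency.types false
set_option backward.defeqAttrib.useBackward true

universe u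

open CategoryTheory CategoryTheory.Limits AlgebraicGeometry MonoidalCategory

attribute [local instance] HasDerivedCategory.standard

namespace Groth.L10.RelPC.MixedAmp

section Ring

open Groth.L10.AmpTest Groth.L10.LocalAmp

variable {A B C : Type u} [CommRing A] [CommRing B] [CommRing C]

/-- tor amplitude of the mixed derived tensor product -/
theorem amp_mixed (f : A →+* B) (g : B →+* C) (h : A →+* C) (hh : h = g.comp f) (K : DRing.Cx B)
    (hK : DRing.IsKFlat B K) {c d : ℤ}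
    (hKa : DRing.HasTorAmplitudeIn A c d (DRing.toD ((_root_.DTen.resCx f).obj K))) (F : DRing.Cx C) {a b : ℤ}
    (hF : DRing.HasTorAmplitudeIn B a b (DRing.toD ((_root_.DTen.resCx g).obj F))) :
    DRing.HasTorAmplitudeIn A (a + c) (b + d)
      (DRing.toD ((_root_.DTen.resCx h).obj ((_root_.DTen.extCx g).obj K ⊗ F))) := by
  letI := f.toAlgebra
  subst hh
  refine (amp_iff_test _ _ _).2 fun N P hP e i hi => ?_
  let Z := (_root_.DTen.extCx (algebraMap A B)).obj P ⊗ K
  have hZk : DRing.IsKFlat B Z := Groth.L10.KFlat.isKFlat_tensor (Groth.L10.DTen.isKFlat_ext _ hP) hK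
  have hZ : ∀ j, j < c ∨ d < j → IsZero (Z.homology j) := fun j hj =>
    (test_iff P K j).1 ((amp_iff_test _ c d).1 hKa N P hP e j hj)
  obtain ⟨E, hE, hEf, ⟨eE⟩⟩ := hF
  have h1 : IsZero ((Z ⊗ E).homology i) := isZero_tensor_bounded hE hEf hZ i hi
  have h2 : IsZero ((Z ⊗ (_root_.DTen.resCx g).obj F).homology i) :=
    (braid_homology _ _ i).1 ((test_congr' eE hZk i).1 ((braid_homology _ _ i).1 h1))
  have h3 : IsZero (((_root_.DTen.extCx (algebraMap A B)).obj P ⊗
      (_root_.DTen.resCx g).obj ((_root_.DTen.extCx g).obj K ⊗ F)).homology i) :=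
    (iso_homology (whiskerLeftIso _ (Groth.L00.BaseChangeTensor.tensorIso g K F)) i).1
      ((iso_homology (α_ _ _ _) i).1 h2)
  exact (iso_homology (whiskerRightIso (resComp f g _ rfl _) P) i).2 ((test_iff P _ i).2 h3)

end Ring

variable {X Y Z : Scheme.{u}} (f : X ⟶ Y) (g : Y ⟶ Z)

open Groth.L00 in
/-- stalkwise tor amplitude does not depend on the representative -/
theorem torAmpAt_congr {W T : Scheme.{u}} (h : W ⟶ T) (x : W) {M N : CochainComplex W.Modules ℤ}
    (e : DCoh.toD W M ≅ DCoh.toD W N) {a b : ℤ} (hM : DerSch.HasTorAmplitudeAt h a b M x) :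
    DerSch.HasTorAmplitudeAt h a b N x := by
  let R := DerSch.stalkOver h x
  haveI : PreservesFiniteLimits (DerSch.stalkFunctor W x) := Stk.preservesFiniteLimits (X := W) x
  haveI : PreservesFiniteColimits (DerSch.stalkFunctor W x) := Stk.preservesFiniteColimits (X := W) x
  haveI : PreservesFiniteColimits (ModuleCat.restrictScalars.{u} (h.stalkMap x).hom) := inferInstance
  exact Groth.L10.DR.amp_of_iso ((R.mapDerivedCategoryFactors.app M).symm ≪≫ R.mapDerivedCategory.mapIso e ≪≫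
    R.mapDerivedCategoryFactors.app N) hM

open Groth.L00 Groth.L29.DC in
/-- `f^*P ⊗ F` for K-flat `P` -/
theorem torAmpAt_tensor (P : CochainComplex Y.Modules ℤ) (hP : DCoh.IsKFlat P) (F : CochainComplex X.Modules ℤ)
    (x : X) {a b c d : ℤ} (hF : DerSch.HasTorAmplitudeAt f a b F x)
    (hPa : DerSch.HasTorAmplitudeAt g c d P (f x)) :
    DerSch.HasTorAmplitudeAt (f ≫ g) (a + c) (b + d)
      ((DCoh.tensorCx.obj ((PullTensor.pullCx f).obj P)).obj F) x := by
  let φf : Y.presheaf.stalk (f x) →+* X.presheaf.stalk x := PullStalk.φ f x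
  let φg : Z.presheaf.stalk (g (f x)) →+* Y.presheaf.stalk (f x) := (g.stalkMap (f x)).hom
  have hh : ((f ≫ g).stalkMap x).hom = φf.comp φg := by
    rw [Scheme.Hom.stalkMap_comp]
    rfl
  have hK : DRing.IsKFlat (Y.presheaf.stalk (f x)) ((Stk.S Y (f x)).obj P) := fun L hL i =>
    (Groth.L00.KFlat.stalk_KF P hP (f x) L hL i).of_iso
      ((HomologicalComplex.homologyFunctor _ _ i).mapIso (_root_.DTen.braidCx L _))
  have h1 := amp_mixed φg φf _ hh ((Stk.S Y (f x)).obj P) hK hPa ((Stk.S X x).obj F) hF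
  let T := (DCoh.tensorCx.obj ((PullTensor.pullCx f).obj P)).obj F
  let e : (_root_.DTen.extCx φf).obj ((Stk.S Y (f x)).obj P) ⊗ (Stk.S X x).obj F ≅ (Stk.S X x).obj T :=
    _root_.DTen.braidCx _ _ ≪≫ whiskerLeftIso _ (Groth.L00.KFlat.pullCxIso f P x).symm ≪≫
    Stk.tensorCxIso x ((PullTensor.pullCx f).obj P) F
  exact Groth.L10.DR.amp_of_iso (DerivedCategory.Q.mapIso
    ((_root_.DTen.resCx ((f ≫ g).stalkMap x).hom).mapIso e :
      (_root_.DTen.resCx ((f ≫ g).stalkMap x).hom).obj _ ≅ (DerSch.stalkCxOver (f ≫ g) x).obj T)) h1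

open Groth.L00 Groth.L29.DC in
/-- `Lf^*` -/
theorem torAmpD_Lpull [DCoh.HasLpull f] (m : ℕ) (hf : DerSch.HasTorDimLE f m)
    (G : CochainComplex Y.Modules ℤ) {c d : ℤ} (hG : DerSch.HasTorAmplitude g c d G) :
    DerSch.HasTorAmplitudeD (f ≫ g) (c - m) d ((DCoh.Lpull f).obj (DCoh.toD Y G)) := by
  obtain ⟨P, q, hP, -, hq, -⟩ := Groth.L00.KFlat.exists_resolution G
  haveI := (DerivedCategory.isIso_Q_map_iff_quasiIso _ q).2 hq
  let eP : DCoh.toD Y P ≅ DCoh.toD Y G := asIso (DerivedCategory.Q.map q)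
  rintro F' ⟨eF⟩ x
  let φf : Y.presheaf.stalk (f x) →+* X.presheaf.stalk x := PullStalk.φ f x
  let φg : Z.presheaf.stalk (g (f x)) →+* Y.presheaf.stalk (f x) := (g.stalkMap (f x)).hom
  have hh : ((f ≫ g).stalkMap x).hom = φf.comp φg := by
    rw [Scheme.Hom.stalkMap_comp]
    rfl
  have hK : DRing.IsKFlat (Y.presheaf.stalk (f x)) ((Stk.S Y (f x)).obj P) := fun L hL i =>
    (Groth.L00.KFlat.stalk_KF P hP (f x) L hL i).of_iso
      ((HomologicalComplex.homologyFunctor _ _ i).mapIso (_root_.DTen.braidCx L _))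
  let σ : X.presheaf.stalk x ≃ₗ[X.presheaf.stalk x] (Coh.structureModule X).presheaf.stalk x := LinearEquiv.ofBijective
    (LinearMap.toSpanSingleton (X.presheaf.stalk x) ((Coh.structureModule X).presheaf.stalk x)
      (Groth.L22.oneGerm x))
    ⟨(injective_iff_map_eq_zero _).2 fun a ha => Groth.L22.eq_zero_of_smul_oneGerm ha,
      Groth.L22.stalk_smul_oneGerm_surjective x⟩
  let e₁ : (Stk.S X x).obj (DerSch.unitCx X) ≅ 𝟙_ (DRing.Cx (X.presheaf.stalk x)) :=
    (HomologicalComplex.singleMapHomologicalComplex (Stk.F X x) (ComplexShape.up ℤ) 0).app (Coh.structureModule X) ≪≫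
      (HomologicalComplex.single _ _ 0).mapIso (LinearEquiv.toModuleIso
        (X₁ := ((Stk.F X x).obj (Coh.structureModule X) : Type u))
        (X₂ := ((𝟙_ (ModuleCat.{u} (X.presheaf.stalk x)) : ModuleCat.{u} (X.presheaf.stalk x)) : Type u)) σ.symm)
  have h1 := amp_mixed φg φf _ hh ((Stk.S Y (f x)).obj P) hK (torAmpAt_congr g (f x) eP.symm (hG (f x)))
    ((Stk.S X x).obj (DerSch.unitCx X)) (hf x)
  have h2 : DerSch.HasTorAmplitudeAt (f ≫ g) (c - m) d ((PullTensor.pullCx f).obj P) x := by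
    rw [show c - (m : ℤ) = -(m : ℤ) + c by ring, ← zero_add d]
    exact Groth.L10.DR.amp_of_iso (DerivedCategory.Q.mapIso ((_root_.DTen.resCx _).mapIso
      (whiskerLeftIso _ e₁ ≪≫ ρ_ _ ≪≫ (Groth.L00.KFlat.pullCxIso f P x).symm))) h1
  exact torAmpAt_congr (f ≫ g) x ((DerivedApi.objIso (DerivedApi.acyclicKFlat_pullback f) P hP).symm ≪≫
    (DCoh.Lpull f).mapIso eP ≪≫ eF.symm) h2

open Groth.L00 Groth.L29.DC in
/-- `Lf^* G ⊗ F` -/
theorem torAmpD_tensor [DCoh.HasLpull f] (F : CochainComplex X.Modules ℤ) [DCoh.HasLTensorCx F] {a b : ℤ}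
    (hF : DerSch.HasTorAmplitude f a b F) (G : CochainComplex Y.Modules ℤ) {c d : ℤ}
    (hG : DerSch.HasTorAmplitude g c d G) :
    DerSch.HasTorAmplitudeD (f ≫ g) (a + c) (b + d)
      ((DCoh.LTensorCx F).obj ((DCoh.Lpull f).obj (DCoh.toD Y G))) := by
  obtain ⟨P, q, hP, -, hq, -⟩ := Groth.L00.KFlat.exists_resolution G
  haveI := (DerivedCategory.isIso_Q_map_iff_quasiIso _ q).2 hq
  let eP : DCoh.toD Y P ≅ DCoh.toD Y G := asIso (DerivedCategory.Q.map q)
  obtain ⟨eT⟩ := nonempty_LTensorCx_iso F ((PullTensor.pullCx f).obj P) (Groth.L00.KFlat.pullback_kflat f P hP)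
  rintro F' ⟨eF⟩ x
  exact torAmpAt_congr (f ≫ g) x (eT.symm ≪≫ (DCoh.LTensorCx F).mapIso
      ((DerivedApi.objIso (DerivedApi.acyclicKFlat_pullback f) P hP).symm ≪≫ (DCoh.Lpull f).mapIso eP) ≪≫ eF.symm)
    (torAmpAt_tensor f g P hP F x (hF x) (torAmpAt_congr g (f x) eP.symm (hG (f x))))

end Groth.L10.RelPC.MixedAmp
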