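import Groth.Agent.L10.RelPC.Local
import Groth.Agent.L02.CAlg.Tor.Vanish
import Mathlib.LinearAlgebra.DirectSum.Finsupp
import Mathlib.LinearAlgebra.TensorProduct.Prod
import Mathlib.Algebra.Homology.HomotopyCategory.MappingCone
import Mathlib.RingTheory.TensorProduct.Quotient

/-! Tor independent base change of relative pseudo-coherence. -/

universe u

open CategoryTheory CategoryTheory.Limits CategoryTheory.Pretriangulated CochainComplex TensorProduct

attribute [local instance] HasDerivedCategory.standard MvPolynomial.algebraMvPolynomial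
  Algebra.TensorProduct.rightAlgebra

set_option backward.defeqAttrib.useBackward true
set_option backward.isDefEq.respectTransparency false
namespace Groth.L10.RelPC

open Groth.L02.PC Groth.L10.DR L02.CAlg.TorV

section Lin

variable (R : Type u) [CommRing R] (A : Type u) [AddCommGroup A] [Module R A]

/-- tensoring with `X` keeps injective those injections whose cokernel is tor-independent of `A` -/
def TG (X : Type u) [AddCommGroup X] [Module R X] : Prop :=
  ∀ (N' N N'' : Type u) [AddCommGroup N'] [Module R N'] [AddCommGroup N] [Module R N]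
    [AddCommGroup N''] [Module R N''] (f : N' →ₗ[R] N) (g : N →ₗ[R] N''),
    Function.Injective f → Function.Surjective g → Function.Exact f g → Van R A N'' 0 →
    Function.Injective (f.lTensor X)

variable {R A}

theorem TG.self : TG R A A := fun _ _ _ _ _ _ _ _ _ _ _ hf hg hfg h => Van.injective hf hg hfg h

theorem TG.of_flat {X : Type u} [AddCommGroup X] [Module R X] [Module.Flat R X] : TG R A X :=
  fun _ _ _ _ _ _ _ _ _ f _ hf _ _ _ => Module.Flat.lTensor_preserves_injective_linearMap f hf

theorem TG.congr {X Y : Type u} [AddCommGroup X] [Module R X] [AddCommGroup Y] [Module R Y]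
    (h : TG R A X) (e : X ≃ₗ[R] Y) : TG R A Y := fun N' N N'' _ _ _ _ _ _ f g hf hg hfg hv x y hxy => by
  obtain ⟨x, rfl⟩ := (LinearEquiv.rTensor N' e).surjective x
  obtain ⟨y, rfl⟩ := (LinearEquiv.rTensor N' e).surjective y
  have : (LinearEquiv.rTensor N e) (f.lTensor X x) = (LinearEquiv.rTensor N e) (f.lTensor X y) := by
    refine Eq.trans (comm_map e.toLinearMap f x) (Eq.trans hxy (comm_map e.toLinearMap f y).symm)
  exact congrArg _ (h N' N N'' f g hf hg hfg hv ((LinearEquiv.rTensor N e).injective this))

theorem TG.prod {X Y : Type u} [AddCommGroup X] [Module R X] [AddCommGroup Y] [Module R Y]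
    (hX : TG R A X) (hY : TG R A Y) : TG R A (X × Y) := fun N' N N'' _ _ _ _ _ _ f g hf hg hfg hv => by
  have h : ∀ v, TensorProduct.prodLeft R R X Y N (f.lTensor (X × Y) v) =
      LinearMap.prodMap (f.lTensor X) (f.lTensor Y) (TensorProduct.prodLeft R R X Y N' v) := fun v => by
    induction v using TensorProduct.induction_on with
    | zero => simp only [map_zero]
    | tmul p n => cases p; simp
    | add a b ha hb => simp only [map_add, ha, hb]
  intro x y hxy
  apply (TensorProduct.prodLeft R R X Y N').injective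
  exact (hX N' N N'' f g hf hg hfg hv).prodMap (hY N' N N'' f g hf hg hfg hv)
    ((h x).symm.trans ((congrArg _ hxy).trans (h y)))

theorem TG.finsupp {X : Type u} [AddCommGroup X] [Module R X] (hX : TG R A X) (ι : Type u) :
    TG R A (ι →₀ X) := fun N' N N'' _ _ _ _ _ _ f g hf hg hfg hv => by
  classical
  have h : ∀ v, TensorProduct.finsuppLeft R R X N ι (f.lTensor (ι →₀ X) v) =
      Finsupp.mapRange.linearMap (f.lTensor X) (TensorProduct.finsuppLeft R R X N' ι v) := fun v => by
    induction v using TensorProduct.induction_on with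
    | zero => simp
    | add a b ha hb => simp only [map_add, ha, hb]
    | tmul p n =>
      ext i
      simp [TensorProduct.finsuppLeft_apply_tmul_apply]
  intro x y hxy
  apply (TensorProduct.finsuppLeft R R X N' ι).injective
  exact Finsupp.mapRange_injective _ (map_zero _) (hX N' N N'' f g hf hg hfg hv)
    ((h x).symm.trans ((congrArg _ hxy).trans (h y)))

/-- tor independence keeps bounded above exact complexes exact -/
theorem exact_rTensor {X : ℤ → Type u} [∀ i, AddCommGroup (X i)] [∀ i, Module R (X i)]
    (d : ∀ i j : ℤ, X i →ₗ[R] X j) (hex : ∀ i j k : ℤ, i + 1 = j → j + 1 = k → Function.Exact (d i j) (d j k))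
    (b : ℤ) (hb : ∀ i, b < i → Subsingleton (X i)) (hX : ∀ i, TG R A (X i)) :
    ∀ (N : Type u) [AddCommGroup N] [Module R N], (∀ k, Van R A N k) →
      ∀ i j k : ℤ, i + 1 = j → j + 1 = k → Function.Exact ((d i j).rTensor N) ((d j k).rTensor N) := by
  suffices ∀ (n : ℕ) (N : Type u) [AddCommGroup N] [Module R N], (∀ k, Van R A N k) →
      ∀ i j k : ℤ, i + 1 = j → j + 1 = k → b + 1 ≤ j + n →
        Function.Exact ((d i j).rTensor N) ((d j k).rTensor N) from
    fun N _ _ hN i j k hij hjk => this (b + 1 - j).toNat N hN i j k hij hjk (by omega)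
  intro n
  induction n with
  | zero =>
    intro N _ _ _ i j k _ _ hj x
    haveI := hb j (by omega)
    rw [Subsingleton.elim x 0]
    exact ⟨fun _ => ⟨0, map_zero _⟩, fun _ => map_zero _⟩
  | succ n ih =>
    intro N _ _ hN i j k hij hjk hj
    let π : (N →₀ R) →ₗ[R] N := Finsupp.linearCombination R id
    have hπ : Function.Surjective π := Finsupp.linearCombination_id_surjective R N
    obtain ⟨N1, _, _, f, hf, hfπ⟩ : ∃ (N1 : Type u) (_ : AddCommGroup N1) (_ : Module R N1)
        (f : N1 →ₗ[R] (N →₀ R)), Function.Injective f ∧ Function.Exact f π :=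
      ⟨LinearMap.ker π, inferInstance, inferInstance, (LinearMap.ker π).subtype, Subtype.val_injective,
        π.exact_subtype_ker_map⟩
    have hN1 : ∀ q, Van R A N1 q := fun q =>
      Van.left hf hπ hfπ (van_of_flat_right (N →₀ R) q) (hN (q + 1))
    have hinj : ∀ l, Function.Injective (f.lTensor (X l)) := fun l =>
      hX l N1 (N →₀ R) N f π hf hπ hfπ (hN 0)
    obtain ⟨l, hl⟩ : ∃ l, k + 1 = l := ⟨k + 1, rfl⟩
    intro x
    constructor
    · intro hx
      obtain ⟨y, rfl⟩ := LinearMap.lTensor_surjective _ hπ x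
      rw [comm_map] at hx
      obtain ⟨z, hz⟩ := (lTensor_exact (X k) hfπ hπ _).mp hx
      have hz0 : (d k l).rTensor _ z = 0 := hinj l (by
        rw [map_zero, ← comm_map, hz, ← LinearMap.rTensor_comp_apply, (hex j k l hjk hl).linearMap_comp_eq_zero,
          LinearMap.rTensor_zero, LinearMap.zero_apply])
      obtain ⟨w, rfl⟩ := (ih N1 hN1 j k l hjk hl (by omega) z).mp hz0
      have hcyc : (d j k).rTensor _ (y - f.lTensor _ w) = 0 := by
        rw [map_sub, comm_map, hz, sub_self]
      obtain ⟨u, hu⟩ := (Module.Flat.rTensor_exact (N →₀ R) (hex i j k hij hjk) _).mp hcyc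
      refine ⟨π.lTensor _ u, ?_⟩
      rw [comm_map, hu, map_sub, ← LinearMap.lTensor_comp_apply, hfπ.linearMap_comp_eq_zero,
        LinearMap.lTensor_zero, LinearMap.zero_apply, sub_zero]
    · rintro ⟨u, rfl⟩
      rw [← LinearMap.rTensor_comp_apply, (hex i j k hij hjk).linearMap_comp_eq_zero,
        LinearMap.rTensor_zero, LinearMap.zero_apply]

end Lin

section Main

/-- base change of a bounded above pseudo-coherent complex of free modules -/
theorem pc_bc_of_bounded_free {A B : Type u} [CommRing A] [CommRing B] (φ : A →+* B) {P : DRing.Cx A} {n m : ℤ}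
    (hPb : DRing.VanishesAbove P n) (hPfree : ∀ i, Module.Free A (P.X i))
    (hK : DRing.IsPseudoCoherent A m (DRing.toD P)) :
    DRing.IsPseudoCoherent B m (DRing.toD ((bcCx φ).obj P)) := by
  obtain ⟨E, a, b, α, v, f, happ⟩ := (pc_iff m _).1 hK
  have := isKProjective_bounded v f
  obtain ⟨g, hg⟩ := exists_chainMap α
  rw [← hg, isApprox_Q_map_iff] at happ
  have hproj : ∀ i, Module.Projective A ((mappingCone g).X i) := fun i => by
    have := (f (i + 1)).2
    have := hPfree i
    exact Module.Projective.of_equiv (coneEquiv g i (i + 1) rfl).symm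
  have hab : DRing.VanishesAbove (mappingCone g) (max b n) := fun i hi => by
    rw [mappingCone.isZero_X_iff]
    exact ⟨v _ (Or.inr (by omega)), hPb _ (by omega)⟩
  have hcone : IsApprox (DerivedCategory.Q.map ((bcCx φ).map g)) m := by
    rw [isApprox_Q_map_iff]
    intro i hi
    exact IsZero.of_iso (isZero_homology_map hab hproj happ (ModuleCat.extendScalars.{u, u, u} φ) i hi)
      ((HomologicalComplex.homologyFunctor _ _ i).mapIso
        (mappingCone.mapHomologicalComplexIso g (ModuleCat.extendScalars.{u, u, u} φ))).symm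
  exact pc_of_approx _ hcone (pc_of_bounded_free (bcCx_bounded φ v f).1 (bcCx_bounded φ v f).2 m)

variable {R A R' : Type u} [CommRing R] [CommRing A] [CommRing R'] [Algebra R A] [Algebra R R']

section

variable (R R' : Type u) [CommRing R] [CommRing R'] [Algebra R R']
  (P P' : Type u) [CommRing P] [CommRing P'] [Algebra R P] [Algebra R' P']
  [Algebra P P'] [Algebra R P'] [IsScalarTower R R' P'] [IsScalarTower R P P'] [Algebra.IsPushout R R' P P']

open Groth.L29.FlatBC in
/-- extension of scalars along a pushout, as a tensor product over the base -/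
noncomputable def bcAdd (M : ModuleCat.{u} P) [Module R M] [IsScalarTower R P M] :
    M ⊗[R] R' ≃+ (ModuleCat.extendScalars.{u, u, u} (algebraMap P P')).obj M :=
  (TensorProduct.comm R M R').toAddEquiv.trans
    ((Algebra.IsPushout.cancelBaseChange R R' P P' M).symm.toAddEquiv.trans (extEquiv P P' M).symm.toAddEquiv)

open Groth.L29.FlatBC in
theorem bcAdd_tmul (M : ModuleCat.{u} P) [Module R M] [IsScalarTower R P M] (v : M) (r : R') :
    bcAdd R R' P P' M (v ⊗ₜ r) = (extEquiv P P' M).symm (algebraMap R' P' r ⊗ₜ v) := by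
  simp [bcAdd]

theorem bcAdd_natural {M N : ModuleCat.{u} P} [Module R M] [IsScalarTower R P M] [Module R N]
    [IsScalarTower R P N] (g : M ⟶ N) (x : M ⊗[R] R') :
    bcAdd R R' P P' N ((g.hom.restrictScalars R).rTensor R' x) =
      (ModuleCat.extendScalars.{u, u, u} (algebraMap P P')).map g (bcAdd R R' P P' M x) := by
  induction x using TensorProduct.induction_on with
  | zero => simp
  | add a c ha hc => rw [map_add, map_add, map_add, map_add, ha, hc]
  | tmul v r =>
    rw [LinearMap.rTensor_tmul, bcAdd_tmul, bcAdd_tmul]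
    rfl

end

open Groth.L29.FlatBC in
/-- extension from `R` to `R'` of a complex over an intermediate algebra, exactness -/
theorem isZero_bc_homology {P P' : Type u} [CommRing P] [CommRing P'] [Algebra R P] [Algebra R' P']
    [Algebra P P'] [Algebra R P'] [IsScalarTower R R' P'] [IsScalarTower R P P'] [Algebra.IsPushout R R' P P']
    (C : DRing.Cx P) (b : ℤ) (hb : DRing.VanishesAbove C b) (hC : ∀ i, IsZero (C.homology i))
    (hTG : ∀ i, letI := Module.compHom (C.X i) (algebraMap R P); TG R A (C.X i))
    (htor : ∀ k, Van R A R' k) (j : ℤ) : IsZero (((bcCx (algebraMap P P')).obj C).homology j) := by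
  letI : ∀ i, Module R (C.X i) := fun i => Module.compHom (C.X i) (algebraMap R P)
  haveI : ∀ i, IsScalarTower R P (C.X i) := fun i => IsScalarTower.of_algebraMap_smul fun _ _ => rfl
  have h := exact_rTensor (A := A) (fun i j => (C.d i j).hom.restrictScalars R)
    (fun i j k h1 h2 => (isZero_homology_iff_exact C i j k h1 h2).1 (hC j)) b
    (fun i hi => ModuleCat.subsingleton_of_isZero (hb i hi)) hTG R' htor (j - 1) j (j + 1) (by omega) rfl
  rw [isZero_homology_iff_exact _ (j - 1) j (j + 1) (by omega) rfl]
  exact Function.Exact.of_ladder_addEquiv_of_exact (e₁ := bcAdd R R' P P' (C.X (j - 1)))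
    (e₂ := bcAdd R R' P P' (C.X j)) (e₃ := bcAdd R R' P P' (C.X (j + 1)))
    (f₁₂ := (((C.d (j - 1) j).hom.restrictScalars R).rTensor R').toAddMonoidHom)
    (f₂₃ := (((C.d j (j + 1)).hom.restrictScalars R).rTensor R').toAddMonoidHom)
    (g₁₂ := (((bcCx (algebraMap P P')).obj C).d (j - 1) j).hom.toAddMonoidHom)
    (g₂₃ := (((bcCx (algebraMap P P')).obj C).d j (j + 1)).hom.toAddMonoidHom)
    (AddMonoidHom.ext fun x => (bcAdd_natural R R' P P' (C.d (j - 1) j) x).symm)
    (AddMonoidHom.ext fun x => (bcAdd_natural R R' P P' (C.d j (j + 1)) x).symm) h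

theorem tor_bc [Algebra.FiniteType R A] (htor : ∀ p : ℕ, 0 < p → Subsingleton (DRing.Tor R p A R'))
    [DRing.HasLBaseChange (Algebra.TensorProduct.includeRight : A →ₐ[R] TensorProduct R R' A).toRingHom]
    (K : Dual.D A) (m : ℤ) (hK : DerCA.IsRelPseudoCoherent R A m K) :
    DerCA.IsRelPseudoCoherent R' (TensorProduct R R' A) m
      ((DRing.LBaseChange (Algebra.TensorProduct.includeRight : A →ₐ[R] TensorProduct R R' A).toRingHom).obj K) := by
  have hv : ∀ k, Van R A R' k := fun k => (isZero_tor_iff A R' k).1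
    (haveI := htor (k + 1) (Nat.succ_pos k)
     ModuleCat.isZero_of_subsingleton _)
  obtain ⟨n, α, hα⟩ := exists_presentation R A
  have hK' := (rel_iff α hα).1 hK
  obtain ⟨b, hb⟩ := bounded_of_pc hK'
  obtain ⟨Q, hQb, hQf, hQk, ⟨eQ⟩⟩ := exists_free_rep hb
  haveI := hQk
  let P := MvPolynomial (Fin n) R
  let P' := MvPolynomial (Fin n) R'
  letI : Algebra P A := (α : MvPolynomial (Fin n) R →+* A).toAlgebra
  let γ : P' →ₐ[R'] R' ⊗[R] A := MvPolynomial.aeval fun i => (1 : R') ⊗ₜ α (MvPolynomial.X i)
  letI : Algebra P' (R' ⊗[R] A) := (γ : MvPolynomial (Fin n) R' →+* R' ⊗[R] A).toAlgebra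
  letI : Algebra P (R' ⊗[R] A) := ((algebraMap A (R' ⊗[R] A)).comp (α : MvPolynomial (Fin n) R →+* A)).toAlgebra
  have hγP : (γ : MvPolynomial (Fin n) R' →+* R' ⊗[R] A).comp (algebraMap P P') =
      (algebraMap A (R' ⊗[R] A)).comp (α : MvPolynomial (Fin n) R →+* A) :=
    MvPolynomial.ringHom_ext
      (fun r => by
        show γ (MvPolynomial.map (algebraMap R R') (MvPolynomial.C r)) = _
        rw [MvPolynomial.map_C]
        exact (γ.commutes _).trans (((IsScalarTower.algebraMap_apply R R' (R' ⊗[R] A) r).symm.trans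
          (IsScalarTower.algebraMap_apply R A (R' ⊗[R] A) r)).trans (congrArg _ (α.commutes r).symm)))
      (fun i => by
        show γ (MvPolynomial.map (algebraMap R R') (MvPolynomial.X i)) = _
        rw [MvPolynomial.map_X]
        exact MvPolynomial.aeval_X _ i)
  haveI : IsScalarTower P A (R' ⊗[R] A) := IsScalarTower.of_algebraMap_eq fun _ => rfl
  haveI : IsScalarTower P P' (R' ⊗[R] A) := IsScalarTower.of_algebraMap_eq fun x => (RingHom.congr_fun hγP x).symm
  haveI : IsScalarTower R P A := IsScalarTower.of_algebraMap_eq fun r => (α.commutes r).symm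
  haveI : IsScalarTower R P' (R' ⊗[R] A) := IsScalarTower.of_algebraMap_eq fun r => by
    rw [IsScalarTower.algebraMap_apply R R' (R' ⊗[R] A)]
    exact (γ.commutes _).symm
  haveI : IsScalarTower R' P' (R' ⊗[R] A) := IsScalarTower.of_algebraMap_eq fun r => (γ.commutes r).symm
  haveI : Algebra.IsPushout R P R' P' := inferInstance
  haveI hRA : Algebra.IsPushout R A R' (R' ⊗[R] A) := inferInstance
  haveI : Algebra.IsPushout P A P' (R' ⊗[R] A) := (Algebra.IsPushout.comp_iff R P R' P').1 hRA
  haveI : Algebra.IsPushout P P' A (R' ⊗[R] A) := Algebra.IsPushout.symm inferInstance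
  have hγs : Function.Surjective γ := fun z => by
    induction z using TensorProduct.induction_on with
    | zero => exact ⟨0, map_zero γ⟩
    | add x y hx hy => obtain ⟨x, rfl⟩ := hx; obtain ⟨y, rfl⟩ := hy; exact ⟨x + y, map_add γ x y⟩
    | tmul r a =>
      obtain ⟨p, rfl⟩ := hα a
      refine ⟨MvPolynomial.C r * algebraMap P P' p, ?_⟩
      rw [map_mul, show γ (algebraMap P P' p) = (1 : R') ⊗ₜ α p from RingHom.congr_fun hγP p,
        show γ (MvPolynomial.C r) = r ⊗ₜ (1 : A) from γ.commutes r, Algebra.TensorProduct.tmul_mul_tmul,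
        mul_one, one_mul]
  let GQ := (DRing.restrictCx (algebraMap P A)).obj Q
  have hGQ : LEH (DRing.toD GQ) b := fun i hi =>
    ((Pc.LEH (φ := algebraMap P A) (K := DRing.toD Q) (b := b) fun i hi =>
      (hb i hi).of_iso ((HH i).mapIso eQ)) i hi).of_iso ((HH i).mapIso (resQ _ Q)).symm
  obtain ⟨F, hFb, hFf, hFk, ⟨eF⟩⟩ := exists_free_rep hGQ
  haveI := hFk
  obtain ⟨g, hg⟩ := exists_chainMap eF.hom
  have hex : ∀ i, IsZero ((mappingCone g).homology i) := fun i => by
    have ha : IsApprox (DerivedCategory.Q.map g) (i - 1) := by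
      rw [hg]; exact IsApprox.of_isIso _ _
    exact (isApprox_Q_map_iff g _).1 ha i (by omega)
  have hQfl : ∀ i, letI := Module.compHom (Q.X i) (algebraMap R A); TG R A (Q.X i) := fun i => by
    letI := Module.compHom (Q.X i) (algebraMap R A)
    haveI : IsScalarTower R A (Q.X i) := IsScalarTower.of_algebraMap_smul fun _ _ => rfl
    haveI := hQf i
    exact (TG.self.finsupp _).congr ((Module.Free.chooseBasis A (Q.X i)).repr.symm.restrictScalars R)
  have hz : ∀ j, IsZero (((bcCx (algebraMap P P')).obj (mappingCone g)).homology j) := by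
    refine isZero_bc_homology (R := R) (A := A) (R' := R') (mappingCone g) (max b b) (fun i hi => ?_) hex
      (fun i => ?_) hv
    · rw [mappingCone.isZero_X_iff]
      exact ⟨hFb _ (by omega), (ModuleCat.restrictScalars.{u} (algebraMap P A)).map_isZero (hQb i (by omega))⟩
    · letI := Module.compHom (F.X (i + 1)) (algebraMap R P)
      haveI : IsScalarTower R P (F.X (i + 1)) := IsScalarTower.of_algebraMap_smul fun _ _ => rfl
      haveI := hFf (i + 1)
      haveI : Module.Flat R (F.X (i + 1)) := Module.Flat.trans R P _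
      letI := Module.compHom (Q.X i) (algebraMap R A)
      letI := Module.compHom (GQ.X i) (algebraMap R P)
      letI := Module.compHom ((mappingCone g).X i) (algebraMap R P)
      let eQi : Q.X i ≃ₗ[R] GQ.X i :=
        { AddEquiv.refl (Q.X i) with
          map_smul' := fun r x => by
            show (algebraMap R A r) • x = algebraMap P A (algebraMap R P r) • (show Q.X i from x)
            rw [← IsScalarTower.algebraMap_apply R P A r] }
      refine (TG.prod (TG.of_flat (X := F.X (i + 1))) ((hQfl i).congr eQi)).congr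
        ({ (coneEquiv g i (i + 1) rfl).symm.toAddEquiv with
          map_smul' := fun r x => (coneEquiv g i (i + 1) rfl).symm.map_smul (algebraMap R P r) x } :
          (F.X (i + 1) × GQ.X i) ≃ₗ[R] (mappingCone g).X i)
  let G := ModuleCat.extendScalars.{u, u, u} (algebraMap P P')
  have hiso : IsIso (DerivedCategory.Q.map ((bcCx (algebraMap P P')).map g)) := by
    rw [DerivedCategory.isIso_Q_map_iff_quasiIso]
    refine ⟨fun i => ?_⟩
    rw [quasiIsoAt_iff_isIso_homologyMap]
    have ha : IsApprox (DerivedCategory.Q.map ((bcCx (algebraMap P P')).map g)) (i - 1) := by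
      rw [isApprox_Q_map_iff]
      exact fun j _ => (hz j).of_iso ((HomologicalComplex.homologyFunctor _ _ j).mapIso
        (mappingCone.mapHomologicalComplexIso g G)).symm
    exact (NatIso.isIso_map_iff (DerivedCategory.homologyFunctorFactors (ModuleCat.{u} P') i) _).1
      (ha.1 i (by omega))
  let e : (bcCx (algebraMap P P')).obj GQ ≅
      (DRing.restrictCx (algebraMap P' (R' ⊗[R] A))).obj ((bcCx (algebraMap A (R' ⊗[R] A))).obj Q) :=
    HomologicalComplex.Hom.isoOfComponents
      (fun i => (extResNat P P' A (R' ⊗[R] A)).app (Q.X i))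
      (fun i j _ => ((extResNat P P' A (R' ⊗[R] A)).hom.naturality (Q.d i j)).symm)
  have hF : DRing.IsPseudoCoherent P m (DRing.toD F) :=
    pc_of_iso ((DRing.restrictD _).mapIso eQ.symm ≪≫ resQ _ Q ≪≫ eF.symm) hK'
  have h2 : DRing.IsPseudoCoherent P' m (DRing.toD ((bcCx (algebraMap P P')).obj F)) :=
    pc_bc_of_bounded_free _ hFb hFf hF
  refine ⟨n, γ, hγs, Pc.of_iso ((lbcIso _ Q).symm ≪≫ (DRing.LBaseChange _).mapIso eQ) ?_⟩
  exact pc_of_iso (asIso (DerivedCategory.Q.map ((bcCx (algebraMap P P')).map g)) ≪≫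
    DerivedCategory.Q.mapIso e ≪≫ (resQ _ _).symm) h2

end Main

end Groth.L10.RelPC
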