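import Groth.Agent.L29.RelPC.BaseChange
import Groth.Agent.L29.RelPC.BCRel
import Groth.Agent.L10.RelPC.AmpIndepBC
import Groth.Agent.L10.RelPC.TorBC
import Groth.Agent.L20.TorAmpWeaklyEtale

/-!
n-pseudo-coherence of morphisms under base change between schemes flat over a common base.
-/

set_option autoImplicit false
set_option linter.style.haveILetI false
set_option backward.defeqAttrib.useBackward true
set_option backward.isDefEq.respectTransparency false
set_option backward.isDefEq.respectTransparency.types false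

universe u

open CategoryTheory CategoryTheory.Limits AlgebraicGeometry TensorProduct

attribute [local instance] HasDerivedCategory.standard

namespace Groth.L10.RelPC.NPCIndep

open Groth.L29.RelPC Groth.L10.RelPC Groth.L02.PC

section Ring

variable {R R' A A' B B' : Type u} [CommRing R] [CommRing R'] [CommRing A] [CommRing A'] [CommRing B] [CommRing B']
  [Algebra R R'] [Algebra R A] [Algebra R' A'] [Algebra R A'] [Algebra A A'] [IsScalarTower R A A'] [IsScalarTower R R' A']
  [Algebra A B]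
  [Algebra A' B'] [Algebra B B'] [Algebra A B'] [IsScalarTower A A' B'] [IsScalarTower A B B']
  [Algebra.IsPushout A A' B B']
  [Algebra R B]

theorem exists_chart_indep [Algebra.IsPushout R R' A A'] [Module.Flat R A] [IsScalarTower R A B] [Module.Flat R B] {n : ℕ} (φ : MvPolynomial (Fin n) A →ₐ[A] B) (hφ : Function.Surjective φ) (m : ℤ)
    (h : Pc (φ : MvPolynomial (Fin n) A →+* B) m (Dual.inD B B)) :
    ∃ φ' : MvPolynomial (Fin n) A' →ₐ[A'] B', Function.Surjective φ' ∧
      Pc (φ' : MvPolynomial (Fin n) A' →+* B') m (Dual.inD B' B') := by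
  let φ' : MvPolynomial (Fin n) A' →ₐ[A'] B' := MvPolynomial.aeval fun i => algebraMap B B' (φ (MvPolynomial.X i))
  let P := MvPolynomial (Fin n) A
  let P' := MvPolynomial (Fin n) A'
  letI : Algebra P B := φ.toRingHom.toAlgebra
  letI : Algebra P' B' := φ'.toRingHom.toAlgebra
  letI : Algebra P B' := ((algebraMap B B').comp φ.toRingHom).toAlgebra
  letI : Algebra P P' := MvPolynomial.algebraMvPolynomial
  haveI : IsScalarTower A P B := IsScalarTower.of_algebraMap_eq fun r => (φ.commutes r).symm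
  haveI : IsScalarTower A' P' B' := IsScalarTower.of_algebraMap_eq fun r => (φ'.commutes r).symm
  haveI : IsScalarTower P B B' := IsScalarTower.of_algebraMap_eq fun _ => rfl
  haveI : IsScalarTower P P' B' := IsScalarTower.of_algebraMap_eq' (MvPolynomial.ringHom_ext
    (fun r => by
      change algebraMap B B' (φ (MvPolynomial.C r)) = φ' (MvPolynomial.map (algebraMap A A') (MvPolynomial.C r))
      rw [MvPolynomial.map_C]
      simp only [φ', MvPolynomial.aeval_C]
      rw [show φ (MvPolynomial.C r) = algebraMap A B r from φ.commutes r, ← IsScalarTower.algebraMap_apply A B B',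
        ← IsScalarTower.algebraMap_apply A A' B'])
    (fun i => by
      change algebraMap B B' (φ (MvPolynomial.X i)) = φ' (MvPolynomial.map (algebraMap A A') (MvPolynomial.X i))
      simp [φ']))
  haveI : IsScalarTower A P B' := IsScalarTower.of_algebraMap_eq fun r => by
    change _ = algebraMap B B' (φ (algebraMap A P r))
    rw [φ.commutes, ← IsScalarTower.algebraMap_apply]
  haveI : IsScalarTower A P' B' := IsScalarTower.of_algebraMap_eq fun r => by
    rw [IsScalarTower.algebraMap_apply A A' P', ← IsScalarTower.algebraMap_apply A' P' B',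
      ← IsScalarTower.algebraMap_apply A A' B']
  haveI hP : Algebra.IsPushout A P A' P' := inferInstance
  haveI hPP : Algebra.IsPushout P P' B B' :=
    ((Algebra.IsPushout.comp_iff (R := A) (S := P) (R' := A') (S' := P') (T := B) (T' := B')).1
      (Algebra.IsPushout.symm inferInstance)).symm
  haveI : IsScalarTower R P P' := IsScalarTower.of_algebraMap_eq fun r => by
    rw [IsScalarTower.algebraMap_apply R A P, ← IsScalarTower.algebraMap_apply A P P',
      IsScalarTower.algebraMap_apply A A' P', ← IsScalarTower.algebraMap_apply R A A',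
      ← IsScalarTower.algebraMap_apply R A' P']
  haveI : Algebra.IsPushout R R' P P' := by
    haveI : Algebra.IsPushout R A R' A' := Algebra.IsPushout.symm inferInstance
    exact ((Algebra.IsPushout.comp_iff (R := R) (S := A) (R' := R') (S' := A') (T := P) (T' := P')).2 inferInstance).symm
  haveI : Module.Flat R P := Module.Flat.trans R A P
  haveI : IsScalarTower R P B := IsScalarTower.of_algebraMap_eq fun r => by
    change algebraMap R B r = φ (algebraMap R P r)
    rw [IsScalarTower.algebraMap_apply R A P, φ.commutes, ← IsScalarTower.algebraMap_apply]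
  refine ⟨φ', fun b => ?_, ?_⟩
  · refine Subalgebra.mem_toSubmodule (S := φ'.range) |>.1 ?_
    refine (Algebra.IsPushout.out (R := A) (S := A') (R' := B) (S' := B')).inductionOn b _ ?_ ?_ ?_ ?_
    · exact zero_mem _
    · intro x
      obtain ⟨q, rfl⟩ := hφ x
      exact ⟨MvPolynomial.map (algebraMap A A') q, (IsScalarTower.algebraMap_apply P P' B' q).symm.trans
        (IsScalarTower.algebraMap_apply P B B' q)⟩
    · exact fun a x hx => Submodule.smul_mem _ a hx
    · exact fun x y hx hy => add_mem hx hy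
  · let G := ModuleCat.restrictScalars.{u} (algebraMap P B)
    let s := (HomologicalComplex.single (ModuleCat.{u} B) (ComplexShape.up ℤ) 0).obj (ModuleCat.of B B)
    let L : DRing.Cx P := (_root_.DTen.resCx (algebraMap P B)).obj s
    have h0 : DRing.IsPseudoCoherent P m (DRing.toD L) :=
      pc_of_iso (resQ _ s) (Pc.of_iso ((DerivedCategory.singleFunctorIsoCompQ _ 0).app (ModuleCat.of B B)) h)
    have hLb : DRing.VanishesAbove L 0 := fun i hi =>
      G.map_isZero (HomologicalComplex.isZero_single_obj_X _ _ _ _ (by omega))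
    have hLf : DRing.TermwiseFlat ((_root_.DTen.resCx (algebraMap R P)).obj L) := fun i => by
      let e := ModuleCat.restrictScalarsComp'.{u} (algebraMap R P) (algebraMap P B) (algebraMap R B)
        (IsScalarTower.algebraMap_eq R P B).symm.symm
      by_cases hi : i = 0
      · subst hi
        let σ : B ≃ₗ[R] (ModuleCat.restrictScalars.{u} (algebraMap R B)).obj (ModuleCat.of B B) :=
          { AddEquiv.refl B with map_smul' := fun r x => Algebra.smul_def r x }
        exact Module.Flat.of_linearEquiv (σ.trans ((e.app _) ≪≫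
          (ModuleCat.restrictScalars.{u} (algebraMap R P)).mapIso (G.mapIso
            (HomologicalComplex.singleObjXSelf (ComplexShape.up ℤ) (0 : ℤ) (ModuleCat.of B B)).symm)).toLinearEquiv).symm
      · haveI : Subsingleton (((_root_.DTen.resCx (algebraMap R P)).obj L).X i) := ModuleCat.subsingleton_of_isZero
          ((ModuleCat.restrictScalars _).map_isZero (G.map_isZero (HomologicalComplex.isZero_single_obj_X _ _ _ _ hi)))
        infer_instance
    obtain ⟨Q, hQb, hQf, hQk, ⟨eQ⟩⟩ := exists_free_rep (K := DRing.toD L) (n := 0) fun i hi =>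
      (isZero_HH_Q_iff L i).2 (Groth.L10.AmpTest.isZero_homology_of_X (hLb i hi))
    haveI := hQk
    obtain ⟨p, hp⟩ := AmpIndepBC.exists_qis eQ
    have hQfR : DRing.TermwiseFlat ((_root_.DTen.resCx (algebraMap R P)).obj Q) := fun i => by
      haveI := hQf i
      exact Groth.L20.TorAmp.flat_restrict (Q.X i)
    haveI := AmpIndepBC.quasiIso_ext (R' := R') (A' := P') p hQb hLb hQfR hLf
    have h1 := pc_bc_of_bounded_free (algebraMap P P') hQb hQf (pc_of_iso eQ.symm h0)
    haveI := (DerivedCategory.isIso_Q_map_iff_quasiIso _ ((_root_.DTen.extCx (algebraMap P P')).map p)).2 inferInstance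
    haveI : Algebra.IsPushout P P' B B' := hPP
    let eM : (ModuleCat.extendScalars.{u, u, u} (algebraMap B B')).obj (ModuleCat.of B B) ≅ ModuleCat.of B' B' :=
      ((Groth.L29.FlatBC.extEquiv B B' (ModuleCat.of B B)).trans
        (Algebra.TensorProduct.rid B B' B').toLinearEquiv).toModuleIso
    let η := NatIso.mapHomologicalComplex (Groth.L10.RelPC.extResNat P P' B B') (ComplexShape.up ℤ)
    exact pc_of_iso (asIso (DerivedCategory.Q.map ((_root_.DTen.extCx (algebraMap P P')).map p)) ≪≫
      DerivedCategory.Q.mapIso (η.app s) ≪≫ (resQ (algebraMap P' B') ((_root_.DTen.extCx (algebraMap B B')).obj s)).symm ≪≫ (DRing.restrictD (algebraMap P' B')).mapIso (DerivedCategory.Q.mapIso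
        ((HomologicalComplex.singleMapHomologicalComplex _ (ComplexShape.up ℤ) 0).app (ModuleCat.of B B) ≪≫
          (HomologicalComplex.single _ (ComplexShape.up ℤ) 0).mapIso eM) ≪≫
        ((DerivedCategory.singleFunctorIsoCompQ _ 0).app (ModuleCat.of B' B')).symm)) h1

end Ring

variable {X Y S X' Y' T : Scheme.{u}} {f : X ⟶ Y} {q : Y ⟶ S} {f' : X' ⟶ Y'} {g' : X' ⟶ X} {g : Y' ⟶ Y}
  {q' : Y' ⟶ T} {j : T ⟶ S}

theorem nPC_indep (hq : IsPullback g q' q j) (hc : IsPullback g' f' f g) [Flat q] [Flat (f ≫ q)]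
    [LocallyOfFiniteType f] {m : ℤ} (hf : DerSch.IsNPseudoCoherent f m) : DerSch.IsNPseudoCoherent f' m := by
  haveI : LocallyOfFiniteType f' := MorphismProperty.of_isPullback hc inferInstance
  refine (unit_pc_iff m).2 (rel_of_local fun x' => ?_)
  obtain ⟨S₀, W, T₀, W', eWS, eTS, eW, eWT, hS, hW, hT, hW', hxW', hpo₀⟩ :=
    Groth.L20.ModStalk.exists_affine_square hq (f' x')
  have hxW : f (g' x') ∈ W := by
    rw [← Scheme.Hom.comp_apply, hc.w, Scheme.Hom.comp_apply]
    exact eW hxW'
  obtain ⟨_, ⟨V, hV, rfl⟩, hxV, eV⟩ :=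
    X.isBasis_affineOpens.exists_subset_of_mem_open (show g' x' ∈ f ⁻¹ᵁ W from hxW) (f ⁻¹ᵁ W).2
  obtain ⟨hU, hpo⟩ := Groth.L29.RelPC.exists_square hc hW hV hW' eV eW
  let U := g' ⁻¹ᵁ V ⊓ f' ⁻¹ᵁ W'
  have hx : x' ∈ U := ⟨hxV, hxW'⟩
  have eU : U ≤ g' ⁻¹ᵁ V := inf_le_left
  have eU' : U ≤ f' ⁻¹ᵁ W' := inf_le_right
  have eVS : V ≤ (f ≫ q) ⁻¹ᵁ S₀ := fun y hy => eWS (eV hy)
  refine ⟨U, W', hx, hU, hW', eU', ?_⟩
  obtain ⟨n, φ, hφ⟩ := exists_isChart f hV hW eV
  have hG := (CP.unit_iff hV hφ.1 m).1 (good_of_rel ((unit_pc_iff m).1 hf) hV hW eV eV n φ hφ)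
  algebraize [(f.appLE W V eV).hom, (g.appLE W W' eW).hom, (g'.appLE V U eU).hom, (f'.appLE W' U eU').hom,
    ((g'.appLE V U eU).hom.comp (f.appLE W V eV).hom), (q.appLE S₀ W eWS).hom, (j.appLE S₀ T₀ eTS).hom,
    (q'.appLE T₀ W' eWT).hom, ((g.appLE W W' eW).hom.comp (q.appLE S₀ W eWS).hom)]
  haveI : IsScalarTower Γ(Y, W) Γ(Y', W') Γ(X', U) := IsScalarTower.of_algebraMap_eq' (congrArg CommRingCat.Hom.hom hpo.w)
  haveI : Algebra.IsPushout Γ(Y, W) Γ(X, V) Γ(Y', W') Γ(X', U) := CommRingCat.isPushout_iff_isPushout.mp hpo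
  haveI : Algebra.IsPushout Γ(Y, W) Γ(Y', W') Γ(X, V) Γ(X', U) := Algebra.IsPushout.symm ‹_›
  haveI : IsScalarTower Γ(S, S₀) Γ(T, T₀) Γ(Y', W') := IsScalarTower.of_algebraMap_eq' (congrArg CommRingCat.Hom.hom hpo₀.w)
  haveI : Algebra.IsPushout Γ(S, S₀) Γ(Y, W) Γ(T, T₀) Γ(Y', W') := CommRingCat.isPushout_iff_isPushout.mp hpo₀
  haveI : Algebra.IsPushout Γ(S, S₀) Γ(T, T₀) Γ(Y, W) Γ(Y', W') := Algebra.IsPushout.symm ‹_›
  haveI : Module.Flat Γ(S, S₀) Γ(Y, W) := q.flat_appLE hS hW eWS
  letI : Algebra Γ(S, S₀) Γ(X, V) := ((f ≫ q).appLE S₀ V eVS).hom.toAlgebra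
  haveI : IsScalarTower Γ(S, S₀) Γ(Y, W) Γ(X, V) := IsScalarTower.of_algebraMap_eq fun r =>
    (ConcreteCategory.congr_hom (Scheme.Hom.appLE_comp_appLE f q S₀ W V eWS eV) r).symm
  haveI : Module.Flat Γ(S, S₀) Γ(X, V) := (f ≫ q).flat_appLE hS hV eVS
  let α : MvPolynomial (Fin n) Γ(Y, W) →ₐ[Γ(Y, W)] Γ(X, V) := { φ with commutes' := fun r => RingHom.congr_fun hφ.2 r }
  obtain ⟨α', hα', hP⟩ := exists_chart_indep (R := Γ(S, S₀)) (R' := Γ(T, T₀)) (A' := Γ(Y', W')) (B' := Γ(X', U)) α hφ.1 m hG
  exact good_of_chart f' hU (h := eU') ⟨hα', RingHom.ext fun r => α'.commutes r⟩ ((CP.unit_iff hU hα' m).2 hP)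

end Groth.L10.RelPC.NPCIndep
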