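import Groth.Agent.L29.RelPC.BaseChange
import Groth.Agent.L29.DCoh.LBC
import Groth.Agent.L10.DRing.KFlatLBC
import Groth.Agent.L29.RelPC.BCRel
import Groth.Agent.L10.RelPC.AmpIndepBC
import Groth.Agent.L10.RelPC.TorBC
import Groth.Agent.L20.TorAmpWeaklyEtale

/-!
Relative pseudo-coherence of complexes under base change between schemes flat over a common base.
-/

set_option autoImplicit false
set_option linter.style.haveILetI false
set_option backward.defeqAttrib.useBackward true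
set_option backward.isDefEq.respectTransparency false
set_option backward.isDefEq.respectTransparency.types false

universe u

open CategoryTheory CategoryTheory.Limits AlgebraicGeometry TensorProduct

attribute [local instance] HasDerivedCategory.standard

namespace Groth.L10.RelPC.RelIndepBC

open Groth.L29.RelPC Groth.L10.RelPC Groth.L02.PC

section Ring

variable {R R' A A' B B' : Type u} [CommRing R] [CommRing R'] [CommRing A] [CommRing A'] [CommRing B] [CommRing B']
  [Algebra R R'] [Algebra R A] [Algebra R' A'] [Algebra R A'] [Algebra A A'] [IsScalarTower R A A'] [IsScalarTower R R' A']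
  [Algebra A B]
  [Algebra A' B'] [Algebra B B'] [Algebra A B'] [IsScalarTower A A' B'] [IsScalarTower A B B']
  [Algebra.IsPushout A A' B B']
  [Algebra R B]

theorem exists_chart_indep_cx [Algebra.IsPushout R R' A A'] [Module.Flat R A] [IsScalarTower R A B] [Module.Flat R B] {n : ℕ} (φ : MvPolynomial (Fin n) A →ₐ[A] B) (hφ : Function.Surjective φ) (m : ℤ)
    (Qc : DRing.Cx B) {d : ℤ} (hQcb : DRing.VanishesAbove Qc d) (hQcf : DRing.TermwiseFlat Qc)
    (h : Pc (φ : MvPolynomial (Fin n) A →+* B) m (DRing.toD Qc)) :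
    ∃ φ' : MvPolynomial (Fin n) A' →ₐ[A'] B', Function.Surjective φ' ∧
      Pc (φ' : MvPolynomial (Fin n) A' →+* B') m (DRing.toD ((_root_.DTen.extCx (algebraMap B B')).obj Qc)) := by
  let φ' : MvPolynomial (Fin n) A' →ₐ[A'] B' := MvPolynomial.aeval fun i => algebraMap B B' (φ (MvPolynomial.X i))
  let P := MvPolynomial (Fin n) A
  let P' := MvPolynomial (Fin n) A'
  letI : Algebra P B := φ.toRingHom.toAlgebra
  letI : Algebra P' B' := φ'.toRingHom.toAlgebra
  letI : Algebra P B' := ((algebraMap B B').comp φ.toRingHom).toAlgebra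
  letI : Algebra P P' := MvPolynomial.algebraMvPolynomial
  haveI : IsScalarTower A P B := IsScalarTower.of_algebraMap_eq fun r => (φ.commutes r).symm
  haveI : IsScalarTower A' P' B' := IsScalarTower.of_algebraMap_eq fun r => (φ'.commutes r).symm
  haveI : IsScalarTower P B B' := IsScalarTower.of_algebraMap_eq fun _ => rfl
  haveI : IsScalarTower P P' B' := IsScalarTower.of_algebraMap_eq' (MvPolynomial.ringHom_ext
    (fun r => by
      change algebraMap B B' (φ (MvPolynomial.C r)) = φ' (MvPolynomial.map (algebraMap A A') (MvPolynomial.C r))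
      rw [MvPolynomial.map_C]
      simp only [φ', MvPolynomial.aeval_C]
      rw [show φ (MvPolynomial.C r) = algebraMap A B r from φ.commutes r, ← IsScalarTower.algebraMap_apply A B B',
        ← IsScalarTower.algebraMap_apply A A' B'])
    (fun i => by
      change algebraMap B B' (φ (MvPolynomial.X i)) = φ' (MvPolynomial.map (algebraMap A A') (MvPolynomial.X i))
      simp [φ']))
  haveI : IsScalarTower A P B' := IsScalarTower.of_algebraMap_eq fun r => by
    change _ = algebraMap B B' (φ (algebraMap A P r))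
    rw [φ.commutes, ← IsScalarTower.algebraMap_apply]
  haveI : IsScalarTower A P' B' := IsScalarTower.of_algebraMap_eq fun r => by
    rw [IsScalarTower.algebraMap_apply A A' P', ← IsScalarTower.algebraMap_apply A' P' B',
      ← IsScalarTower.algebraMap_apply A A' B']
  haveI hP : Algebra.IsPushout A P A' P' := inferInstance
  haveI hPP : Algebra.IsPushout P P' B B' :=
    ((Algebra.IsPushout.comp_iff (R := A) (S := P) (R' := A') (S' := P') (T := B) (T' := B')).1
      (Algebra.IsPushout.symm inferInstance)).symm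
  haveI : IsScalarTower R P P' := IsScalarTower.of_algebraMap_eq fun r => by
    rw [IsScalarTower.algebraMap_apply R A P, ← IsScalarTower.algebraMap_apply A P P',
      IsScalarTower.algebraMap_apply A A' P', ← IsScalarTower.algebraMap_apply R A A',
      ← IsScalarTower.algebraMap_apply R A' P']
  haveI : Algebra.IsPushout R R' P P' := by
    haveI : Algebra.IsPushout R A R' A' := Algebra.IsPushout.symm inferInstance
    exact ((Algebra.IsPushout.comp_iff (R := R) (S := A) (R' := R') (S' := A') (T := P) (T' := P')).2 inferInstance).symm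
  haveI : Module.Flat R P := Module.Flat.trans R A P
  haveI : IsScalarTower R P B := IsScalarTower.of_algebraMap_eq fun r => by
    change algebraMap R B r = φ (algebraMap R P r)
    rw [IsScalarTower.algebraMap_apply R A P, φ.commutes, ← IsScalarTower.algebraMap_apply]
  refine ⟨φ', fun b => ?_, ?_⟩
  · refine Subalgebra.mem_toSubmodule (S := φ'.range) |>.1 ?_
    refine (Algebra.IsPushout.out (R := A) (S := A') (R' := B) (S' := B')).inductionOn b _ ?_ ?_ ?_ ?_
    · exact zero_mem _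
    · intro x
      obtain ⟨q, rfl⟩ := hφ x
      exact ⟨MvPolynomial.map (algebraMap A A') q, (IsScalarTower.algebraMap_apply P P' B' q).symm.trans
        (IsScalarTower.algebraMap_apply P B B' q)⟩
    · exact fun a x hx => Submodule.smul_mem _ a hx
    · exact fun x y hx hy => add_mem hx hy
  · let L : DRing.Cx P := (_root_.DTen.resCx (algebraMap P B)).obj Qc
    have h0 : DRing.IsPseudoCoherent P m (DRing.toD L) := pc_of_iso (resQ _ Qc) h
    have hLb : DRing.VanishesAbove L d := fun i hi =>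
      (ModuleCat.restrictScalars _).map_isZero (hQcb i hi)
    have hLf : DRing.TermwiseFlat ((_root_.DTen.resCx (algebraMap R P)).obj L) := fun i => by
      haveI := hQcf i
      haveI := Groth.L20.TorAmp.flat_restrict (A := R) (Qc.X i)
      exact Module.Flat.of_linearEquiv
        ((ModuleCat.restrictScalarsComp'.{u} (algebraMap R P) (algebraMap P B) (algebraMap R B)
          (IsScalarTower.algebraMap_eq R P B).symm.symm).app (Qc.X i)).symm.toLinearEquiv
    obtain ⟨Q, hQb, hQf, hQk, ⟨eQ⟩⟩ := exists_free_rep (K := DRing.toD L) (n := d) fun i hi =>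
      (isZero_HH_Q_iff L i).2 (Groth.L10.AmpTest.isZero_homology_of_X (hLb i hi))
    haveI := hQk
    obtain ⟨p, hp⟩ := AmpIndepBC.exists_qis eQ
    have hQfR : DRing.TermwiseFlat ((_root_.DTen.resCx (algebraMap R P)).obj Q) := fun i => by
      haveI := hQf i
      exact Groth.L20.TorAmp.flat_restrict (Q.X i)
    haveI := AmpIndepBC.quasiIso_ext (R' := R') (A' := P') p hQb hLb hQfR hLf
    have h1 := pc_bc_of_bounded_free (algebraMap P P') hQb hQf (pc_of_iso eQ.symm h0)
    haveI := (DerivedCategory.isIso_Q_map_iff_quasiIso _ ((_root_.DTen.extCx (algebraMap P P')).map p)).2 inferInstance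
    haveI : Algebra.IsPushout P P' B B' := hPP
    let η := NatIso.mapHomologicalComplex (Groth.L10.RelPC.extResNat P P' B B') (ComplexShape.up ℤ)
    exact pc_of_iso (asIso (DerivedCategory.Q.map ((_root_.DTen.extCx (algebraMap P P')).map p)) ≪≫
      DerivedCategory.Q.mapIso (η.app Qc) ≪≫ (resQ (algebraMap P' B') ((_root_.DTen.extCx (algebraMap B B')).obj Qc)).symm) h1

end Ring

attribute [local instance] Groth.L29.DC.ClosedPC.additive Groth.L29.DC.ClosedPC.exactLeft Groth.L29.DC.ClosedPC.exactRight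

set_option maxHeartbeats 800000

variable {X Y S X' Y' T : Scheme.{u}} {f : X ⟶ Y} {q : Y ⟶ S} {f' : X' ⟶ Y'} {g' : X' ⟶ X} {g : Y' ⟶ Y}
  {q' : Y' ⟶ T} {j : T ⟶ S}

theorem rel_indep (hq : IsPullback g q' q j) (hc : IsPullback g' f' f g) [Flat q] [Flat (f ≫ q)]
    [LocallyOfFiniteType f] [DCoh.HasLpull g'] {m : ℤ} {K : DCoh.D X} (hK : DCoh.IsQCohD K)
    (hf : DerSch.IsPseudoCoherentRel f m K) : DerSch.IsPseudoCoherentRel f' m ((DCoh.Lpull g').obj K) := by
  haveI : LocallyOfFiniteType f' := MorphismProperty.of_isPullback hc inferInstance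
  refine rel_of_local fun x' => ?_
  obtain ⟨S₀, W, T₀, W', eWS, eTS, eW, eWT, hS, hW, hT, hW', hxW', hpo₀⟩ :=
    Groth.L20.ModStalk.exists_affine_square hq (f' x')
  have hxW : f (g' x') ∈ W := by
    rw [← Scheme.Hom.comp_apply, hc.w, Scheme.Hom.comp_apply]
    exact eW hxW'
  obtain ⟨_, ⟨V, hV, rfl⟩, hxV, eV⟩ :=
    X.isBasis_affineOpens.exists_subset_of_mem_open (show g' x' ∈ f ⁻¹ᵁ W from hxW) (f ⁻¹ᵁ W).2
  obtain ⟨hU, hpo⟩ := Groth.L29.RelPC.exists_square hc hW hV hW' eV eW
  let U := g' ⁻¹ᵁ V ⊓ f' ⁻¹ᵁ W'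
  have hx : x' ∈ U := ⟨hxV, hxW'⟩
  have eU : U ≤ g' ⁻¹ᵁ V := inf_le_left
  have eU' : U ≤ f' ⁻¹ᵁ W' := inf_le_right
  have eVS : V ≤ (f ≫ q) ⁻¹ᵁ S₀ := fun y hy => eWS (eV hy)
  refine ⟨U, W', hx, hU, hW', eU', ?_⟩
  haveI := isClosedImmersion_toSpecΓ hU
  haveI := isClosedImmersion_toSpecΓ hV
  haveI := Groth.L18.TildeF.tilde_preservesFiniteLimits (R := Γ(X, V))
  haveI := Groth.L18.TildeF.tilde_preservesFiniteLimits (R := Γ(X', U))
  obtain ⟨M, ⟨eM⟩⟩ := exists_module (U := V) hK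
  algebraize [(f.appLE W V eV).hom, (g.appLE W W' eW).hom, (g'.appLE V U eU).hom, (f'.appLE W' U eU').hom,
    ((g'.appLE V U eU).hom.comp (f.appLE W V eV).hom), (q.appLE S₀ W eWS).hom, (j.appLE S₀ T₀ eTS).hom,
    (q'.appLE T₀ W' eWT).hom, ((g.appLE W W' eW).hom.comp (q.appLE S₀ W eWS).hom)]
  haveI : IsScalarTower Γ(Y, W) Γ(Y', W') Γ(X', U) := IsScalarTower.of_algebraMap_eq' (congrArg CommRingCat.Hom.hom hpo.w)
  haveI : Algebra.IsPushout Γ(Y, W) Γ(X, V) Γ(Y', W') Γ(X', U) := CommRingCat.isPushout_iff_isPushout.mp hpo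
  haveI : Algebra.IsPushout Γ(Y, W) Γ(Y', W') Γ(X, V) Γ(X', U) := Algebra.IsPushout.symm ‹_›
  haveI : IsScalarTower Γ(S, S₀) Γ(T, T₀) Γ(Y', W') := IsScalarTower.of_algebraMap_eq' (congrArg CommRingCat.Hom.hom hpo₀.w)
  haveI : Algebra.IsPushout Γ(S, S₀) Γ(Y, W) Γ(T, T₀) Γ(Y', W') := CommRingCat.isPushout_iff_isPushout.mp hpo₀
  haveI : Algebra.IsPushout Γ(S, S₀) Γ(T, T₀) Γ(Y, W) Γ(Y', W') := Algebra.IsPushout.symm ‹_›
  haveI : Module.Flat Γ(S, S₀) Γ(Y, W) := q.flat_appLE hS hW eWS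
  letI : Algebra Γ(S, S₀) Γ(X, V) := ((f ≫ q).appLE S₀ V eVS).hom.toAlgebra
  haveI : IsScalarTower Γ(S, S₀) Γ(Y, W) Γ(X, V) := IsScalarTower.of_algebraMap_eq fun r =>
    (ConcreteCategory.congr_hom (Scheme.Hom.appLE_comp_appLE f q S₀ W V eWS eV) r).symm
  haveI : Module.Flat Γ(S, S₀) Γ(X, V) := (f ≫ q).flat_appLE hS hV eVS
  haveI : Algebra.FiniteType Γ(Y, W) Γ(X, V) := f.finiteType_appLE hW hV eV
  have hM : DerCA.IsRelPseudoCoherent Γ(Y, W) Γ(X, V) m M :=
    (good_iff_rel hV hW eV eM).1 (good_of_rel hf hV hW eV)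
  obtain ⟨n, φ, hφ, hp⟩ := hM
  obtain ⟨d, hd⟩ := bounded_of_pc hp
  obtain ⟨Qc, hQb, hQf, -, ⟨eQ⟩⟩ := exists_free_rep hd
  have hQfl : DRing.TermwiseFlat Qc := fun i => by
    haveI := hQf i
    infer_instance
  obtain ⟨φ', hφ', hp'⟩ := exists_chart_indep_cx (R := Γ(S, S₀)) (R' := Γ(T, T₀)) (A' := Γ(Y', W'))
    (B' := Γ(X', U)) φ hφ m Qc hQb hQfl (Pc.of_iso eQ.symm hp)
  haveI : DCoh.HasLpull (Spec.map (g'.appLE V U eU)) := Groth.L00.KFlat.hasLpull _
  haveI := Groth.L29.DC.LBC.hasLBaseChange (g'.appLE V U eU)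
  obtain ⟨a⟩ := nonempty_fromSpec hV K
  obtain ⟨b⟩ := nonempty_fromSpec hU ((DCoh.Lpull g').obj K)
  obtain ⟨r⟩ := nonempty_restrict_chart g' hV hU eU K
  let t : (DCoh.tildeD Γ(X', U)).obj (DRing.toD ((_root_.DTen.extCx (algebraMap Γ(X, V) Γ(X', U))).obj Qc)) ≅
      (Groth.L29.DC.ClosedPC.pD (Scheme.Opens.toSpecΓ U)).obj
        ((Groth.L29.DC.resD U).obj ((DCoh.Lpull g').obj K)) :=
    (DCoh.tildeD Γ(X', U)).mapIso ((Groth.L10.KFlatLBC.lbcKF (algebraMap Γ(X, V) Γ(X', U)) Qc
        (Groth.L10.KFlat.of_bounded Qc d hQb hQfl)).symm ≪≫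
        (DRing.LBaseChange (algebraMap Γ(X, V) Γ(X', U))).mapIso eQ) ≪≫
      (Groth.L29.DC.LBC.tildeDIso (g'.appLE V U eU)).app M ≪≫
      (DCoh.Lpull (Spec.map (g'.appLE V U eU))).mapIso (eM ≪≫ a) ≪≫ r ≪≫ b.symm
  exact (good_iff_rel (f := f') hU hW' eU' t).2 ⟨n, φ', hφ', hp'⟩

end Groth.L10.RelPC.RelIndepBC
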