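import Groth.Agent.L10.RelPC.Tensor
import Groth.Agent.L10.DTen.PerfectInd
import Groth.Agent.L10.DTen.Exact
import Groth.Agent.L10.DTen.SymMon
import Groth.Agent.L10.DRing.Perfect
import Groth.Agent.L10.DRing.AmpTest

/-!
Tensoring pseudo-coherence relative to a presentation with a pseudo-coherent complex.
-/

set_option autoImplicit false
set_option linter.style.haveILetI false
set_option backward.defeqAttrib.useBackward true
set_option backward.isDefEq.respectTransparency false
set_option backward.isDefEq.respectTransparency.types false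

universe u

open CategoryTheory CategoryTheory.Limits CategoryTheory.Pretriangulated MonoidalCategory CochainComplex

attribute [local instance] HasDerivedCategory.standard

namespace Groth.L10.RelPC.PcTensorCx

open Groth.L02.PC Groth.L10.KFlat

variable {Q T : Type u} [CommRing Q] [CommRing T] (ψ : Q →+* T)

/-- pseudo-coherence via `ψ` in all degrees -/
def PcA (K : Dual.D T) : Prop := ∀ m : ℤ, Pc ψ m K

theorem PcA.of_iso {K L : Dual.D T} (e : K ≅ L) (h : PcA ψ K) : PcA ψ L := fun m => Pc.of_iso e (h m)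

theorem PcA.shift {K : Dual.D T} (h : PcA ψ K) (n : ℤ) : PcA ψ (K⟦n⟧) := fun m =>
  pc_of_iso (((DRing.restrictD ψ).commShiftIso n).app K).symm (pc_shift (h (m + n)) n m (by omega))

theorem PcA.retract {K L : Dual.D T} (r : Retract K L) (h : PcA ψ L) : PcA ψ K := by
  obtain ⟨Z, g, k, hT⟩ := distinguished_cocone_triangle (r.map (DRing.restrictD ψ)).i
  have hk : k = 0 :=
    (Triangle.mor₃_eq_zero_iff_mono₁ _ hT).2 (inferInstanceAs (Mono (r.map (DRing.restrictD ψ)).i))
  obtain ⟨e, -, -⟩ := exists_iso_binaryBiproduct_of_distTriang _ hT hk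
  exact fun m => (Groth.L10.DR.pc_biprod_iff_aux _ _ m (pc_of_iso e (h m))).1

set_option maxHeartbeats 800000 in
theorem pcA_tensor {C : DRing.Cx T} (hCk : DRing.IsKFlat T C) {d : ℤ} (hCb : DRing.VanishesAbove C d)
    (hC : PcA ψ (DRing.toD C)) (P : DRing.Cx T) (hP : DRing.IsKFlat T P)
    (h : ∀ m, DRing.IsPseudoCoherent T m (DRing.toD P)) : PcA ψ (DRing.toD ((KFlat.T C).obj P)) := by
  haveI : _root_.DTen.HasLTen T := Groth.L10.DTen.hasLTen T
  let F := (_root_.DTen.LTen T).obj (DerivedCategory.Q.obj C)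
  let ι := Groth.L10.DTen.leftIso C hCk
  let t : ∀ Z : DRing.Cx T, F.obj (DerivedCategory.Q.obj Z) ≅ DerivedCategory.Q.obj ((KFlat.T C).obj Z) :=
    fun Z => ι.app Z
  let Pr : ObjectProperty (Dual.D T) := fun K => PcA ψ (F.obj K)
  haveI : Pr.IsClosedUnderIsomorphisms := ⟨fun e hK => PcA.of_iso ψ (F.mapIso e) hK⟩
  have hext : ∀ T' : Triangle (Dual.D T), T' ∈ distinguishedTriangles → Pr T'.obj₁ → Pr T'.obj₃ → Pr T'.obj₂ := by
    intro T' hT h₁ h₃
    obtain ⟨X, Y, α, ⟨i⟩⟩ := (DerivedCategory.mem_distTriang_iff _).1 (inv_rot_of_distTriang _ hT)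
    let Tc := (DerivedCategory.Q : DRing.Cx T ⥤ Dual.D T).mapTriangle.obj (CochainComplex.mappingCone.triangle α)
    let j : T' ≅ Tc.rotate := (invRotCompRot.app T').symm ≪≫ (Pretriangulated.rotate (Dual.D T)).mapIso i
    have hS := Groth.L10.DTen.shortExact_tensorLeft C _
      (CochainComplex.mappingCone.triangleRotateShortComplexSplitting α)
    intro m
    exact Pc.of_iso ((t _).symm ≪≫ (F.mapIso (Triangle.π₂.mapIso j)).symm)
      (pc_second _ ((DRing.restrictD ψ).map_distinguished _ (DerivedCategory.triangleOfSES_distinguished hS)) m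
        (Pc.of_iso ((F.mapIso (Triangle.π₁.mapIso j)) ≪≫ t _) (h₁ m))
        (Pc.of_iso ((F.mapIso (Triangle.π₃.mapIso j ≪≫
          ((DerivedCategory.Q : DRing.Cx T ⥤ Dual.D T).commShiftIso (1 : ℤ)).symm.app X)) ≪≫ t _) (h₃ m)))
  have hunit : ∀ n : ℤ, Pr ((_root_.DTen.unit T)⟦n⟧) := fun n => by
    let U : DRing.Cx T := 𝟙_ (DRing.Cx T)
    haveI := Groth.L10.DTen.isIso_ε T C (U⟦n⟧) (Or.inl hCk)
    exact PcA.of_iso ψ (((DerivedCategory.Q.commShiftIso n).app C).symm ≪≫
      DerivedCategory.Q.mapIso ((CategoryTheory.shiftFunctor (DRing.Cx T) n).mapIso (ρ_ C).symm ≪≫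
          (CochainComplex.mapBifunctorShift₂Iso C U (curriedTensor (ModuleCat.{u} T)) n).symm) ≪≫
          (asIso ((_root_.DTen.ε T).app (C, U⟦n⟧))).symm ≪≫
          F.mapIso ((DerivedCategory.Q.commShiftIso n).app U)) (hC.shift ψ n)
  intro m
  obtain ⟨S, a, b, α, v, f, happ⟩ := (pc_iff (m - d) _).1 (h (m - d))
  haveI := isKProjective_bounded v f
  obtain ⟨g, rfl⟩ := exists_chainMap α
  rw [isApprox_Q_map_iff] at happ
  have hS : PcA ψ (DRing.toD ((KFlat.T C).obj S)) := PcA.of_iso ψ (t S)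
    (Groth.L10.DTen.perfect_induction Pr hext (fun r hr => PcA.retract ψ (r.map F) hr) hunit
      ⟨S, a, b, v, fun i => ⟨(f i).1, (haveI := (f i).2; inferInstance)⟩, ⟨Iso.refl _⟩⟩)
  have hSk : DRing.IsKFlat T S := KFlat.of_bounded S b (fun i hi => v i (Or.inr hi))
    fun i => (haveI := (f i).2; inferInstance)
  let σ := CochainComplex.mappingCone.triangleRotateShortComplexSplitting g
  have hsk : DRing.IsKFlat T (S⟦(1 : ℤ)⟧) := KFlat.shift S 1 hSk
  have hMk : DRing.IsKFlat T (CochainComplex.mappingCone g) :=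
    (KFlat.two_of_three_split (S := CochainComplex.mappingCone.triangleRotateShortComplex g) σ).2.1 hP hsk
  have hcone : Pc ψ m (DRing.toD ((KFlat.T C).obj (CochainComplex.mappingCone g))) := by
    obtain ⟨M', hM'b, hM'f, -, ⟨eM⟩⟩ := exists_free_rep (K := DRing.toD (CochainComplex.mappingCone g))
      (n := m - d - 1) fun i hi => (isZero_HH_Q_iff _ i).2 (happ i (by omega))
    obtain ⟨e1⟩ := Groth.L10.AmpTest.test_congr eM hCk
    refine Pc.of_iso (e1 ≪≫ DerivedCategory.Q.mapIso (_root_.DTen.braidCx _ C)) ?_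
    have hz : DRing.VanishesAbove (M' ⊗ C) (m - 1) := fun i hi =>
      Groth.L10.AmpTest.isZero_tensor_X M' C i fun p q hpq => by
        by_cases hp : m - d - 1 < p
        · exact Or.inl (hM'b p hp)
        · exact Or.inr (hCb q (by omega))
    exact (show (m - 1) + 1 = m by omega) ▸ pc_of_LEH (Pc.LEH fun i hi =>
      (isZero_HH_Q_iff _ i).2 (Groth.L10.AmpTest.isZero_homology_of_X (hz i hi)))
  have hSE := Groth.L10.DTen.shortExact_tensorLeft C _ σ
  have h3 : Pc ψ (m - 1) (DRing.toD ((KFlat.T C).obj (S⟦(1 : ℤ)⟧))) :=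
    Pc.of_iso (((DerivedCategory.Q.commShiftIso (1 : ℤ)).app ((KFlat.T C).obj S)).symm ≪≫
      DerivedCategory.Q.mapIso (CochainComplex.mapBifunctorShift₂Iso C S (curriedTensor (ModuleCat.{u} T)) 1).symm)
      ((hS.shift ψ 1) (m - 1))
  exact (show m - 1 + 1 = m by omega) ▸
    pc_first _ ((DRing.restrictD ψ).map_distinguished _ (DerivedCategory.triangleOfSES_distinguished hSE)) (m - 1)
      ((show m - 1 + 1 = m by omega).symm ▸ hcone) h3

section Rel

open Groth.L10.RelPC

variable {R A B : Type u} [CommRing R] [CommRing A] [CommRing B] [Algebra R A] [Algebra A B] [Algebra R B]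
  [IsScalarTower R A B] [Algebra.FiniteType R A] [Algebra.FiniteType A B]

set_option maxHeartbeats 800000 in
/-- pseudo-coherence over the intermediate ring times pseudo-coherence relative to the bottom -/
theorem rel_tensor (E : DRing.Cx B) (hE : DerCA.IsRelPseudoCoherentAll A B (DRing.toD E)) (F : DRing.Cx A)
    {d : ℤ} (hFb : DRing.VanishesAbove F d) (hFf : DRing.TermwiseFlat F)
    (hF : DerCA.IsRelPseudoCoherentAll R A (DRing.toD F)) :
    DerCA.IsRelPseudoCoherentAll R B (DRing.toD ((_root_.DTen.extCx (algebraMap A B)).obj F ⊗ E)) := by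
  obtain ⟨n, α, hα⟩ := exists_presentation R A
  obtain ⟨k, β, hβ⟩ := exists_presentation A B
  letI : Algebra (MvPolynomial (Fin k) A) B := (β : MvPolynomial (Fin k) A →+* B).toAlgebra
  haveI : IsScalarTower A (MvPolynomial (Fin k) A) B := IsScalarTower.of_algebraMap_eq fun a => (β.commutes a).symm
  letI : Algebra (MvPolynomial (Fin n) R) A := (α : MvPolynomial (Fin n) R →+* A).toAlgebra
  letI : Algebra (MvPolynomial (Fin k) (MvPolynomial (Fin n) R)) (MvPolynomial (Fin k) A) :=
    MvPolynomial.algebraMvPolynomial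
  let ψ := algebraMap (MvPolynomial (Fin k) (MvPolynomial (Fin n) R)) (MvPolynomial (Fin k) A)
  have hfl : (algebraMap (MvPolynomial (Fin n) R) (MvPolynomial (Fin k) (MvPolynomial (Fin n) R))).Flat :=
    RingHom.flat_algebraMap_iff.mpr inferInstance
  let C : DRing.Cx (MvPolynomial (Fin k) A) := (bcCx (algebraMap A (MvPolynomial (Fin k) A))).obj F
  have hC : PcA ψ (DRing.toD C) := fun m =>
    Groth.L10.RelPC.Pc.baseChange (A := MvPolynomial (Fin n) R) (A' := MvPolynomial (Fin k) (MvPolynomial (Fin n) R))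
      (S := A) (S' := MvPolynomial (Fin k) A) hfl ((rel_iff α hα).1 (hF m))
  have hCf : DRing.TermwiseFlat C := fun i => by
    haveI := hFf i
    exact Module.Flat.of_linearEquiv (Groth.L29.FlatBC.extEquiv A (MvPolynomial (Fin k) A) (F.X i))
  have hCb : DRing.VanishesAbove C d := fun i hi =>
    (ModuleCat.extendScalars.{u, u, u} (algebraMap A (MvPolynomial (Fin k) A))).map_isZero (hFb i hi)
  have hCk : DRing.IsKFlat _ C := KFlat.of_bounded C d hCb hCf
  let τ := algebraMap (MvPolynomial (Fin k) A) B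
  let E' : DRing.Cx (MvPolynomial (Fin k) A) := (_root_.DTen.resCx τ).obj E
  have hE' : ∀ m, DRing.IsPseudoCoherent (MvPolynomial (Fin k) A) m (DRing.toD E') := fun m =>
    pc_of_iso (resQ τ E) ((rel_iff β hβ).1 (hE m))
  obtain ⟨P, hP, ⟨eP⟩⟩ := KFlat.exists_rep (DRing.toD E')
  have h1 := pcA_tensor ψ hCk hCb hC P hP fun m => pc_of_iso eP.symm (hE' m)
  obtain ⟨e1⟩ := Groth.L10.AmpTest.test_congr eP hCk
  let e2 : (_root_.DTen.resCx τ).obj ((_root_.DTen.extCx (algebraMap A B)).obj F ⊗ E) ≅ C ⊗ E' :=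
    (_root_.DTen.resCx τ).mapIso (whiskerRightIso
      (eqToIso (by rw [← IsScalarTower.algebraMap_eq A (MvPolynomial (Fin k) A) B]) ≪≫
        (NatIso.mapHomologicalComplex (ModuleCat.extendScalarsComp.{u, u} (algebraMap A (MvPolynomial (Fin k) A)) τ)
          (ComplexShape.up ℤ)).app F) E) ≪≫
      (Groth.L00.BaseChangeTensor.tensorIso τ C E).symm
  intro m
  refine (rel_iff_of_equiv (doubleEquiv R k n) (τ.comp ψ) (fun r => ?_)
    (hβ.comp (MvPolynomial.map_surjective _ hα))).2 ?_
  · rw [IsScalarTower.algebraMap_apply R (MvPolynomial (Fin n) R) (MvPolynomial (Fin k) (MvPolynomial (Fin n) R))]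
    show β (MvPolynomial.map (α : MvPolynomial (Fin n) R →+* A) (MvPolynomial.C (algebraMap R _ r))) = _
    rw [MvPolynomial.map_C, IsScalarTower.algebraMap_apply R A B]
    exact (β.commutes _).trans (congrArg _ (α.commutes r))
  · exact (Pc.comp_iff ψ τ rfl _).2 (Pc.of_iso (DerivedCategory.Q.mapIso (_root_.DTen.braidCx C P) ≪≫ e1 ≪≫
      DerivedCategory.Q.mapIso (_root_.DTen.braidCx E' C) ≪≫ DerivedCategory.Q.mapIso e2.symm ≪≫ (resQ _ _).symm) (h1 m))

end Rel

end Groth.L10.RelPC.PcTensorCx
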