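import Groth.Agent.L10.RelPC.PullPC
import Groth.Agent.L10.RelPC.PcTensorCx
import Groth.Agent.L29.DCoh.QCohTensor
import Groth.Agent.L10.DRing.KFlatLBC

/-!
`Lf^* F ⊗ E` is pseudo-coherent relative to the composite.
-/

set_option autoImplicit false
set_option linter.style.haveILetI false
set_option backward.defeqAttrib.useBackward true
set_option backward.isDefEq.respectTransparency false
set_option backward.isDefEq.respectTransparency.types false

universe u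

open CategoryTheory CategoryTheory.Limits AlgebraicGeometry MonoidalCategory

attribute [local instance] HasDerivedCategory.standard

namespace Groth.L10.RelPC.TensorPullPC

open Groth.L29.DC Groth.L29.DC.ClosedPC Groth.L29.RelPC

attribute [local instance] ClosedPC.additive ClosedPC.exactLeft ClosedPC.exactRight

variable {X Y S : Scheme.{u}}

open Groth.L00 in
/-- the derived tensor product on an affine chart -/
theorem nonempty_tensor_chart {U : X.Opens} (hU : IsAffineOpen U) (E : CochainComplex X.Modules ℤ)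
    [DCoh.HasLTensorCx E] (K : DCoh.D X) (M N : CochainComplex (ModuleCat.{u} Γ(X, U)) ℤ)
    (hM : ModRes.IsKFlat M) (hN : ModRes.IsKFlat N)
    (eM : DerivedCategory.Q.obj ((ModRes.tCx Γ(X, U)).obj M) ≅ (DCoh.restrictD hU.fromSpec).obj K)
    (eN : DerivedCategory.Q.obj ((ModRes.tCx Γ(X, U)).obj N) ≅ (DCoh.restrictD hU.fromSpec).obj (DCoh.toD X E)) :
    Nonempty (DerivedCategory.Q.obj ((ModRes.tCx Γ(X, U)).obj (HomologicalComplex.tensorObj M N)) ≅
      (DCoh.restrictD hU.fromSpec).obj ((DCoh.LTensorCx E).obj K)) := by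
  obtain ⟨P, q, hP, -, hq, -⟩ := Groth.L00.KFlat.exists_resolution (DerivedCategory.Q.objPreimage K)
  haveI := (DerivedCategory.isIso_Q_map_iff_quasiIso _ q).2 hq
  let eP : DCoh.toD X P ≅ K := asIso (DerivedCategory.Q.map q) ≪≫ DerivedCategory.Q.objObjPreimageIso K
  obtain ⟨E', r, hE', -, hr, -⟩ := Groth.L00.KFlat.exists_resolution E
  haveI := hr
  haveI : IsIso (DerivedCategory.Q.map r) := (DerivedCategory.isIso_Q_map_iff_quasiIso _ r).2 hr
  haveI := Groth.L00.KFlat.quasiIso_tensor_of_kflat P hP r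
  obtain ⟨eT⟩ := nonempty_LTensorCx_iso E P hP
  let j := hU.fromSpec
  let f := fun Z : CochainComplex X.Modules ℤ => (Scheme.Modules.restrictFunctor j).mapDerivedCategoryFactors.app Z
  let e₀ : DCoh.toD X ((DCoh.tensorCx.obj P).obj E') ≅ DCoh.toD X ((DCoh.tensorCx.obj P).obj E) :=
    DerivedCategory.Q.mapIso (Groth.L00.KFlat.commIso E' P) ≪≫
      @asIso _ _ _ _ (DerivedCategory.Q.map (((DCoh.tensorCx (X := X)).map r).app P))
        ((DerivedCategory.isIso_Q_map_iff_quasiIso _ _).2 inferInstance) ≪≫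
      (DerivedCategory.Q.mapIso (Groth.L00.KFlat.commIso E P)).symm
  obtain ⟨t⟩ := nonempty_tensor_iso hM (isKFlat_restrict j hP) hN (isKFlat_restrict j hE')
    (eM ≪≫ (DCoh.restrictD j).mapIso eP.symm ≪≫ f P)
    (eN ≪≫ (DCoh.restrictD j).mapIso (asIso (DerivedCategory.Q.map r)).symm ≪≫ f E')
  exact ⟨DerivedCategory.Q.mapIso (tildeTensorCxIso M N).symm ≪≫ t ≪≫
    DerivedCategory.Q.mapIso (restrictTensorCxIso j P E') ≪≫ (f _).symm ≪≫
    (DCoh.restrictD j).mapIso (e₀ ≪≫ eT.symm ≪≫ (DCoh.LTensorCx E).mapIso eP)⟩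

variable (f : X ⟶ Y) (g : Y ⟶ S)

set_option maxHeartbeats 1600000 in
theorem relAll_tensor_Lpull [LocallyOfFiniteType f] [LocallyOfFiniteType g] [DCoh.HasLpull f]
    (E : CochainComplex X.Modules ℤ) [DCoh.HasLTensorCx E] (hEq : DCoh.IsQCohD (DCoh.toD X E))
    (hE : DerSch.IsPseudoCoherentRelAll f (DCoh.toD X E)) {F : DCoh.D Y} (hFq : DCoh.IsQCohD F)
    (hF : DerSch.IsPseudoCoherentRelAll g F) :
    DerSch.IsPseudoCoherentRelAll (f ≫ g) ((DCoh.LTensorCx E).obj ((DCoh.Lpull f).obj F)) := by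
  intro m
  refine rel_of_local fun x => ?_
  obtain ⟨W, V, hWV, hW, hV, hxW⟩ := exists_affine (f x) g
  obtain ⟨_, ⟨U, hU, rfl⟩, hx, hle⟩ := X.isBasis_affineOpens.exists_subset_of_mem_open
    (show x ∈ f ⁻¹ᵁ W from hxW) (f ⁻¹ᵁ W).isOpen
  have hUV : U ≤ (f ≫ g) ⁻¹ᵁ V := hle.trans (f.preimage_mono hWV)
  refine ⟨U, V, hx, hU, hV, hUV, ?_⟩
  haveI := isClosedImmersion_toSpecΓ hU
  haveI := isClosedImmersion_toSpecΓ hW
  haveI := Groth.L18.TildeF.tilde_preservesFiniteLimits (R := Γ(Y, W))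
  haveI := Groth.L18.TildeF.tilde_preservesFiniteLimits (R := Γ(X, U))
  obtain ⟨Mo, ⟨eMo⟩⟩ := exists_module (U := W) hFq
  letI : Algebra Γ(Y, W) Γ(X, U) := (f.appLE W U hle).hom.toAlgebra
  letI : Algebra Γ(S, V) Γ(Y, W) := (g.appLE V W hWV).hom.toAlgebra
  letI : Algebra Γ(S, V) Γ(X, U) := ((f ≫ g).appLE V U hUV).hom.toAlgebra
  haveI : IsScalarTower Γ(S, V) Γ(Y, W) Γ(X, U) := IsScalarTower.of_algebraMap_eq fun r =>
    (ConcreteCategory.congr_hom (Scheme.Hom.appLE_comp_appLE f g V W U hWV hle) r).symm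
  haveI : Algebra.FiniteType Γ(S, V) Γ(Y, W) := g.finiteType_appLE hV hW hWV
  haveI : Algebra.FiniteType Γ(Y, W) Γ(X, U) := f.finiteType_appLE hW hU hle
  haveI : DCoh.HasLpull (Spec.map (f.appLE W U hle)) := Groth.L00.KFlat.hasLpull _
  haveI := LBC.hasLBaseChange (f.appLE W U hle)
  obtain ⟨aW⟩ := nonempty_fromSpec hW F
  obtain ⟨r⟩ := nonempty_restrict_chart f hW hU hle F
  have hMo : DerCA.IsRelPseudoCoherentAll Γ(S, V) Γ(Y, W) Mo := fun k =>
    (good_iff_rel hW hV hWV eMo).1 (good_of_rel (hF k) hW hV hWV)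
  obtain ⟨n, α, hα⟩ := Groth.L10.RelPC.exists_presentation Γ(S, V) Γ(Y, W)
  obtain ⟨d, hd⟩ := bounded_of_pc ((Groth.L10.RelPC.rel_iff α hα).1 (hMo 0))
  obtain ⟨Qc, hQb, hQf, -, ⟨eQ⟩⟩ := Groth.L02.PC.exists_free_rep hd
  have hQfl : DRing.TermwiseFlat Qc := fun i => by
    haveI := hQf i
    infer_instance
  let M : DRing.Cx Γ(X, U) := (_root_.DTen.extCx (algebraMap Γ(Y, W) Γ(X, U))).obj Qc
  have hM : ModRes.IsKFlat (R := Γ(X, U)) M := by
    haveI : CochainComplex.IsStrictlyLE ((ModRes.tCx Γ(X, U)).obj M) d :=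
      (CochainComplex.isStrictlyLE_iff _ _).2 fun i hi =>
        (tilde.functor Γ(X, U)).map_isZero ((ModuleCat.extendScalars _).map_isZero (hQb i hi))
    exact Groth.L00.KFlat.of_bounded _ d inferInstance fun i => by
      haveI : Module.Flat Γ(X, U) (M.X i) := by
        haveI := hQfl i
        exact Module.Flat.of_linearEquiv (Groth.L29.FlatBC.extEquiv Γ(Y, W) Γ(X, U) (Qc.X i))
      exact ModRes.isFlat_tilde (R := Γ(X, U)) _
  let eM : DerivedCategory.Q.obj ((ModRes.tCx Γ(X, U)).obj M) ≅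
      (DCoh.restrictD hU.fromSpec).obj ((DCoh.Lpull f).obj F) :=
    ((tilde.functor Γ(X, U)).mapDerivedCategoryFactors.app M).symm ≪≫
      (DCoh.tildeD Γ(X, U)).mapIso ((Groth.L10.KFlatLBC.lbcKF (algebraMap Γ(Y, W) Γ(X, U)) Qc
        (Groth.L10.KFlat.of_bounded Qc d hQb hQfl)).symm ≪≫
        (DRing.LBaseChange (algebraMap Γ(Y, W) Γ(X, U))).mapIso eQ) ≪≫
      (LBC.tildeDIso (f.appLE W U hle)).app Mo ≪≫
      (DCoh.Lpull (Spec.map (f.appLE W U hle))).mapIso (eMo ≪≫ aW) ≪≫ r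
  obtain ⟨N, hN, ⟨eN⟩⟩ := exists_tilde_rep (isQCohD_restrictD hU.fromSpec hEq)
  obtain ⟨bE⟩ := nonempty_fromSpec hU (DCoh.toD X E)
  have hNpc : DerCA.IsRelPseudoCoherentAll Γ(Y, W) Γ(X, U) (DRing.toD N) := fun k =>
    (good_iff_rel hU hW hle
      ((tilde.functor Γ(X, U)).mapDerivedCategoryFactors.app N ≪≫ eN ≪≫ bE.symm)).1 (good_of_rel (hE k) hU hW hle)
  have hQpc : DerCA.IsRelPseudoCoherentAll Γ(S, V) Γ(Y, W) (DRing.toD Qc) := fun k =>
    (Groth.L10.RelPC.rel_iff α hα).2 (Groth.L10.RelPC.Pc.of_iso eQ.symm ((Groth.L10.RelPC.rel_iff α hα).1 (hMo k)))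
  obtain ⟨t⟩ := nonempty_tensor_chart hU E _ M N hM hN eM eN
  obtain ⟨b⟩ := nonempty_fromSpec hU ((DCoh.LTensorCx E).obj ((DCoh.Lpull f).obj F))
  exact (good_iff_rel (f := f ≫ g) hU hV hUV
    ((tilde.functor Γ(X, U)).mapDerivedCategoryFactors.app _ ≪≫ t ≪≫ b.symm)).2
    (PcTensorCx.rel_tensor N hNpc Qc hQb hQfl hQpc m)

end Groth.L10.RelPC.TensorPullPC
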