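import Groth.Agent.L10.RelPC.TorExternal
import Groth.Agent.L10.RelPC.TensorPullMax
import Groth.Agent.L29.DCoh.RHomBound
import Groth.Agent.L29.DCoh.QCohLocal
import Groth.Agent.L10.RelPC.RelIndepBC
import Groth.Agent.L00.KFlatDerived

/-!
External tensor products of relatively pseudo-coherent objects.
-/

set_option autoImplicit false
set_option linter.style.haveILetI false
set_option backward.isDefEq.respectTransparency false
set_option backward.isDefEq.respectTransparency.types false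
set_option backward.defeqAttrib.useBackward true

universe u

open CategoryTheory CategoryTheory.Limits AlgebraicGeometry

attribute [local instance] HasDerivedCategory.standard

namespace Groth.L10.RelPC.PCExternalMax

open Groth.L00 Groth.L29.DC

variable {X₁ X₂ X Y Z : Scheme.{u}}

set_option maxHeartbeats 800000 in
theorem rel_external_max {w : X ⟶ Z} {v : Z ⟶ Y} {pX₁ : X ⟶ X₁} {pX₂ : X ⟶ X₂} {π₂ : Z ⟶ X₂}
    (hwπ : w ≫ π₂ = pX₂) [LocallyOfFiniteType w] [LocallyOfFiniteType v]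
    (E₁ : CochainComplex X₁.Modules ℤ) (E₂ : CochainComplex X₂.Modules ℤ)
    [DCoh.HasLpull pX₁] [DCoh.HasLpull pX₂] [DCoh.HasLpull π₂]
    {a₁ b₁ a₂ b₂ m : ℤ} (hq₁ : DCoh.IsQCohD (DCoh.toD X₁ E₁)) (hq₂ : DCoh.IsQCohD (DCoh.toD X₂ E₂))
    (hA : DerSch.IsPseudoCoherentRel w a₁ ((DCoh.Lpull pX₁).obj (DCoh.toD X₁ E₁)))
    (hB : DerSch.IsPseudoCoherentRel v a₂ ((DCoh.Lpull π₂).obj (DCoh.toD X₂ E₂)))
    (hb₁ : (DCoh.toD X₁ E₁).IsLE b₁) (hb₂ : (DCoh.toD X₂ E₂).IsLE b₂) (hm₁ : a₁ + b₂ ≤ m) (hm₂ : a₂ + b₁ ≤ m)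
    (K₂ : CochainComplex X.Modules ℤ) [DCoh.HasLTensorCx K₂]
    (e₂ : DCoh.toD X K₂ ≅ (DCoh.Lpull pX₂).obj (DCoh.toD X₂ E₂)) :
    DerSch.IsPseudoCoherentRel (w ≫ v) m
      ((DCoh.LTensorCx K₂).obj ((DCoh.Lpull pX₁).obj (DCoh.toD X₁ E₁))) := by
  obtain ⟨P₁, r₁, hP₁, -, hr₁, -⟩ := Groth.L00.KFlat.exists_resolution E₁
  haveI := (DerivedCategory.isIso_Q_map_iff_quasiIso _ r₁).2 hr₁
  let eP₁ : DCoh.toD X₁ P₁ ≅ DCoh.toD X₁ E₁ := asIso (DerivedCategory.Q.map r₁)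
  obtain ⟨P₂, r₂, hP₂, -, hr₂, -⟩ := Groth.L00.KFlat.exists_resolution E₂
  haveI := (DerivedCategory.isIso_Q_map_iff_quasiIso _ r₂).2 hr₂
  let eP₂ : DCoh.toD X₂ P₂ ≅ DCoh.toD X₂ E₂ := asIso (DerivedCategory.Q.map r₂)
  obtain ⟨R, r, hR, -, hr, -⟩ := Groth.L00.KFlat.exists_resolution K₂
  haveI := hr
  haveI : IsIso (DerivedCategory.Q.map r) := (DerivedCategory.isIso_Q_map_iff_quasiIso _ r).2 hr
  let M₁ := (PullTensor.pullCx pX₁).obj P₁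
  let G := (PullTensor.pullCx π₂).obj P₂
  let M₂ := (PullTensor.pullCx w).obj G
  have hM₁ : DCoh.IsKFlat M₁ := Groth.L00.KFlat.pullback_kflat pX₁ P₁ hP₁
  have hG : DCoh.IsKFlat G := Groth.L00.KFlat.pullback_kflat π₂ P₂ hP₂
  have hM₂ : DCoh.IsKFlat M₂ := Groth.L00.KFlat.pullback_kflat w G hG
  obtain ⟨eT⟩ := nonempty_LTensorCx_iso K₂ M₁ hM₁
  haveI : QuasiIso (((DCoh.tensorCx (X := X)).map r).app M₁) :=
    Groth.L00.KFlat.quasiIso_tensor_of_kflat M₁ hM₁ r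
  haveI := (DerivedCategory.isIso_Q_map_iff_quasiIso _ (((DCoh.tensorCx (X := X)).map r).app M₁)).2 inferInstance
  let eM₂ : DCoh.toD X R ≅ DCoh.toD X M₂ :=
    asIso (DerivedCategory.Q.map r) ≪≫ e₂ ≪≫ (DCoh.Lpull pX₂).mapIso eP₂.symm ≪≫
      DerivedApi.objIso (DerivedApi.acyclicKFlat_pullback pX₂) P₂ hP₂ ≪≫
      DerivedCategory.Q.mapIso ((NatIso.mapHomologicalComplex ((Scheme.Modules.pullbackComp w π₂) ≪≫
        eqToIso (by rw [hwπ])) (ComplexShape.up ℤ)).app P₂).symm ≪≫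
      DerivedCategory.Q.mapIso ((DerivedApi.mapCxCompIso (Scheme.Modules.pullback π₂) (Scheme.Modules.pullback w)).app P₂).symm
  obtain ⟨eR⟩ := nonempty_tensor_iso hR hM₂ hM₁ hM₁ eM₂ (Iso.refl _)
  haveI := Groth.L00.KFlat.hasLpull w
  haveI := Groth.L00.KFlat.hasLTensorCx M₁
  let aM : (DCoh.Lpull pX₁).obj (DCoh.toD X₁ E₁) ≅ DCoh.toD X M₁ :=
    (DCoh.Lpull pX₁).mapIso eP₁.symm ≪≫ DerivedApi.objIso (DerivedApi.acyclicKFlat_pullback pX₁) P₁ hP₁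
  let aG : (DCoh.Lpull π₂).obj (DCoh.toD X₂ E₂) ≅ DCoh.toD Z G :=
    (DCoh.Lpull π₂).mapIso eP₂.symm ≪≫ DerivedApi.objIso (DerivedApi.acyclicKFlat_pullback π₂) P₂ hP₂
  obtain ⟨eS⟩ := nonempty_LTensorCx_iso M₁ M₂ hM₂
  have h1 : DerSch.IsPseudoCoherentRel w a₁ (DCoh.toD X M₁) := Groth.L29.RelPC.rel_iso aM hA
  have h1b : (DCoh.toD X M₁).IsLE b₁ := by
    haveI := TensorPullMax.isLE_Lpull pX₁ _ b₁ hb₁
    exact DerivedCategory.TStructure.t.isLE_of_iso aM _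
  have h := TensorPullMax.rel_tensor_Lpull_max w v M₁ (isQCohD_of_iso aM (isQCohD_Lpull pX₁ hq₁)) h1 h1b
    (isQCohD_Lpull π₂ hq₂) hB (TensorPullMax.isLE_Lpull π₂ _ b₂ hb₂) hm₁ hm₂
  let e := 
      (DCoh.LTensorCx K₂).mapIso ((DCoh.Lpull pX₁).mapIso eP₁.symm ≪≫
        DerivedApi.objIso (DerivedApi.acyclicKFlat_pullback pX₁) P₁ hP₁) ≪≫ eT ≪≫
      DerivedCategory.Q.mapIso (Groth.L00.KFlat.commIso M₁ K₂).symm ≪≫
      (asIso (DerivedCategory.Q.map (((DCoh.tensorCx (X := X)).map r).app M₁))).symm ≪≫ eR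
  exact Groth.L29.RelPC.rel_iso ((DCoh.LTensorCx M₁).mapIso ((DCoh.Lpull w).mapIso aG ≪≫
    DerivedApi.objIso (DerivedApi.acyclicKFlat_pullback w) G hG) ≪≫ eS ≪≫ e.symm) h

end Groth.L10.RelPC.PCExternalMax
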