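import Groth.Agent.L29.RelPC.Mor
import Groth.Agent.L29.RelPC.BCRel
import Groth.Agent.L29.DCoh.LBC
import Groth.Agent.L10.RelPC.Tensor
import Groth.Agent.L18.TildeFunctor

/-!
Derived pullback along a pseudo-coherent morphism keeps relative pseudo-coherence (quasi-coherent cohomology).
-/

set_option autoImplicit false
set_option linter.style.haveILetI false
set_option backward.defeqAttrib.useBackward true
set_option backward.isDefEq.respectTransparency false
set_option backward.isDefEq.respectTransparency.types false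

universe u

open CategoryTheory CategoryTheory.Limits AlgebraicGeometry

attribute [local instance] HasDerivedCategory.standard

namespace Groth.L10.RelPC.PullPC

open Groth.L29.DC Groth.L29.DC.ClosedPC Groth.L29.RelPC

attribute [local instance] ClosedPC.additive ClosedPC.exactLeft ClosedPC.exactRight

variable {X Y S : Scheme.{u}} (f : X ⟶ Y) (g : Y ⟶ S)

set_option maxHeartbeats 800000 in
theorem rel_Lpull_comp [LocallyOfFiniteType f] [LocallyOfFiniteType g] (hf : ∀ n : ℤ, DerSch.IsNPseudoCoherent f n)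
    [DCoh.HasLpull f] {m : ℤ} {E : DCoh.D Y} (hq : DCoh.IsQCohD E) (hE : DerSch.IsPseudoCoherentRel g m E) :
    DerSch.IsPseudoCoherentRel (f ≫ g) m ((DCoh.Lpull f).obj E) := by
  refine rel_of_local fun x => ?_
  obtain ⟨W, V, hWV, hW, hV, hxW⟩ := exists_affine (f x) g
  obtain ⟨_, ⟨U, hU, rfl⟩, hx, hle⟩ := X.isBasis_affineOpens.exists_subset_of_mem_open
    (show x ∈ f ⁻¹ᵁ W from hxW) (f ⁻¹ᵁ W).isOpen
  have hUV : U ≤ (f ≫ g) ⁻¹ᵁ V := hle.trans (f.preimage_mono hWV)
  refine ⟨U, V, hx, hU, hV, hUV, ?_⟩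
  haveI := isClosedImmersion_toSpecΓ hU
  haveI := isClosedImmersion_toSpecΓ hW
  haveI := Groth.L18.TildeF.tilde_preservesFiniteLimits (R := Γ(Y, W))
  haveI := Groth.L18.TildeF.tilde_preservesFiniteLimits (R := Γ(X, U))
  obtain ⟨M, ⟨eM⟩⟩ := exists_module (U := W) hq
  obtain ⟨eU⟩ := nonempty_unit_iso hU
  letI : Algebra Γ(Y, W) Γ(X, U) := (f.appLE W U hle).hom.toAlgebra
  letI : Algebra Γ(S, V) Γ(Y, W) := (g.appLE V W hWV).hom.toAlgebra
  letI : Algebra Γ(S, V) Γ(X, U) := ((f ≫ g).appLE V U hUV).hom.toAlgebra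
  haveI : IsScalarTower Γ(S, V) Γ(Y, W) Γ(X, U) := IsScalarTower.of_algebraMap_eq fun r =>
    (ConcreteCategory.congr_hom (Scheme.Hom.appLE_comp_appLE f g V W U hWV hle) r).symm
  haveI : Algebra.FiniteType Γ(S, V) Γ(Y, W) := g.finiteType_appLE hV hW hWV
  haveI : Algebra.FiniteType Γ(Y, W) Γ(X, U) := f.finiteType_appLE hW hU hle
  haveI : DCoh.HasLpull (Spec.map (f.appLE W U hle)) := Groth.L00.KFlat.hasLpull _
  haveI := LBC.hasLBaseChange (f.appLE W U hle)
  have hB : DerCA.IsRelPseudoCoherentModuleAll Γ(Y, W) Γ(X, U) Γ(X, U) := fun k =>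
    (good_iff_rel hU hW hle eU).1 (good_of_rel ((unit_pc_iff k).1 (hf k)) hU hW hle)
  obtain ⟨a⟩ := nonempty_fromSpec hW E
  obtain ⟨b⟩ := nonempty_fromSpec hU ((DCoh.Lpull f).obj E)
  obtain ⟨r⟩ := nonempty_restrict_chart f hW hU hle E
  let t : (DCoh.tildeD Γ(X, U)).obj ((DRing.LBaseChange (algebraMap Γ(Y, W) Γ(X, U))).obj M) ≅
      (pD (Scheme.Opens.toSpecΓ U)).obj ((resD U).obj ((DCoh.Lpull f).obj E)) :=
    (LBC.tildeDIso (f.appLE W U hle)).app M ≪≫
      (DCoh.Lpull (Spec.map (f.appLE W U hle))).mapIso (eM ≪≫ a) ≪≫ r ≪≫ b.symm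
  refine (good_iff_rel (f := f ≫ g) hU hV hUV t).2 ?_
  exact Groth.L10.RelPC.lBaseChange hB ((good_iff_rel hW hV hWV eM).1 (good_of_rel hE hW hV hWV))

end Groth.L10.RelPC.PullPC
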