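import Groth.Agent.L29.RelPC.Comp
import Groth.Agent.L29.RelPC.Mor
import Groth.Agent.L10.DerivedAdj

/-!
Pseudo-coherence descends along closed immersions with boundedly pseudo-coherent structure sheaf.
-/

set_option autoImplicit false
set_option linter.style.haveILetI false
set_option backward.defeqAttrib.useBackward true
set_option backward.isDefEq.respectTransparency false
set_option backward.isDefEq.respectTransparency.types false

universe u

open CategoryTheory CategoryTheory.Limits CategoryTheory.Pretriangulated AlgebraicGeometry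

attribute [local instance] HasDerivedCategory.standard

namespace Groth.L10.PushBounded

open Groth.L00 Groth.L29.DC Groth.L29.DC.ClosedPC

attribute [local instance] ClosedPC.additive ClosedPC.exactLeft ClosedPC.exactRight

variable {Z W : Scheme.{u}}

/-- the direct image of the structure sheaf is `r`-pseudo-coherent -/
def POB (i : Z ⟶ W) (r : ℤ) : Prop :=
  DCoh.IsPseudoCoherentD r (DCoh.inD W ((Scheme.Modules.pushforward i).obj (Coh.structureModule Z)))

theorem POB.restrict {i : Z ⟶ W} [IsClosedImmersion i] {r : ℤ} (hO : POB i r) (V : W.Opens) : POB (i ∣_ V) r := by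
  let a := (Groth.L17.PushQCoh.pushRestrictIso i V.ι (i ⁻¹ᵁ V).ι (i ∣_ V) (by simp) (morphismRestrict_ι i V)).app
    (Coh.structureModule Z)
  refine isPseudoCoherentD_of_iso ?_ (PCStalk.pc_res V.ι hO)
  exact (((Scheme.Modules.restrictFunctor V.ι).mapDerivedCategorySingleFunctor 0).app _) ≪≫
    (DerivedCategory.singleFunctor _ 0).mapIso (a ≪≫
      (Scheme.Modules.pushforward (i ∣_ V)).mapIso (Scheme.Modules.restrictUnitIso (i ⁻¹ᵁ V).ι))

theorem pc_push_free_bdd (i : Z ⟶ W) [IsClosedImmersion i] {r : ℤ} (hO : POB i r) (q : ℕ) :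
    DCoh.IsPseudoCoherentD r ((pD i).obj (DCoh.inD Z (FlatMod.freeMod Z q))) := by
  induction q with
  | zero =>
    refine pc_of_isZero fun j _ => (DerivedCategory.homologyFunctor _ j).map_isZero ((pD i).map_isZero
      ((DerivedCategory.singleFunctor Z.Modules 0).map_isZero ?_))
    exact (IsZero.iff_id_eq_zero _).2 (Sigma.hom_ext _ _ fun j => j.elim0)
  | succ q ih =>
    let F := pD i
    let s := DerivedCategory.singleFunctor Z.Modules 0
    haveI := preservesBinaryBiproducts_of_preservesBiproducts F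
    haveI := preservesBinaryBiproducts_of_preservesBiproducts s
    let e : F.obj (DCoh.inD Z (FlatMod.freeMod Z (q + 1))) ≅
        F.obj (s.obj (Coh.structureModule Z)) ⊞ F.obj (s.obj (FlatMod.freeMod Z q)) :=
      F.mapIso (s.mapIso (coprodFinSuccIso fun _ : Fin (q + 1) => Coh.structureModule Z) ≪≫ s.mapBiprod _ _) ≪≫
        F.mapBiprod _ _
    exact isPseudoCoherentD_of_iso e.symm ((pc_two_out_of_three (binaryBiproductTriangle_distinguished _ _) r).2.1
      (isPseudoCoherentD_of_iso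
        (((Scheme.Modules.pushforward i).mapDerivedCategorySingleFunctor 0).app _).symm hO) ih)

/-- pseudo-coherence descends along a closed immersion whose structure sheaf is pseudo-coherent enough -/
theorem pc_of_push_aux (m : ℤ) : ∀ (k : ℕ) {Z W : Scheme.{u}} (i : Z ⟶ W) [IsClosedImmersion i] (r : ℤ), POB i r →
    r + k ≤ 2 → ∀ E : DCoh.D Z, (∀ j, m - 1 + k < j → IsZero (DCoh.HD E j)) →
      DCoh.IsPseudoCoherentD m ((pD i).obj E) → DCoh.IsPseudoCoherentD m E := by
  intro k
  induction k with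
  | zero => exact fun i _ r _ _ E hz _ => pc_of_isZero fun j hj => hz j (by omega)
  | succ k ih =>
    intro Z W i _ r hO hr E hz hE
    let n : ℤ := m + k
    haveI : E.IsLE n := (E.isLE_iff n).2 fun j hj => hz j (by omega)
    refine PCDesc.pc_of_local fun z => ?_
    obtain ⟨e⟩ := nonempty_HD_iso i E n
    obtain ⟨U, q, α, hzU, hα⟩ := exists_top_map E (isFT_of_push i (TildeAlg.isFT_of_iso e
      (TopCoh.isFT_top (m := m) (by omega) hE fun j hj => (isZero_HD_iff i E j).2 (hz j (by omega))))) z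
    obtain ⟨O, hO', hOU⟩ := i.isClosedEmbedding.isInducing.isOpen_iff.1 U.2
    let V : W.Opens := ⟨O, hO'⟩
    have hUV : U = i ⁻¹ᵁ V := TopologicalSpace.Opens.ext hOU.symm
    subst hUV
    obtain ⟨ρ⟩ := nonempty_res i V
    refine ⟨i ⁻¹ᵁ V, hzU, ?_⟩
    obtain ⟨C, g, d, hT⟩ := distinguished_cocone_triangle α
    have hC := (approx_iff_triangle _ hT n).1 hα
    have hCz : ∀ j, m - 1 + k < j → IsZero (DCoh.HD C j) := fun j hj =>
      haveI : DerivedCategory.IsLE C (n - 1) := hC
      DerivedCategory.isZero_of_isLE C (n - 1) j (by omega)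
    have hfree : DCoh.IsPseudoCoherentD m ((DCoh.inD (i ⁻¹ᵁ V : Scheme.{u}) (FlatMod.freeMod _ q))⟦-n⟧) :=
      pc_of_perfect (perfect_shift (perfect_free q) _) m
    have hpfree : DCoh.IsPseudoCoherentD (m + 1)
        ((pD (i ∣_ V)).obj ((DCoh.inD (i ⁻¹ᵁ V : Scheme.{u}) (FlatMod.freeMod _ q))⟦-n⟧)) :=
      isPseudoCoherentD_of_iso (((pD (i ∣_ V)).commShiftIso (-n)).app _).symm
        (pc_shift (pc_mono (show r ≤ m + 1 - n by omega) (pc_push_free_bdd (i ∣_ V) (hO.restrict V) q))
          (-n) (m + 1) (by omega))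
    have hT' := (pD (i ∣_ V)).map_distinguished _ hT
    have hC' := (pc_two_out_of_three hT' m).1 hpfree (isPseudoCoherentD_of_iso (ρ.app E) (PCStalk.pc_res V.ι hE))
    exact (pc_two_out_of_three hT m).2.1 hfree (ih (i ∣_ V) r (hO.restrict V) (by omega) C hCz hC')

theorem pc_of_push (i : Z ⟶ W) [IsClosedImmersion i] {r m b : ℤ} (hO : POB i r) (hr : r ≤ m + 1 - b) (E : DCoh.D Z)
    (hb : ∀ j, b < j → IsZero (DCoh.HD E j)) (h : DCoh.IsPseudoCoherentD m ((pD i).obj E)) :
    DCoh.IsPseudoCoherentD m E := by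
  rcases lt_or_ge b m with hbm | hbm
  · exact pc_of_isZero fun j hj => hb j (by omega)
  · exact pc_of_push_aux m (b - m + 1).toNat i r hO (by omega) E (fun j hj => hb j (by omega)) h

/-- surjective ring maps with boundedly pseudo-coherent target -/
theorem POB.spec {Q P : CommRingCat.{u}} (φ : Q ⟶ P) {r : ℤ} (hφ : Groth.L10.RelPC.Pc φ.hom r (Dual.inD P P)) :
    POB (Spec.map φ) r := by
  haveI := Groth.L18.TildeF.tilde_preservesFiniteLimits (R := Q)
  letI : Algebra Q P := φ.hom.toAlgebra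
  let a : (Scheme.Modules.pushforward (Spec.map φ)).obj (Coh.structureModule (Spec P)) ≅
      (tilde.functor Q).obj ((ModuleCat.restrictScalars φ.hom).obj (ModuleCat.of _ P)) :=
    (Scheme.Modules.pushforward (Spec.map φ)).mapIso (tildeSelf (R := P)).symm ≪≫
      (Groth.L29.DC.PushTilde.pushTildeIso φ).app _
  let d : ModuleCat.of Q P ≅ (ModuleCat.restrictScalars φ.hom).obj (ModuleCat.of P P) :=
    LinearEquiv.toModuleIso (X₂ := (ModuleCat.restrictScalars φ.hom).obj (ModuleCat.of P P))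
      { AddEquiv.refl P with map_smul' := fun a b => Algebra.smul_def a b }
  have h : DRing.IsPseudoCoherentModule Q r P :=
    Groth.L02.PC.pc_of_iso (Groth.L10.RelPC.inDIso φ.hom P fun a x => Algebra.smul_def a x) hφ
  exact isPseudoCoherentD_of_iso
    ((((tilde.functor Q).mapDerivedCategorySingleFunctor 0).app _) ≪≫
      (DerivedCategory.singleFunctor _ 0).mapIso ((tilde.functor Q).mapIso d ≪≫ a.symm))
    (TildeAlg.pc_tilde h)

open Groth.L29.RelPC in
/-- descending a chart along a surjection with boundedly pseudo-coherent target -/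
theorem cp_of_comp {X : Scheme.{u}} {U : X.Opens} (hU : IsAffineOpen U) {Q Q' : Type u} [CommRing Q] [CommRing Q']
    {g : Q' →+* Γ(X, U)} (h : Q →+* Γ(X, U)) (hh : Function.Surjective h) (σ : Q' →+* Q)
    (hσs : Function.Surjective σ) {r m b : ℤ} (hσ : Groth.L10.RelPC.Pc σ r (Dual.inD Q Q)) (hr : r ≤ m + 1 - b)
    (e : g = h.comp σ) {K : DCoh.D X} [K.IsLE b] (hK : CP U g m K) : CP U h m K := by
  haveI := isClosedImmersion_chartI hU hh
  haveI := isClosedImmersion_chartI hU (h := g) (by rw [e]; exact hh.comp hσs)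
  haveI : IsClosedImmersion (Spec.map (CommRingCat.ofHom σ)) := IsClosedImmersion.spec_of_surjective _ hσs
  have w : chartI U g = chartI U h ≫ Spec.map (CommRingCat.ofHom σ) := by
    subst e
    simp [chartI, ← Spec.map_comp, ← CommRingCat.ofHom_comp]
  obtain ⟨_, hp⟩ := hK
  obtain ⟨c⟩ := nonempty_comp (chartI U h) (Spec.map (CommRingCat.ofHom σ))
  refine ⟨inferInstance, pc_of_push _ (POB.spec (CommRingCat.ofHom σ) hσ) hr _ (fun j hj => ?_)
    (isPseudoCoherentD_of_iso (c.app _) ((PP.congr w m _).1 hp))⟩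
  haveI : ((resD U).obj K).IsLE b := Groth.L10.DerivedAdj.isLE_map K b
  exact (isZero_HD_iff _ _ j).2 (DerivedCategory.isZero_of_isLE _ b j hj)

open Groth.L29.RelPC in
theorem rel_of_comp {X Y Z : Scheme.{u}} (f : X ⟶ Y) (g : Y ⟶ Z) [LocallyOfFiniteType f] [LocallyOfFiniteType g]
    {a b : ℤ} {E : DCoh.D X} [E.IsLE b] (hE : DerSch.IsPseudoCoherentRel (f ≫ g) a E)
    (hg : DerSch.IsNPseudoCoherent g (a + 1 - b)) : DerSch.IsPseudoCoherentRel f a E := by
  refine rel_of_local fun x => ?_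
  obtain ⟨W, V, hWV, hW, hV, hxW⟩ := exists_affine (f x) g
  obtain ⟨_, ⟨U, hU, rfl⟩, hx, hle⟩ := X.isBasis_affineOpens.exists_subset_of_mem_open
    (show x ∈ f ⁻¹ᵁ W from hxW) (f ⁻¹ᵁ W).isOpen
  refine ⟨U, W, hx, hU, hW, hle, ?_⟩
  obtain ⟨n, α, hα⟩ := exists_isChart g hW hV hWV
  obtain ⟨l, β, hβ⟩ := exists_isChart f hU hW hle
  have hσ₀ := (CP.unit_iff hW hα.1 _).1 (good_of_rel ((unit_pc_iff _).1 hg) hW hV hWV hWV n α hα)
  let σ : MvPolynomial (Fin l) (MvPolynomial (Fin n) Γ(Z, V)) →+* MvPolynomial (Fin l) Γ(Y, W) := MvPolynomial.map α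
  let e := (Groth.L10.RelPC.doubleEquiv Γ(Z, V) l n).toRingEquiv
  let σ' : MvPolynomial (Fin (l + n)) Γ(Z, V) →+* MvPolynomial (Fin l) Γ(Y, W) := σ.comp (RingHomClass.toRingHom e)
  have hσs : Function.Surjective σ' := (MvPolynomial.map_surjective _ hα.1).comp e.surjective
  have hσ : Groth.L10.RelPC.Pc σ' (a + 1 - b) (Dual.inD _ (MvPolynomial (Fin l) Γ(Y, W))) := by
    refine (Groth.L10.RelPC.Pc.comp_iff (RingHomClass.toRingHom e) σ rfl _).2 ?_
    exact ((Groth.L10.RelPC.PCHom.ringEquiv e).pc_iff _ _).1 (Groth.L29.RelPC.Pc.map_unit α hσ₀ l)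
  have hUV : U ≤ (f ≫ g) ⁻¹ᵁ V := hle.trans (f.preimage_mono hWV)
  have hψ : DerSch.IsChart (f ≫ g) U V hUV (β.comp σ') := by
    refine ⟨hβ.1.comp hσs, RingHom.ext fun r => ?_⟩
    have e0 : e (MvPolynomial.C r) = MvPolynomial.C (MvPolynomial.C r) := by
      change Groth.L10.RelPC.doubleEquiv Γ(Z, V) l n (algebraMap _ _ r) = _
      rw [AlgEquiv.commutes]
      rw [IsScalarTower.algebraMap_apply Γ(Z, V) (MvPolynomial (Fin n) Γ(Z, V))]
      rfl
    change β (σ (e (MvPolynomial.C r))) = _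
    rw [e0]
    simp only [σ, MvPolynomial.map_C]
    rw [show β (MvPolynomial.C (α (MvPolynomial.C r))) = (f.appLE W U hle).hom (α (MvPolynomial.C r)) from
      RingHom.congr_fun hβ.2 _, show α (MvPolynomial.C r) = (g.appLE V W hWV).hom r from RingHom.congr_fun hα.2 r]
    exact ConcreteCategory.congr_hom (Scheme.Hom.appLE_comp_appLE f g V W U hWV hle) r
  exact good_of_chart f hU hβ
    (cp_of_comp hU β hβ.1 σ' hσs hσ le_rfl rfl (good_of_rel hE hU hV hUV hUV _ _ hψ))

end Groth.L10.PushBounded
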