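import Groth.Agent.L10.RelPC.PushCoh
import Groth.Agent.L29.RelPC.Main
import Groth.Agent.L29.DCoh.RpushRestrict

/-!
Proper direct images over a locally Noetherian base preserve relative pseudo-coherence.
-/

set_option autoImplicit false
set_option linter.style.haveILetI false
set_option backward.defeqAttrib.useBackward true
set_option backward.isDefEq.respectTransparency false
set_option backward.isDefEq.respectTransparency.types false

universe u

open CategoryTheory CategoryTheory.Limits AlgebraicGeometry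

attribute [local instance] HasDerivedCategory.standard

namespace Groth.L10.RelPC.PushRel

open Groth.L29.DC

variable {X Y S : Scheme.{u}}

/-- coherent cohomology, bounded above on affine opens: relatively pseudo-coherent -/
theorem relAll_of_coh [IsLocallyNoetherian S] (q : Y ⟶ S) [LocallyOfFiniteType q] (K : DCoh.D Y)
    (h : ∀ U : Y.Opens, IsAffineOpen U → (∀ i : ℤ, Coh.IsCoh ((DCoh.HD K i).restrict U.ι)) ∧
      ∃ N : ℤ, ∀ i : ℤ, N < i → IsZero ((DCoh.HD K i).restrict U.ι)) :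
    DerSch.IsPseudoCoherentRelAll q K := fun m => by
  refine ⟨inferInstance, Set.univ, ?_, fun V _ => ⟨{U | (U : Y.Opens) ≤ q ⁻¹ᵁ V}, ?_, fun U _ hUV => ?_⟩⟩
  · refine top_unique fun x _ => ?_
    obtain ⟨_, ⟨V, hV, rfl⟩, hxV, -⟩ := S.isBasis_affineOpens.exists_subset_of_mem_open (Set.mem_univ x) isOpen_univ
    exact TopologicalSpace.Opens.mem_iSup.2 ⟨⟨V, hV⟩, TopologicalSpace.Opens.mem_iSup.2 ⟨trivial, hxV⟩⟩
  · refine le_antisymm (iSup₂_le fun U hU => hU) fun x hx => ?_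
    obtain ⟨_, ⟨U, hU, rfl⟩, hxU, hsub⟩ := Y.isBasis_affineOpens.exists_subset_of_mem_open hx (q ⁻¹ᵁ (V : S.Opens)).2
    exact TopologicalSpace.Opens.mem_iSup.2 ⟨⟨U, hU⟩, TopologicalSpace.Opens.mem_iSup.2 ⟨hsub, hxU⟩⟩
  · obtain ⟨n, φ, hφ⟩ := Groth.L29.RelPC.exists_isChart q U.2 V.2 hUV
    refine ⟨n, φ, hφ, fun G ⟨eG⟩ => ?_⟩
    haveI := Groth.L29.KSix.isClosedImmersion_chartImm U.2 hφ.1
    haveI : IsNoetherianRing Γ(S, (V : S.Opens)) := IsLocallyNoetherian.component_noetherian V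
    haveI : IsLocallyNoetherian (U : Scheme.{u}) :=
      LocallyOfFiniteType.isLocallyNoetherian ((U : Y.Opens).ι ≫ q)
    obtain ⟨hc, N, hN⟩ := h U U.2
    let W := DCoh.toD _ ((DerSch.pushCx (DerSch.chartImm (U : Y.Opens) φ)).obj ((DCoh.restrictCx (U : Y.Opens)).obj G))
    have hcoh : ∀ i, Coh.IsCoh (DCoh.HD W i) := fun i => by
      obtain ⟨a⟩ := Groth.L29.KSix.nonempty_HD_push (φ := φ) G eG i
      exact Groth.L16.CohSupport.isCoh_of_iso a.symm (Groth.L16.CohClosedPush.isCoh_push _ (hc i))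
    haveI : W.IsLE N := (DerivedCategory.isLE_iff _ _).2 fun i hi => by
      obtain ⟨a⟩ := Groth.L29.KSix.nonempty_HD_push (φ := φ) G eG i
      haveI := Groth.L17.PushQCoh.additive_push (DerSch.chartImm (U : Y.Opens) φ)
      exact ((Scheme.Modules.pushforward _).map_isZero (hN i hi)).of_iso a
    exact PCNoeth.pc_of_coh (fun i => (hcoh i).1) m N fun i _ => hcoh i

/-- bounded above on quasi-compact opens -/
theorem exists_isLE_restrict {f : X ⟶ Y} (E : DCoh.D X) (hE : DerSch.IsPseudoCoherentRelAll f E)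
    (W : X.Opens) (hW : IsCompact (W : Set X)) : ∃ N : ℤ, ((DCoh.restrictD W.ι).obj E).IsLE N := by
  choose V U n φ hx hU hφ h using fun x : X => Groth.L29.KSix.exists_chart (hE 0) x
  choose b hb using fun x : X => Groth.L29.KSix.exists_isZero_of_chartPC (hU x) (hφ x) (h x)
  obtain ⟨t, ht⟩ := hW.elim_finite_subcover (fun x : X => (U x : Set X)) (fun x => (U x).isOpen)
    (fun x _ => Set.mem_iUnion.2 ⟨x, hx x⟩)
  obtain ⟨N, hN⟩ := Finset.bddAbove (t.image b)
  refine ⟨N, (DerivedCategory.isLE_iff _ _).2 fun i hi => ?_⟩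
  refine IsZero.of_iso ?_ (HDResIso W.ι E i)
  let J := {x : X // x ∈ t}
  let jc : ∀ x : J, ((W.ι ⁻¹ᵁ U x.1 : (W : Scheme.{u}).Opens) : Scheme.{u}) ⟶ W := fun x => (W.ι ⁻¹ᵁ U x.1).ι
  refine Groth.L21.Mod.isZero_of_restrict jc (fun w => ?_) _ fun x => ?_
  · obtain ⟨x, hxt, hxw⟩ := Set.mem_iUnion₂.1 (ht (show W.ι w ∈ (W : Set X) from w.2))
    exact ⟨⟨x, hxt⟩, ⟨w, hxw⟩, rfl⟩
  · let k := W.ι ∣_ (U x.1)
    haveI : IsOpenImmersion k := inferInstance
    have hw : k ≫ (U x.1).ι = jc x ≫ W.ι := morphismRestrict_ι _ _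
    refine IsZero.of_iso ((Scheme.Modules.restrictFunctor k).map_isZero
      (hb x.1 i ((hN (Finset.mem_image_of_mem b x.2)).trans hi.le))) ?_
    exact (resTrans W.ι (jc x) (jc x ≫ W.ι) rfl).app _ ≪≫
      ((resTrans (U x.1).ι k (jc x ≫ W.ι) hw).app _).symm

/-- proper direct images -/
theorem relAll_Rpush [IsLocallyNoetherian S] (q : Y ⟶ S) [LocallyOfFiniteType q] (f : X ⟶ Y) [IsProper f]
    [DCoh.HasRpush f] (E : DCoh.D X) (a : ℤ) [E.IsGE a] (hE : DerSch.IsPseudoCoherentRelAll (f ≫ q) E) :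
    DerSch.IsPseudoCoherentRelAll q ((DCoh.Rpush f).obj E) := by
  have hc := PushCoh.isCohD_of_relAll (f ≫ q) E hE
  haveI : IsLocallyNoetherian Y := LocallyOfFiniteType.isLocallyNoetherian q
  refine relAll_of_coh q _ fun U hU => ?_
  let ι := (f ⁻¹ᵁ U).ι
  let g := f ∣_ U
  haveI : IsAffine (U : Scheme.{u}) := hU
  haveI : IsNoetherian (U : Scheme.{u}) := { }
  haveI : IsProper g := IsZariskiLocalAtTarget.restrict ‹IsProper f› U
  haveI := RpushQC.hasRpush g
  haveI := Groth.L17.PushQCoh.hasInjectiveResolutions (f ⁻¹ᵁ U : Scheme.{u})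
  haveI : IsLocallyNoetherian (f ⁻¹ᵁ U : Scheme.{u}) := LocallyOfFiniteType.isLocallyNoetherian g
  let E' := (DCoh.restrictD ι).obj E
  have hc' : DCoh.IsCohD E' := fun i =>
    Groth.L16.CohSupport.isCoh_of_iso (HDResIso ι E i).symm (RHomC.isCoh_restrict ι (hc i))
  haveI : E'.IsGE a := (DerivedCategory.isGE_iff _ _).2 fun i hi =>
    ((Scheme.Modules.restrictFunctor ι).map_isZero (DerivedCategory.isZero_of_isGE E a i hi)).of_iso (HDResIso ι E i)
  obtain ⟨b, hb⟩ := exists_isLE_restrict E hE (f ⁻¹ᵁ U) (f.isCompact_preimage hU.isCompact)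
  have hcoh : DCoh.IsCohD ((DCoh.Rpush g).obj E') := RpushCoh.isCohD_Rpush g E' a hc' fun i =>
    Groth.L16.HomSh.isProperOver_mono g (Z := Set.univ) ⟨isClosed_univ, inferInstance⟩
      (Groth.L16.CohSupport.isClosed_support _ (hc' i).2) (Set.subset_univ _)
  obtain ⟨N, hN⟩ := RpushQC.exists_bound g
  have hN' : ∀ M : (f ⁻¹ᵁ U : Scheme.{u}).Modules, Coh.IsQCoh M → ∀ i : ℤ, (N : ℤ) < i →
      IsZero (DCoh.HD ((DCoh.Rpush g).obj (DCoh.inD _ M)) i) := fun M hM i hi =>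
    RpushQC.isZero_HD_Rpush g N hN _ (PushCoh.isQCohD_inD M hM) inferInstance i hi.le
  haveI hLE : ((DCoh.restrictD ι ⋙ DCoh.Rpush g).obj E).IsLE (b + N) :=
    RpushBound.isLE_Rpush g N hN' E' (fun i => (hc' i).1) b hb
  obtain ⟨eV⟩ := RpushRes.nonempty_iso f U.ι ι g
    (by rw [Scheme.Opens.opensRange_ι, Scheme.Opens.opensRange_ι]) (morphismRestrict_ι f U)
  let e := fun i : ℤ => (HDResIso U.ι ((DCoh.Rpush f).obj E) i).symm ≪≫
    (DerivedCategory.homologyFunctor _ i).mapIso (eV.app E)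
  exact ⟨fun i => Groth.L16.CohSupport.isCoh_of_iso (e i).symm (hcoh i),
    b + N, fun i hi => (DerivedCategory.isZero_of_isLE _ (b + N) i hi).of_iso (e i)⟩

end Groth.L10.RelPC.PushRel
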