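import Groth.Agent.L10.RelPC.MixedAmp
import Groth.Agent.L29.DCoh.PushPerfect

/-!
The global tor amplitude test from the stalkwise one.
-/

set_option autoImplicit false
set_option linter.style.haveILetI false
set_option backward.isDefEq.respectTransparency false
set_option backward.isDefEq.respectTransparency.types false
set_option backward.defeqAttrib.useBackward true

universe u

open CategoryTheory CategoryTheory.Limits AlgebraicGeometry

attribute [local instance] HasDerivedCategory.standard

namespace Groth.L10.RelPC.TorTestGlobal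

open Groth.L00 Groth.L29.DC

attribute [local instance high] DCoh.additive_restrictFunctor

variable {X S : Scheme.{u}} (f : X ⟶ S)

open Groth.L10.AmpTest Groth.L10.LocalAmp MonoidalCategory in
/-- `f^*K ⊗ F` vanishes outside the amplitude -/
theorem isZero_outside {a b : ℤ} {F : CochainComplex X.Modules ℤ} (hF : DerSch.HasTorAmplitude f a b F)
    (K : CochainComplex S.Modules ℤ) (hK : DCoh.IsKFlat K) (hh : ∀ q, q ≠ 0 → IsZero (K.homology q)) (i : ℤ)
    (hi : i < a ∨ b < i) :
    IsZero (((DCoh.tensorCx.obj ((PullTensor.pullCx f).obj K)).obj F).homology i) := by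
  rw [Stk.acyclic_iff]
  intro x
  let φ : S.presheaf.stalk (f x) →+* X.presheaf.stalk x := PullStalk.φ f x
  let Ky := (Stk.S S (f x)).obj K
  have hKy : DRing.IsKFlat (S.presheaf.stalk (f x)) Ky := fun L hL j =>
    (Groth.L00.KFlat.stalk_KF K hK (f x) L hL j).of_iso
      ((HomologicalComplex.homologyFunctor _ _ j).mapIso (_root_.DTen.braidCx L _))
  obtain ⟨N, ⟨eN⟩⟩ := exists_single Ky fun q hq => (Stk.acyclic_iff K q).1 (hh q hq) (f x)
  have h1 := (amp_iff_test _ a b).1 (hF x) N Ky hKy eN i hi
  let e : (Stk.S X x).obj F ⊗ (_root_.DTen.extCx φ).obj Ky ≅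
      (Stk.S X x).obj ((DCoh.tensorCx.obj ((PullTensor.pullCx f).obj K)).obj F) :=
    whiskerLeftIso _ (Groth.L00.KFlat.pullCxIso f K x).symm ≪≫ Stk.tensorCxIso x ((PullTensor.pullCx f).obj K) F
  refine (iso_homology e i).1 ((braid_homology _ _ i).1 ?_)
  exact (KFlatAlg.acyclic_restrictScalars φ _ i).1
    ((iso_homology (BaseChangeTensor.tensorIso φ Ky ((Stk.S X x).obj F)) i).1 ((braid_homology _ _ i).1 h1))

/-- the same over an open of the base -/
theorem isZero_outside_res {a b : ℤ} {F : CochainComplex X.Modules ℤ} (hF : DerSch.HasTorAmplitude f a b F)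
    {X' T : Scheme.{u}} (j : T ⟶ S) [IsOpenImmersion j] (ι : X' ⟶ X) [IsOpenImmersion ι] (g : X' ⟶ T)
    (w : g ≫ j = ι ≫ f) (K : CochainComplex T.Modules ℤ) (hK : DCoh.IsKFlat K)
    (hh : ∀ q, q ≠ 0 → IsZero (K.homology q)) (i : ℤ) (hi : i < a ∨ b < i) :
    IsZero (((DCoh.tensorCx.obj ((PullTensor.pullCx g).obj K)).obj (((Scheme.Modules.restrictFunctor ι).mapHomologicalComplex (ComplexShape.up ℤ)).obj F)).homology i) := by
  haveI := ExtZero.preservesFiniteLimits j
  haveI := (CxOX.extZeroAdj j).leftAdjoint_preservesColimits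
  haveI : (CxOX.extZero j).Additive := (CxOX.extZeroAdj j).left_adjoint_additive
  haveI := ExtZero.preservesFiniteLimits ι
  haveI : (Scheme.Modules.pullback f).Additive :=
    (Scheme.Modules.pullbackPushforwardAdjunction f).left_adjoint_additive
  haveI : (Scheme.Modules.pullback g).Additive :=
    (Scheme.Modules.pullbackPushforwardAdjunction g).left_adjoint_additive
  let K' := (ExtZero.eCx j).obj K
  have h := isZero_outside f hF K' (ExtZero.isKFlat_eCx j hK)
    (fun q hq => ((CxOX.extZero j).map_isZero (hh q hq)).of_iso ((K.sc q).mapHomologyIso (CxOX.extZero j))) i hi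
  let eK : ((Scheme.Modules.restrictFunctor ι).mapHomologicalComplex (ComplexShape.up ℤ)).obj ((PullTensor.pullCx f).obj K') ≅ (PullTensor.pullCx g).obj K :=
    (DerivedApi.mapCxCompIso (Scheme.Modules.pullback f) (Scheme.Modules.restrictFunctor ι)).app K' ≪≫
      (NatIso.mapHomologicalComplex (ProjQis.pullResIso f j ι g w) (ComplexShape.up ℤ)).app K' ≪≫
      ((DerivedApi.mapCxCompIso (Scheme.Modules.restrictFunctor j) (Scheme.Modules.pullback g)).app K').symm ≪≫
      (PullTensor.pullCx g).mapIso (asIso ((ExtZero.adjCx j).unit.app K)).symm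
  let T₀ := (DCoh.tensorCx.obj ((PullTensor.pullCx f).obj K')).obj F
  let eR := restrictTensorCxIso ι ((PullTensor.pullCx f).obj K') F
  refine IsZero.of_iso ?_ ((HomologicalComplex.homologyFunctor _ _ i).mapIso
    ((DCoh.tensorCx.mapIso eK.symm).app (((Scheme.Modules.restrictFunctor ι).mapHomologicalComplex (ComplexShape.up ℤ)).obj F) ≪≫ eR))
  exact ((Scheme.Modules.restrictFunctor ι).map_isZero h).of_iso
    ((T₀.sc i).mapHomologyIso (Scheme.Modules.restrictFunctor ι))

/-- the derived form -/
theorem isZero_HD {a b : ℤ} {F : CochainComplex X.Modules ℤ} (hF : DerSch.HasTorAmplitude f a b F)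
    {X' T : Scheme.{u}} (j : T ⟶ S) [IsOpenImmersion j] (ι : X' ⟶ X) [IsOpenImmersion ι] (g : X' ⟶ T)
    (w : g ≫ j = ι ≫ f) (M : T.Modules) [DCoh.HasLpull g]
    (G : CochainComplex X'.Modules ℤ) (hG : G = ((Scheme.Modules.restrictFunctor ι).mapHomologicalComplex (ComplexShape.up ℤ)).obj F)
    [DCoh.HasLTensorCx G] (i : ℤ) (hi : i < a ∨ b < i) :
    IsZero (DCoh.HD ((DCoh.LTensorCx G).obj ((DCoh.Lpull g).obj (DCoh.inD T M))) i) := by
  subst hG
  let s := (HomologicalComplex.single T.Modules (ComplexShape.up ℤ) 0).obj M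
  obtain ⟨P, q, hP, -, hq, -⟩ := Groth.L00.KFlat.exists_resolution s
  haveI := hq
  have hh : ∀ k, k ≠ 0 → IsZero (P.homology k) := fun k hk =>
    ((HomologicalComplex.exactAt_iff_isZero_homology _ k).1 (HomologicalComplex.ExactAt.of_isZero
      (HomologicalComplex.isZero_single_obj_X _ _ _ _ hk))).of_iso (asIso (HomologicalComplex.homologyMap q k))
  haveI := (DerivedCategory.isIso_Q_map_iff_quasiIso _ q).2 hq
  obtain ⟨eT⟩ := nonempty_LTensorCx_iso (((Scheme.Modules.restrictFunctor ι).mapHomologicalComplex (ComplexShape.up ℤ)).obj F) ((PullTensor.pullCx g).obj P)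
    (Groth.L00.KFlat.pullback_kflat g P hP)
  let eM : DCoh.toD T P ≅ DCoh.inD T M := asIso (DerivedCategory.Q.map q) ≪≫
    ((DerivedCategory.singleFunctorIsoCompQ T.Modules 0).app M).symm
  let e := (DCoh.LTensorCx (((Scheme.Modules.restrictFunctor ι).mapHomologicalComplex (ComplexShape.up ℤ)).obj F)).mapIso ((DCoh.Lpull g).mapIso eM.symm ≪≫
    DerivedApi.objIso (DerivedApi.acyclicKFlat_pullback g) P hP) ≪≫ eT
  exact (isZero_outside_res f hF j ι g w P hP hh i hi).of_iso
    ((DerivedCategory.homologyFunctor X'.Modules i).mapIso e ≪≫ (DerivedCategory.homologyFunctorFactors _ i).app _)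

end Groth.L10.RelPC.TorTestGlobal
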