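import Groth.Agent.L10.RelPC.RpushBound
import Groth.Agent.L10.RelPC.TorTestGlobal
import Groth.Agent.L10.RelPC.TensorPullMax
import Groth.Agent.L29.BC.ProjQC
import Groth.Agent.L29.DCoh.PushPerfect
import Groth.Agent.L29.DCoh.QCohLocal
import Groth.Agent.Lead.TildeAmp
import Groth.Agent.Lead.RelFinTor

/-!
Tor amplitude of direct images of complexes with quasi-coherent cohomology.
-/

set_option autoImplicit false
set_option linter.style.haveILetI false
set_option backward.defeqAttrib.useBackward true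
set_option backward.isDefEq.respectTransparency false
set_option backward.isDefEq.respectTransparency.types false

universe u

open CategoryTheory CategoryTheory.Limits AlgebraicGeometry MonoidalCategory

attribute [local instance] HasDerivedCategory.standard

namespace Groth.L10.RelPC.RpushAmp

open Groth.L10.AmpTest

section Ring

variable {A B : Type u} [CommRing A] [CommRing B]

/-- for complexes bounded above only the lower vanishing has to be tested, on one resolution of each module -/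
theorem amp_of_lower_test (X : DRing.Cx A) (a b : ℤ) (hX : ∀ i, b < i → IsZero (X.homology i))
    (h : ∀ (N : ModuleCat.{u} A), ∃ P : DRing.Cx A, DRing.IsKFlat A P ∧
      Nonempty (DRing.toD P ≅ DRing.toD ((HomologicalComplex.single (ModuleCat.{u} A) (ComplexShape.up ℤ) 0).obj N)) ∧
        ∀ i : ℤ, i < a → IsZero ((X ⊗ P).homology i)) :
    DRing.HasTorAmplitudeIn A a b (DRing.toD X) := by
  obtain ⟨Q, hQb, hQf, -, ⟨eQ⟩⟩ := Groth.L02.PC.exists_free_rep (K := DRing.toD X) (n := b)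
    fun i hi => (Groth.L02.PC.isZero_HH_Q_iff X i).2 (hX i hi)
  have hQ := Groth.L10.DR.flat_of_free hQf
  refine (Groth.L10.DR.amp_iff eQ hQb hQ a b).2 ⟨fun i hi N => ?_, fun i hi =>
    (Groth.L02.PC.isZero_HH_Q_iff X i).2 (hX i hi)⟩
  obtain ⟨P, hP, ⟨eP⟩, hz⟩ := h N
  exact (isZero_tensor_module (Groth.L10.KFlat.of_bounded Q b hQb hQ) hP eP eQ.symm i).1 (hz i hi)

end Ring

open Groth.L00 Groth.L29.DC Groth.L29.RelPC

variable {X Y S : Scheme.{u}}

/-- restriction along a flat ring map -/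
theorem amp_res_flat {A T C : Type u} [CommRing A] [CommRing T] [CommRing C] (φ : A →+* T) (hφ : φ.Flat)
    (ψ : T →+* C) (χ : A →+* C) (hχ : χ = ψ.comp φ) (G : DRing.Cx C) {a b : ℤ}
    (h : DRing.HasTorAmplitudeIn T a b (DRing.toD ((_root_.DTen.resCx ψ).obj G))) :
    DRing.HasTorAmplitudeIn A a b (DRing.toD ((_root_.DTen.resCx χ).obj G)) := by
  obtain ⟨E, hEv, hE, ⟨e⟩⟩ := h
  letI : Algebra A T := φ.toAlgebra
  haveI : Module.Flat A T := hφ
  exact ⟨Groth.L20.TorAmp.res E, fun i hi => Functor.map_isZero (ModuleCat.restrictScalars.{u} _) (hEv i hi),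
    fun i => (haveI := hE i; Groth.L20.TorAmp.flat_restrict (E.X i)),
    ⟨(Groth.L20.TorAmp.resIso E).symm ≪≫ (DRing.restrictD _).mapIso e ≪≫ Groth.L20.TorAmp.resIso _ ≪≫
      DerivedCategory.Q.mapIso (Groth.L10.LocalAmp.resComp φ ψ χ hχ G).symm⟩⟩

/-- amplitude over an open subscheme of the base is amplitude over the base -/
theorem ampAt_comp_open {T : Scheme.{u}} (g : X ⟶ T) (j : T ⟶ S) [IsOpenImmersion j]
    (G : CochainComplex X.Modules ℤ) (x : X) {a b : ℤ} (h : DerSch.HasTorAmplitudeAt g a b G x) :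
    DerSch.HasTorAmplitudeAt (g ≫ j) a b G x :=
  amp_res_flat (j.stalkMap (g x)).hom (Flat.stalkMap j (g x)) (g.stalkMap x).hom ((g ≫ j).stalkMap x).hom
    (congrArg CommRingCat.Hom.hom (Scheme.Hom.stalkMap_comp g j x)) ((Stk.S X x).obj G) h

variable (f : X ⟶ Y) (q : Y ⟶ S) [QuasiCompact f] [QuasiSeparated f]

set_option maxHeartbeats 1600000 in
/-- `Rf_* F` has the lower amplitude of `F` and the upper one of its cohomology -/
theorem ampAt_Rpush [DCoh.HasRpush f] (F : CochainComplex X.Modules ℤ) (hqc : DCoh.IsQCohD (DCoh.toD X F))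
    {a b B : ℤ} (hF : DerSch.HasTorAmplitude (f ≫ q) a b F) (R : CochainComplex Y.Modules ℤ)
    (eR : DCoh.toD Y R ≅ (DCoh.Rpush f).obj (DCoh.toD X F)) (y : Y)
    (hB : ∃ U : Y.Opens, y ∈ U ∧ ∀ i, B < i →
      IsZero ((Scheme.Modules.restrictFunctor U.ι).obj (DCoh.HD ((DCoh.Rpush f).obj (DCoh.toD X F)) i))) :
    DerSch.HasTorAmplitudeAt q a B R y := by
  obtain ⟨U₀, hyU₀, hU₀⟩ := hB
  obtain ⟨_, ⟨W, hW, rfl⟩, hsW, -⟩ := S.isBasis_affineOpens.exists_subset_of_mem_open (Set.mem_univ (q y)) isOpen_univ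
  obtain ⟨_, ⟨V, hV, rfl⟩, hyV, hle⟩ := Y.isBasis_affineOpens.exists_subset_of_mem_open
    (show y ∈ q ⁻¹ᵁ W ⊓ U₀ from ⟨hsW, hyU₀⟩) (q ⁻¹ᵁ W ⊓ U₀).isOpen
  have hVW : V ≤ q ⁻¹ᵁ W := hle.trans inf_le_left
  have hVU : V ≤ U₀ := hle.trans inf_le_right
  let φ := q.appLE W V hVW
  letI : Algebra Γ(S, W) Γ(Y, V) := φ.hom.toAlgebra
  let π := Spec.map φ
  have wπ : π ≫ hW.fromSpec = hV.fromSpec ≫ q := IsAffineOpen.SpecMap_appLE_fromSpec q hW hV hVW
  let g := (f ∣_ V) ≫ hV.isoSpec.hom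
  let ι := (f ⁻¹ᵁ V).ι
  have w₁ : g ≫ hV.fromSpec = ι ≫ f := by
    simp [g, ι, IsAffineOpen.isoSpec_hom_fromSpec, morphismRestrict_ι]
  have w₂ : (g ≫ π) ≫ hW.fromSpec = ι ≫ (f ≫ q) := by
    rw [Category.assoc, wπ, ← Category.assoc, w₁, Category.assoc]
  haveI := RpushQC.hasRpush g
  haveI := Groth.L17.PushQCoh.hasInjectiveResolutions (f ⁻¹ᵁ V : Scheme.{u})
  haveI := Groth.L18.TildeF.tilde_preservesFiniteLimits (R := Γ(Y, V))
  haveI := Groth.L18.TildeF.tilde_preservesFiniteLimits (R := Γ(S, W))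
  obtain ⟨eV⟩ := RpushRes.nonempty_iso f hV.fromSpec ι g
    (by rw [hV.opensRange_fromSpec, Scheme.Opens.opensRange_ι]) w₁
  let F' := (ExtZero.rCx ι).obj F
  let eF : (DCoh.restrictD ι).obj (DCoh.toD X F) ≅ DCoh.toD _ F' :=
    (Scheme.Modules.restrictFunctor ι).mapDerivedCategoryFactors.app F
  have hF' : DCoh.IsQCohD (DCoh.toD _ F') := isQCohD_of_iso eF (isQCohD_restrictD ι hqc)
  obtain ⟨K₀, ⟨e₀⟩⟩ := (TildeD.isQCohD_iff _).1 (RpushQC.isQCohD_Rpush_of_compact g _ hF')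
  let K := DerivedCategory.Q.objPreimage K₀
  let eM : DCoh.toD _ ((TildeAlg.tC (R := Γ(Y, V))).obj K) ≅ (DCoh.Rpush g).obj (DCoh.toD _ F') :=
    (TildeAlg.qIso K).symm ≪≫ (DCoh.tildeD Γ(Y, V)).mapIso (DerivedCategory.Q.objObjPreimageIso K₀) ≪≫ e₀
  let eL : DCoh.toD _ ((TildeAlg.tC (R := Γ(Y, V))).obj K) ≅ (DCoh.restrictD hV.fromSpec).obj (DCoh.toD Y R) :=
    eM ≪≫ (DCoh.Rpush g).mapIso eF.symm ≪≫ (eV.app _).symm ≪≫ (DCoh.restrictD hV.fromSpec).mapIso eR.symm
  have hKB : ∀ i, B < i → IsZero (K.homology i) := fun i hi => by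
    obtain ⟨h1⟩ := TensorPullMax.isLE_map (Scheme.Modules.restrictFunctor hV.fromSpec) ((DCoh.Rpush f).obj (DCoh.toD X F)) i
    obtain ⟨h2⟩ := TensorPullMax.isLE_map (tilde.functor Γ(Y, V)) (DRing.toD K) i
    refine (Groth.L02.PC.isZero_HH_Q_iff K i).1 (IsZero.of_full_of_faithful_of_isZero (tilde.functor Γ(Y, V)) _
      (IsZero.of_iso ?_ (h2.symm ≪≫ (DerivedCategory.homologyFunctor _ i).mapIso (TildeAlg.qIso K ≪≫ eL ≪≫
        (DCoh.restrictD hV.fromSpec).mapIso eR) ≪≫ h1)))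
    have h3 : hV.fromSpec.opensRange ≤ U₀.ι.opensRange := by
      rw [hV.opensRange_fromSpec, Scheme.Opens.opensRange_ι]; exact hVU
    let j₀ := IsOpenImmersion.lift U₀.ι hV.fromSpec h3
    exact ((Scheme.Modules.restrictFunctor j₀).map_isZero (hU₀ i hi)).of_iso
      (((Scheme.Modules.restrictFunctorComp j₀ U₀.ι).symm ≪≫
        Scheme.Modules.restrictFunctorCongr (IsOpenImmersion.lift_fac U₀.ι hV.fromSpec h3)).app _).symm
  have hamp : DRing.HasTorAmplitudeIn Γ(S, W) a B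
      (DRing.toD ((_root_.DTen.resCx (algebraMap Γ(S, W) Γ(Y, V))).obj K)) := by
    refine amp_of_lower_test _ a B (fun i hi =>
      (KFlatAlg.acyclic_restrictScalars (algebraMap Γ(S, W) Γ(Y, V)) K i).2 (hKB i hi)) fun N => ?_
    let s := (HomologicalComplex.single (ModuleCat.{u} Γ(S, W)) (ComplexShape.up ℤ) 0).obj N
    obtain ⟨P, hPb, hPf, -, ⟨eP⟩⟩ := Groth.L02.PC.exists_free_rep (K := DRing.toD s) (n := 0) fun i hi =>
      (Groth.L02.PC.isZero_HH_Q_iff s i).2 (isZero_homology_of_X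
        (HomologicalComplex.isZero_single_obj_X _ _ _ _ (by omega)))
    have hPfl := Groth.L10.DR.flat_of_free hPf
    refine ⟨P, Groth.L10.KFlat.of_bounded P 0 hPb hPfl, ⟨eP⟩, fun i hi => ?_⟩
    refine (Groth.L10.LocalAmp.test_iff P K i).2 ((braid_homology _ _ i).1 ?_)
    let Pt := (ModRes.tCx Γ(S, W)).obj P
    have hPt : DCoh.IsKFlat Pt := by
      haveI : CochainComplex.IsStrictlyLE Pt 0 := (CochainComplex.isStrictlyLE_iff _ _).2 fun j hj =>
        (tilde.functor Γ(S, W)).map_isZero (hPb j hj)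
      exact Groth.L00.KFlat.of_bounded _ 0 inferInstance fun j => by
        haveI : Module.Flat Γ(S, W) (P.X j) := hPfl j
        exact ModRes.isFlat_tilde (R := Γ(S, W)) _
    have hPz : ∀ j, j ≠ 0 → IsZero (Pt.homology j) := fun j hj =>
      ((tilde.functor Γ(S, W)).map_isZero (Groth.L10.LocalAmp.single_homology eP j hj)).of_iso
        ((P.sc j).mapHomologyIso (tilde.functor Γ(S, W)))
    let M' := (ModRes.tCx Γ(Y, V)).obj ((ModRes.eCx φ).obj P)
    have hM' : DCoh.IsKFlat M' := ModRes.isKFlat_extend φ hPt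
    let M := (PullTensor.pullCx g).obj M'
    have hM : DCoh.IsKFlat M := Groth.L00.KFlat.pullback_kflat g M' hM'
    haveI := Groth.L00.KFlat.hasLTensorCx M'
    haveI := Groth.L00.KFlat.hasLTensorCx M
    haveI := Groth.L00.KFlat.hasLpull g
    haveI : DCoh.HasLpull π := Groth.L00.KFlat.hasLpull π
    have hM'q : DCoh.IsQCohD (DCoh.toD _ M') :=
      isQCohD_of_iso (TildeAlg.qIso ((ModRes.eCx φ).obj P)) ((TildeD.isQCohD_iff _).2 ⟨_, ⟨Iso.refl _⟩⟩)
    obtain ⟨eD⟩ := Groth.L29.BC.ProjQC.nonempty_projection g (DCoh.toD _ F') hF' M' hM'q M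
      ⟨(DerivedApi.objIso (DerivedApi.acyclicKFlat_pullback g) M' hM').symm⟩
    let T := (DCoh.tensorCx.obj F').obj M
    let eT : (DCoh.LTensorCx M).obj (DCoh.toD _ F') ≅ DCoh.toD _ T := (Assoc.allIso M hM).app F'
    have hTge : (DCoh.toD _ T).IsGE a := (DerivedCategory.isGE_iff _ a).2 fun k hk => by
      refine IsZero.of_iso ?_ ((DerivedCategory.homologyFunctorFactors _ k).app T)
      let ec : (PullTensor.pullCx (g ≫ π)).obj Pt ≅ M :=
        ((NatIso.mapHomologicalComplex (Scheme.Modules.pullbackComp g π) (ComplexShape.up ℤ)).app Pt).symm ≪≫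
          ((DerivedApi.mapCxCompIso (Scheme.Modules.pullback π) (Scheme.Modules.pullback g)).app Pt).symm ≪≫
          (PullTensor.pullCx g).mapIso ((ModRes.pullTildeCx φ).app P)
      exact (TorTestGlobal.isZero_outside_res (f ≫ q) hF hW.fromSpec ι (g ≫ π) w₂ Pt hPt hPz k (Or.inl hk)).of_iso
        ((HomologicalComplex.homologyFunctor _ _ k).mapIso ((Groth.L00.KFlat.commIso M F') ≪≫
          (DCoh.tensorCx.mapIso ec.symm).app F'))
    haveI := hTge
    haveI := DerivedCategory.TStructure.t.isGE_of_iso eT.symm a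
    haveI := RpushQC.isGE_Rpush g ((DCoh.LTensorCx M).obj (DCoh.toD _ F')) a
    refine TildeAlg.isZero_of_isZero_tilde (IsZero.of_iso ?_
      (((HomologicalComplex.tensorObj K ((ModRes.eCx φ).obj P)).sc i).mapHomologyIso (tilde.functor Γ(Y, V))).symm)
    refine IsZero.of_iso ?_ (((DerivedCategory.homologyFunctorFactors _ i).app
      ((TildeAlg.tC (R := Γ(Y, V))).obj (HomologicalComplex.tensorObj K ((ModRes.eCx φ).obj P)))).symm ≪≫
      (DerivedCategory.homologyFunctor _ i).mapIso ((DerivedCategory.Q.mapIso (tildeTensorCxIso K ((ModRes.eCx φ).obj P))).symm ≪≫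
        ((Assoc.allIso M' hM').app _).symm ≪≫ (DCoh.LTensorCx M').mapIso eM ≪≫ eD))
    exact DerivedCategory.isZero_of_isGE _ a i hi
  -- back to the point
  obtain ⟨v, hv⟩ : y ∈ Set.range hV.fromSpec := by rw [hV.range_fromSpec]; exact hyV
  have h := (Groth.Lead.TildeAmp.hasTorAmplitude_iff φ.hom K ((TildeAlg.tC (R := Γ(Y, V))).obj K)
    (TildeAlg.qIso K).symm a B).2 (Groth.L10.DR.amp_of_iso (Groth.L20.TorAmp.resIso (A := Γ(S, W)) K).symm hamp) v
  have h' := ampAt_comp_open π hW.fromSpec _ v h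
  rw [wπ] at h'
  rw [← hv]
  exact (Groth.Lead.SmoothStalk.amp_restrict_iff q hV.fromSpec v R a B).1
    (Groth.Lead.RelFinTor.amp_congr (hV.fromSpec ≫ q)
      (eL ≪≫ (Scheme.Modules.restrictFunctor hV.fromSpec).mapDerivedCategoryFactors.app R) v a B h')

end Groth.L10.RelPC.RpushAmp
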