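import Groth.Agent.L10.RelPC.TorIndepBC
import Groth.Agent.L29.DCoh.EvalPerf
import Groth.Agent.L29.DCoh.ProjQis
import Groth.Agent.S6187
import Mathlib.CategoryTheory.Limits.Shapes.Pullback.IsPullback.Basic

/-!
Products of morphisms over a base, the second factor flat.
-/

set_option autoImplicit false
set_option linter.style.haveILetI false
set_option backward.isDefEq.respectTransparency false
set_option backward.isDefEq.respectTransparency.types false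
set_option backward.defeqAttrib.useBackward true

universe u

open CategoryTheory CategoryTheory.Limits AlgebraicGeometry

attribute [local instance] HasDerivedCategory.standard

namespace Groth.L10.RelPC.TorExternal

open Groth.L00 Groth.L29.DC

variable {S X₁ Y₁ X₂ Y₂ X Y : Scheme.{u}}

/-- the fibre product map factors as a flat base change of the first factor and a base change of the second -/
theorem exists_factor {f₁ : X₁ ⟶ Y₁} {q₁ : Y₁ ⟶ S} {f₂ : X₂ ⟶ Y₂} {q₂ : Y₂ ⟶ S}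
    {pX₁ : X ⟶ X₁} {pX₂ : X ⟶ X₂} (hX : IsPullback pX₁ pX₂ (f₁ ≫ q₁) (f₂ ≫ q₂))
    {pY₁ : Y ⟶ Y₁} {pY₂ : Y ⟶ Y₂} (hY : IsPullback pY₁ pY₂ q₁ q₂)
    {f : X ⟶ Y} (hf₁ : f ≫ pY₁ = pX₁ ≫ f₁) (hf₂ : f ≫ pY₂ = pX₂ ≫ f₂) :
    ∃ (Z : Scheme.{u}) (u : X ⟶ Z) (v : Z ⟶ Y) (π₁ : Z ⟶ Y₁) (π₂ : Z ⟶ X₂),
      IsPullback π₁ π₂ q₁ (f₂ ≫ q₂) ∧ IsPullback pX₁ u f₁ π₁ ∧ IsPullback π₂ v f₂ pY₂ ∧ u ≫ π₂ = pX₂ ∧ u ≫ v = f := by
  let Z := pullback q₁ (f₂ ≫ q₂)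
  let π₁ : Z ⟶ Y₁ := pullback.fst _ _
  let π₂ : Z ⟶ X₂ := pullback.snd _ _
  have hZ : IsPullback π₁ π₂ q₁ (f₂ ≫ q₂) := IsPullback.of_hasPullback _ _
  let v : Z ⟶ Y := hY.lift π₁ (π₂ ≫ f₂) (by rw [hZ.w, Category.assoc])
  let w : X ⟶ Z := hZ.lift (pX₁ ≫ f₁) pX₂ (by rw [Category.assoc, hX.w])
  have hw₁ : w ≫ π₁ = pX₁ ≫ f₁ := hZ.lift_fst _ _ _
  have hw₂ : w ≫ π₂ = pX₂ := hZ.lift_snd _ _ _
  have hv₁ : v ≫ pY₁ = π₁ := hY.lift_fst _ _ _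
  have hv₂ : v ≫ pY₂ = π₂ ≫ f₂ := hY.lift_snd _ _ _
  refine ⟨Z, w, v, π₁, π₂, hZ, ?_, ?_, hw₂, ?_⟩
  · exact IsPullback.of_bot (hw₂.symm ▸ hX) hw₁.symm hZ
  · have hb : IsPullback π₂ (v ≫ pY₁) (f₂ ≫ q₂) q₁ := by
      rw [hv₁]
      exact hZ.flip
    exact IsPullback.of_bot hb hv₂.symm hY.flip
  · refine hY.hom_ext ?_ ?_
    · rw [Category.assoc, hv₁, hw₁, hf₁]
    · rw [Category.assoc, hv₂, ← Category.assoc, hw₂, hf₂]

/-- pullback of the unit complex -/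
noncomputable def pullUnitIso (g : X ⟶ Y) : (PullTensor.pullCx g).obj (DerSch.unitCx Y) ≅ DerSch.unitCx X :=
  haveI : (Scheme.Modules.pullback g).Additive :=
    (Scheme.Modules.pullbackPushforwardAdjunction g).left_adjoint_additive
  (HomologicalComplex.singleMapHomologicalComplex (Scheme.Modules.pullback g) (ComplexShape.up ℤ) 0).app _ ≪≫
    (HomologicalComplex.single X.Modules (ComplexShape.up ℤ) 0).mapIso (Groth.L29.LocFree.pullbackUnitIso g)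

theorem hasTorDimLE {f₁ : X₁ ⟶ Y₁} {q₁ : Y₁ ⟶ S} {f₂ : X₂ ⟶ Y₂} {q₂ : Y₂ ⟶ S} [Flat q₂] [Flat (f₂ ≫ q₂)]
    {pX₁ : X ⟶ X₁} {pX₂ : X ⟶ X₂} (hX : IsPullback pX₁ pX₂ (f₁ ≫ q₁) (f₂ ≫ q₂))
    {pY₁ : Y ⟶ Y₁} {pY₂ : Y ⟶ Y₂} (hY : IsPullback pY₁ pY₂ q₁ q₂)
    {f : X ⟶ Y} (hf₁ : f ≫ pY₁ = pX₁ ≫ f₁) (hf₂ : f ≫ pY₂ = pX₂ ≫ f₂)
    {n₁ n₂ : ℕ} (h₁ : DerSch.HasTorDimLE f₁ n₁) (h₂ : DerSch.HasTorDimLE f₂ n₂) :
    DerSch.HasTorDimLE f (n₁ + n₂) := by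
  obtain ⟨Z, w, v, π₁, π₂, hZ, hw, hv, -, hf⟩ := exists_factor hX hY hf₁ hf₂
  haveI : Flat π₁ := MorphismProperty.of_isPullback hZ.flip inferInstance
  have hu : DerSch.HasTorDimLE w n₁ := fun x =>
    MixedAmp.torAmpAt_congr w x (DerivedCategory.Q.mapIso (pullUnitIso pX₁))
      (TorFlatBC.torAmpAt_pullCx hw (DerSch.unitCx X₁) x (h₁ _))
  have hk : DCoh.IsKFlat (DerSch.unitCx X₂) := Groth.L00.KFlat.single _ (Groth.L29.DC.isFlat_structureModule X₂) 0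
  have hvd : DerSch.HasTorDimLE v n₂ := fun z =>
    MixedAmp.torAmpAt_congr v z (DerivedCategory.Q.mapIso (pullUnitIso π₂))
      (TorIndepBC.torAmpAt_pullCx hY.flip hv _ hk z (h₂ _))
  intro x
  have := Groth.Agent.S6187.result w v f hf n₂ hvd (DerSch.unitCx X) _ _ hu x
  rwa [show (-((n₁ + n₂ : ℕ) : ℤ)) = -(n₁ : ℤ) - (n₂ : ℤ) by push_cast; ring]

theorem hasTorAmplitudeD_tensor {f₁ : X₁ ⟶ Y₁} {q₁ : Y₁ ⟶ S} {f₂ : X₂ ⟶ Y₂} {q₂ : Y₂ ⟶ S} [Flat q₂] [Flat (f₂ ≫ q₂)]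
    {pX₁ : X ⟶ X₁} {pX₂ : X ⟶ X₂} (hX : IsPullback pX₁ pX₂ (f₁ ≫ q₁) (f₂ ≫ q₂))
    {pY₁ : Y ⟶ Y₁} {pY₂ : Y ⟶ Y₂} (hY : IsPullback pY₁ pY₂ q₁ q₂)
    {f : X ⟶ Y} (hf₁ : f ≫ pY₁ = pX₁ ≫ f₁) (hf₂ : f ≫ pY₂ = pX₂ ≫ f₂)
    {E₁ : CochainComplex X₁.Modules ℤ} {a₁ b₁ : ℤ} (h₁ : DerSch.HasTorAmplitude f₁ a₁ b₁ E₁)
    {E₂ : CochainComplex X₂.Modules ℤ} {a₂ b₂ : ℤ} (h₂ : DerSch.HasTorAmplitude f₂ a₂ b₂ E₂)
    [DCoh.HasLpull pX₁] [DCoh.HasLpull pX₂] (K₂ : CochainComplex X.Modules ℤ) [DCoh.HasLTensorCx K₂]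
    (e₂ : DCoh.toD X K₂ ≅ (DCoh.Lpull pX₂).obj (DCoh.toD X₂ E₂)) :
    DerSch.HasTorAmplitudeD f (a₁ + a₂) (b₁ + b₂)
      ((DCoh.LTensorCx K₂).obj ((DCoh.Lpull pX₁).obj (DCoh.toD X₁ E₁))) := by
  obtain ⟨Z, w, v, π₁, π₂, hZ, hw, hv, hwπ, hf⟩ := exists_factor hX hY hf₁ hf₂
  haveI : Flat π₁ := MorphismProperty.of_isPullback hZ.flip inferInstance
  subst hf
  obtain ⟨P₁, r₁, hP₁, -, hr₁, -⟩ := Groth.L00.KFlat.exists_resolution E₁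
  haveI := (DerivedCategory.isIso_Q_map_iff_quasiIso _ r₁).2 hr₁
  let eP₁ : DCoh.toD X₁ P₁ ≅ DCoh.toD X₁ E₁ := asIso (DerivedCategory.Q.map r₁)
  obtain ⟨P₂, r₂, hP₂, -, hr₂, -⟩ := Groth.L00.KFlat.exists_resolution E₂
  haveI := (DerivedCategory.isIso_Q_map_iff_quasiIso _ r₂).2 hr₂
  let eP₂ : DCoh.toD X₂ P₂ ≅ DCoh.toD X₂ E₂ := asIso (DerivedCategory.Q.map r₂)
  obtain ⟨R, r, hR, -, hr, -⟩ := Groth.L00.KFlat.exists_resolution K₂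
  haveI := hr
  haveI : IsIso (DerivedCategory.Q.map r) := (DerivedCategory.isIso_Q_map_iff_quasiIso _ r).2 hr
  let M₁ := (PullTensor.pullCx pX₁).obj P₁
  let G := (PullTensor.pullCx π₂).obj P₂
  let M₂ := (PullTensor.pullCx w).obj G
  have hM₁ : DCoh.IsKFlat M₁ := Groth.L00.KFlat.pullback_kflat pX₁ P₁ hP₁
  have hG : DCoh.IsKFlat G := Groth.L00.KFlat.pullback_kflat π₂ P₂ hP₂
  have hM₂ : DCoh.IsKFlat M₂ := Groth.L00.KFlat.pullback_kflat w G hG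
  obtain ⟨eT⟩ := nonempty_LTensorCx_iso K₂ M₁ hM₁
  haveI : QuasiIso (((DCoh.tensorCx (X := X)).map r).app M₁) :=
    Groth.L00.KFlat.quasiIso_tensor_of_kflat M₁ hM₁ r
  haveI := (DerivedCategory.isIso_Q_map_iff_quasiIso _ (((DCoh.tensorCx (X := X)).map r).app M₁)).2 inferInstance
  let eM₂ : DCoh.toD X R ≅ DCoh.toD X M₂ :=
    asIso (DerivedCategory.Q.map r) ≪≫ e₂ ≪≫ (DCoh.Lpull pX₂).mapIso eP₂.symm ≪≫
      DerivedApi.objIso (DerivedApi.acyclicKFlat_pullback pX₂) P₂ hP₂ ≪≫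
      DerivedCategory.Q.mapIso ((NatIso.mapHomologicalComplex ((Scheme.Modules.pullbackComp w π₂) ≪≫
        eqToIso (by rw [hwπ])) (ComplexShape.up ℤ)).app P₂).symm ≪≫
      DerivedCategory.Q.mapIso ((DerivedApi.mapCxCompIso (Scheme.Modules.pullback π₂) (Scheme.Modules.pullback w)).app P₂).symm
  obtain ⟨eR⟩ := nonempty_tensor_iso hR hM₂ hM₁ hM₁ eM₂ (Iso.refl _)
  rintro K ⟨eK⟩ x
  refine MixedAmp.torAmpAt_congr (w ≫ v) x (eR.symm ≪≫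
    asIso (DerivedCategory.Q.map (((DCoh.tensorCx (X := X)).map r).app M₁)) ≪≫
    DerivedCategory.Q.mapIso (Groth.L00.KFlat.commIso M₁ K₂) ≪≫ eT.symm ≪≫
    (DCoh.LTensorCx K₂).mapIso ((DerivedApi.objIso (DerivedApi.acyclicKFlat_pullback pX₁) P₁ hP₁).symm ≪≫
      (DCoh.Lpull pX₁).mapIso eP₁) ≪≫ eK.symm) ?_
  exact MixedAmp.torAmpAt_tensor w v G hG M₁ x
    (TorFlatBC.torAmpAt_pullCx hw P₁ x (MixedAmp.torAmpAt_congr f₁ _ eP₁.symm (h₁ _)))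
    (TorIndepBC.torAmpAt_pullCx hY.flip hv P₂ hP₂ _ (MixedAmp.torAmpAt_congr f₂ _ eP₂.symm (h₂ _)))

open Groth.L10.AmpTest Groth.L10.LocalAmp MonoidalCategory in
/-- `g^*K ⊗ F` is bounded when `K` is and `F` has finite amplitude over the base -/
theorem isZero_tensor_amp {W T : Scheme.{u}} (g : W ⟶ T) {a b c d : ℤ} {F : CochainComplex W.Modules ℤ}
    (hF : DerSch.HasTorAmplitude g a b F) (K : CochainComplex T.Modules ℤ) (hK : DCoh.IsKFlat K)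
    (hh : ∀ j, j < c ∨ d < j → IsZero (K.homology j)) (i : ℤ) (hi : i < a + c ∨ b + d < i) :
    IsZero (((DCoh.tensorCx.obj ((PullTensor.pullCx g).obj K)).obj F).homology i) := by
  rw [Stk.acyclic_iff]
  intro x
  let φ : T.presheaf.stalk (g x) →+* W.presheaf.stalk x := PullStalk.φ g x
  let Ky := (Stk.S T (g x)).obj K
  have hKy : DRing.IsKFlat (T.presheaf.stalk (g x)) Ky := fun L hL j =>
    (Groth.L00.KFlat.stalk_KF K hK (g x) L hL j).of_iso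
      ((HomologicalComplex.homologyFunctor _ _ j).mapIso (_root_.DTen.braidCx L _))
  obtain ⟨E, hEv, hEf, ⟨eE⟩⟩ := hF x
  have h1 : IsZero ((Ky ⊗ E).homology i) :=
    isZero_tensor_bounded hEv hEf (fun j hj => (Stk.acyclic_iff K j).1 (hh j hj) (g x)) i hi
  have h2 : IsZero (((_root_.DTen.resCx φ).obj ((Stk.S W x).obj F) ⊗ Ky).homology i) :=
    (test_congr' eE hKy i).1 ((braid_homology _ _ i).1 h1)
  let e : (Stk.S W x).obj F ⊗ (_root_.DTen.extCx φ).obj Ky ≅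
      (Stk.S W x).obj ((DCoh.tensorCx.obj ((PullTensor.pullCx g).obj K)).obj F) :=
    whiskerLeftIso _ (Groth.L00.KFlat.pullCxIso g K x).symm ≪≫ Stk.tensorCxIso x ((PullTensor.pullCx g).obj K) F
  refine (iso_homology e i).1 ((braid_homology _ _ i).1 ?_)
  exact (KFlatAlg.acyclic_restrictScalars φ _ i).1
    ((iso_homology (BaseChangeTensor.tensorIso φ Ky ((Stk.S W x).obj F)) i).1 ((braid_homology _ _ i).1 h2))

open Groth.L10.AmpTest Groth.L10.LocalAmp in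
/-- flat pullback keeps homological bounds -/
theorem isZero_pullCx_flat {W T : Scheme.{u}} (g : W ⟶ T) [Flat g] (K : CochainComplex T.Modules ℤ) (i : ℤ)
    (hh : IsZero (K.homology i)) : IsZero (((PullTensor.pullCx g).obj K).homology i) := by
  rw [Stk.acyclic_iff]
  intro x
  letI : Algebra (T.presheaf.stalk (g x)) (W.presheaf.stalk x) := (PullStalk.φ g x).toAlgebra
  haveI : Module.Flat (T.presheaf.stalk (g x)) (W.presheaf.stalk x) := Flat.stalkMap g x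
  haveI := flat_resOne (PullStalk.φ g x) (A := T.presheaf.stalk (g x)) (B := W.presheaf.stalk x) rfl
  exact (iso_homology (Groth.L00.KFlat.pullCxIso g K x) i).2 ((KFlatAlg.acyclic_restrictScalars (PullStalk.φ g x) _ i).1
    ((iso_homology (resExtIso (PullStalk.φ g x) _ ≪≫ tensorResOne (PullStalk.φ g x) _) i).2
      (isZero_tensor_flat _ _ i ((Stk.acyclic_iff K i).1 hh (g x)))))

theorem bounded_tensor {f₁ : X₁ ⟶ Y₁} {q₁ : Y₁ ⟶ S} {f₂ : X₂ ⟶ Y₂} {q₂ : Y₂ ⟶ S} [Flat q₁] [Flat (f₁ ≫ q₁)]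
    {pX₁ : X ⟶ X₁} {pX₂ : X ⟶ X₂} (hX : IsPullback pX₁ pX₂ (f₁ ≫ q₁) (f₂ ≫ q₂))
    {pY₁ : Y ⟶ Y₁} {pY₂ : Y ⟶ Y₂} (hY : IsPullback pY₁ pY₂ q₁ q₂)
    {f : X ⟶ Y} (hf₁ : f ≫ pY₁ = pX₁ ≫ f₁) (hf₂ : f ≫ pY₂ = pX₂ ≫ f₂)
    {E₁ : CochainComplex X₁.Modules ℤ} {a₁ b₁ : ℤ} (h₁ : DerSch.HasTorAmplitude f₁ a₁ b₁ E₁)
    (E₂ : CochainComplex X₂.Modules ℤ) (a₂ b₂ : ℤ) [(DCoh.toD X₂ E₂).IsGE a₂] [(DCoh.toD X₂ E₂).IsLE b₂]
    [DCoh.HasLpull pX₁] [DCoh.HasLpull pX₂] (K₂ : CochainComplex X.Modules ℤ) [DCoh.HasLTensorCx K₂]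
    (e₂ : DCoh.toD X K₂ ≅ (DCoh.Lpull pX₂).obj (DCoh.toD X₂ E₂)) (i : ℤ) (hi : i < a₁ + a₂ ∨ b₁ + b₂ < i) :
    IsZero (DCoh.HD ((DCoh.LTensorCx K₂).obj ((DCoh.Lpull pX₁).obj (DCoh.toD X₁ E₁))) i) := by
  obtain ⟨Z, w, v, π₁, π₂, hZ, hw, -, hwπ, -⟩ := exists_factor hX hY hf₁ hf₂
  haveI : Flat π₂ := MorphismProperty.of_isPullback hZ inferInstance
  obtain ⟨P₁, r₁, hP₁, -, hr₁, -⟩ := Groth.L00.KFlat.exists_resolution E₁
  haveI := (DerivedCategory.isIso_Q_map_iff_quasiIso _ r₁).2 hr₁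
  let eP₁ : DCoh.toD X₁ P₁ ≅ DCoh.toD X₁ E₁ := asIso (DerivedCategory.Q.map r₁)
  obtain ⟨P₂, r₂, hP₂, -, hr₂, -⟩ := Groth.L00.KFlat.exists_resolution E₂
  haveI := (DerivedCategory.isIso_Q_map_iff_quasiIso _ r₂).2 hr₂
  let eP₂ : DCoh.toD X₂ P₂ ≅ DCoh.toD X₂ E₂ := asIso (DerivedCategory.Q.map r₂)
  obtain ⟨R, r, hR, -, hr, -⟩ := Groth.L00.KFlat.exists_resolution K₂
  haveI := hr
  haveI : IsIso (DerivedCategory.Q.map r) := (DerivedCategory.isIso_Q_map_iff_quasiIso _ r).2 hr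
  let M₁ := (PullTensor.pullCx pX₁).obj P₁
  let G := (PullTensor.pullCx π₂).obj P₂
  let M₂ := (PullTensor.pullCx w).obj G
  have hM₁ : DCoh.IsKFlat M₁ := Groth.L00.KFlat.pullback_kflat pX₁ P₁ hP₁
  have hG : DCoh.IsKFlat G := Groth.L00.KFlat.pullback_kflat π₂ P₂ hP₂
  have hM₂ : DCoh.IsKFlat M₂ := Groth.L00.KFlat.pullback_kflat w G hG
  obtain ⟨eT⟩ := nonempty_LTensorCx_iso K₂ M₁ hM₁
  haveI : QuasiIso (((DCoh.tensorCx (X := X)).map r).app M₁) :=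
    Groth.L00.KFlat.quasiIso_tensor_of_kflat M₁ hM₁ r
  haveI := (DerivedCategory.isIso_Q_map_iff_quasiIso _ (((DCoh.tensorCx (X := X)).map r).app M₁)).2 inferInstance
  let eM₂ : DCoh.toD X R ≅ DCoh.toD X M₂ :=
    asIso (DerivedCategory.Q.map r) ≪≫ e₂ ≪≫ (DCoh.Lpull pX₂).mapIso eP₂.symm ≪≫
      DerivedApi.objIso (DerivedApi.acyclicKFlat_pullback pX₂) P₂ hP₂ ≪≫
      DerivedCategory.Q.mapIso ((NatIso.mapHomologicalComplex ((Scheme.Modules.pullbackComp w π₂) ≪≫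
        eqToIso (by rw [hwπ])) (ComplexShape.up ℤ)).app P₂).symm ≪≫
      DerivedCategory.Q.mapIso ((DerivedApi.mapCxCompIso (Scheme.Modules.pullback π₂) (Scheme.Modules.pullback w)).app P₂).symm
  obtain ⟨eR⟩ := nonempty_tensor_iso hR hM₂ hM₁ hM₁ eM₂ (Iso.refl _)
  have hE₂ : ∀ j, j < a₂ ∨ b₂ < j → IsZero (P₂.homology j) := fun j hj => by
    refine IsZero.of_iso ?_ (((DerivedCategory.homologyFunctorFactors _ j).app P₂).symm ≪≫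
      (DerivedCategory.homologyFunctor _ j).mapIso eP₂)
    rcases hj with hj | hj
    · exact DerivedCategory.isZero_of_isGE _ a₂ j hj
    · exact DerivedCategory.isZero_of_isLE _ b₂ j hj
  have hM : DerSch.HasTorAmplitude w a₁ b₁ M₁ := fun x =>
    TorIndepBC.torAmpAt_pullCx hZ hw P₁ hP₁ x (MixedAmp.torAmpAt_congr f₁ _ eP₁.symm (h₁ _))
  exact (isZero_tensor_amp w hM G hG (fun j hj => isZero_pullCx_flat π₂ P₂ j (hE₂ j hj)) i hi).of_iso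
    ((DerivedCategory.homologyFunctor X.Modules i).mapIso (
      (DCoh.LTensorCx K₂).mapIso ((DCoh.Lpull pX₁).mapIso eP₁.symm ≪≫
        DerivedApi.objIso (DerivedApi.acyclicKFlat_pullback pX₁) P₁ hP₁) ≪≫ eT ≪≫
      DerivedCategory.Q.mapIso (Groth.L00.KFlat.commIso M₁ K₂).symm ≪≫
      (asIso (DerivedCategory.Q.map (((DCoh.tensorCx (X := X)).map r).app M₁))).symm ≪≫ eR) ≪≫
      (DerivedCategory.homologyFunctorFactors _ i).app _)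

end Groth.L10.RelPC.TorExternal
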