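import Groth.Agent.L10.RelPC.RpushAmp
import Groth.Agent.L10.RelPC.TorExternal
import Groth.Agent.L29.DCoh.RHomQCoh
import Groth.Agent.Lead.SmoothPerf
import Groth.Agent.Lead.RelTorStalk

/-!
Direct images of complexes of locally finite tor amplitude.
-/

set_option autoImplicit false
set_option linter.style.haveILetI false
set_option backward.defeqAttrib.useBackward true
set_option backward.isDefEq.respectTransparency false
set_option backward.isDefEq.respectTransparency.types false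

universe u

open CategoryTheory CategoryTheory.Limits AlgebraicGeometry

attribute [local instance] HasDerivedCategory.standard

namespace Groth.L10.RelPC.RpushAmpLoc

open Groth.L00 Groth.L29.DC

variable {X Y S : Scheme.{u}} (f : X ⟶ Y) (q : Y ⟶ S) [QuasiCompact f] [QuasiSeparated f]

set_option maxHeartbeats 800000 in
theorem locFinite_Rpush [DCoh.HasRpush f] (F : CochainComplex X.Modules ℤ) (hqc : DCoh.IsQCohD (DCoh.toD X F))
    (hF : DerSch.LocFiniteTorAmplitude (f ≫ q) F) (R : CochainComplex Y.Modules ℤ)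
    (eR : DCoh.toD Y R ≅ (DCoh.Rpush f).obj (DCoh.toD X F)) : DerSch.LocFiniteTorAmplitude q R := by
  intro y
  obtain ⟨_, ⟨V₀, hV₀, rfl⟩, hyV₀, -⟩ := Y.isBasis_affineOpens.exists_subset_of_mem_open (Set.mem_univ y) isOpen_univ
  let V : Y.Opens := V₀
  have hV : IsAffineOpen V := hV₀
  have hyV : y ∈ V := hyV₀
  choose U a b hxU hU using hF
  have hc : IsCompact ((f ⁻¹ᵁ V : X.Opens) : Set X) := f.isCompact_preimage hV.isCompact
  obtain ⟨t, ht⟩ := hc.elim_finite_subcover (fun x : X => (U x : Set X)) (fun x => (U x).isOpen)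
    (fun x _ => Set.mem_iUnion.2 ⟨x, hxU x⟩)
  obtain ⟨a₀, ha⟩ := Finset.bddBelow (t.image a)
  obtain ⟨b₀, hb⟩ := Finset.bddAbove (t.image b)
  let ι := (f ⁻¹ᵁ V).ι
  let g := f ∣_ V
  haveI := RpushQC.hasRpush g
  haveI : CompactSpace (V : Scheme.{u}) := isCompact_iff_compactSpace.1 hV.isCompact
  let F' := (ExtZero.rCx ι).obj F
  have hF' : DerSch.HasTorAmplitude (g ≫ V.ι ≫ q) a₀ b₀ F' := fun x' => by
    rw [← Category.assoc, show g ≫ V.ι = ι ≫ f from morphismRestrict_ι f V, Category.assoc]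
    obtain ⟨x, hx, hx'⟩ := Set.mem_iUnion₂.1 (ht (show ι x' ∈ ((f ⁻¹ᵁ V : X.Opens) : Set X) from x'.2))
    exact Groth.L10.DR.amp_mono ((Groth.Lead.SmoothStalk.amp_restrict_iff (f ≫ q) ι x' F _ _).2 (hU x (ι x') hx'))
      (ha (Finset.mem_image_of_mem a hx)) (hb (Finset.mem_image_of_mem b hx))
  haveI := ExtZero.preservesFiniteLimits ι
  haveI := ExtZero.preservesFiniteLimits V.ι
  let eF : (DCoh.restrictD ι).obj (DCoh.toD X F) ≅ DCoh.toD _ F' :=
    (Scheme.Modules.restrictFunctor ι).mapDerivedCategoryFactors.app F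
  have hF'q : DCoh.IsQCohD (DCoh.toD _ F') := isQCohD_of_iso eF (isQCohD_restrictD ι hqc)
  obtain ⟨N, hN⟩ := Gen.exists_amp g
  haveI : (DCoh.toD _ F').IsLE b₀ :=
    Groth.Lead.RelTorStalk.isLE_of_ampAt (g ≫ V.ι ≫ q) F' fun x => ⟨a₀, hF' x⟩
  haveI hLE := hN _ hF'q b₀ inferInstance
  obtain ⟨eV⟩ := RpushRes.nonempty_iso f V.ι ι g
    (by rw [Scheme.Opens.opensRange_ι, Scheme.Opens.opensRange_ι]) (morphismRestrict_ι f V)
  let R' := (ExtZero.rCx V.ι).obj R
  let eR' : DCoh.toD _ R' ≅ (DCoh.Rpush g).obj (DCoh.toD _ F') :=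
    ((Scheme.Modules.restrictFunctor V.ι).mapDerivedCategoryFactors.app R).symm ≪≫
      (DCoh.restrictD V.ι).mapIso eR ≪≫ eV.app _ ≪≫ (DCoh.Rpush g).mapIso eF
  refine ⟨V, a₀, b₀ + N, hyV, fun y' hy' => ?_⟩
  have h := RpushAmp.ampAt_Rpush g (V.ι ≫ q) F' hF'q (B := b₀ + N) hF' R' eR' ⟨y', hy'⟩
    ⟨⊤, trivial, fun i hi => Functor.map_isZero _ (DerivedCategory.isZero_of_isLE _ (b₀ + N) i hi)⟩
  exact (Groth.Lead.SmoothStalk.amp_restrict_iff q V.ι ⟨y', hy'⟩ R _ _).1 h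

omit [QuasiCompact f] [QuasiSeparated f] in
/-- absolute finite tor dimension gives relative finite tor amplitude along morphisms of finite tor dimension -/
theorem locFinite_of_abs (hf : DerSch.LocFiniteTorDim f) (F : CochainComplex X.Modules ℤ)
    (hF : DerSch.LocFiniteTorAmplitude (𝟙 X) F) : DerSch.LocFiniteTorAmplitude f F := by
  intro x
  obtain ⟨U₁, a₁, b₁, hx₁, h₁⟩ := hf x
  obtain ⟨U₂, a₂, b₂, hx₂, h₂⟩ := hF x
  refine ⟨U₁ ⊓ U₂, a₂ + a₁, b₂ + b₁, ⟨hx₁, hx₂⟩, fun x' hx' => ?_⟩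
  have hk : DCoh.IsKFlat (DerSch.unitCx X) := Groth.L00.KFlat.single _ (Groth.L29.DC.isFlat_structureModule X) 0
  have h := MixedAmp.torAmpAt_tensor (𝟙 X) f (DerSch.unitCx X) hk F x' (h₂ x' hx'.2) (h₁ x' hx'.1)
  rw [Category.id_comp] at h
  exact MixedAmp.torAmpAt_congr f x' (DerivedCategory.Q.mapIso
    ((DCoh.tensorCx.mapIso (TorExternal.pullUnitIso (𝟙 X))).app F ≪≫ (Groth.L00.KFlat.commIso _ _) ≪≫
      (RHom.unitCxIso (X := X)).app F)) h

end Groth.L10.RelPC.RpushAmpLoc
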