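import Groth.Agent.L29.RelPC.Open
import Groth.Agent.L29.RelPC.Basic
import Groth.Agent.L29.DCoh.RHomBound
import Groth.Agent.L29.DCoh.TensorPerfect
import Groth.Agent.L29.DCoh.PullTensor
import Groth.Agent.L29.DCoh.Restrict
import Groth.Agent.L29.DCoh.TopCoh
import Groth.Agent.L29.DCoh.RHomExists
import Groth.Agent.L29.BC.LTExact
import Groth.Agent.L29.BC.ProjQC
import Groth.Agent.Lead.RelPCTest
import Groth.Agent.L10.DerivedAdj

/-!
Tensor products of relatively pseudo-coherent objects with pseudo-coherent ones, without quasi-coherence.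
-/

set_option autoImplicit false
set_option linter.style.haveILetI false
set_option backward.defeqAttrib.useBackward true
set_option backward.isDefEq.respectTransparency false
set_option backward.isDefEq.respectTransparency.types false

universe u

open CategoryTheory CategoryTheory.Limits CategoryTheory.Pretriangulated AlgebraicGeometry

attribute [local instance] HasDerivedCategory.standard

namespace Groth.L10.TensorCore

open Groth.L00 Groth.L29.DC Groth.L29.DC.ClosedPC Groth.L29.RelPC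

attribute [local instance] ClosedPC.additive ClosedPC.exactLeft ClosedPC.exactRight

variable {A S : Scheme.{u}} {h : A ⟶ S}

theorem rel_of_isLE [LocallyOfFiniteType h] {m : ℤ} {K : DCoh.D A} (hK : K.IsLE (m - 1)) :
    DerSch.IsPseudoCoherentRel h m K :=
  rel_of_imp fun U n V φ _ _ _ _ _ => pc_of_isZero fun j hj => by
    haveI : ((resD U).obj K).IsLE (m - 1) := Groth.L10.DerivedAdj.isLE_map K (m - 1)
    exact (ClosedPC.isZero_HD_iff _ _ j).2 (DerivedCategory.isZero_of_isLE _ (m - 1) j (by omega))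

theorem rel_mono {m n : ℤ} (hmn : m ≤ n) {K : DCoh.D A} (hK : DerSch.IsPseudoCoherentRel h m K) :
    DerSch.IsPseudoCoherentRel h n K :=
  haveI := hK.1
  rel_of_imp fun U _ V φ hU hV hφ hle _ => pc_mono hmn (pc_chart hK hU hV hle (hφ hle))

theorem rel_shift {m n : ℤ} (a : ℤ) {K : DCoh.D A} (hK : DerSch.IsPseudoCoherentRel h m K) (ha : a + n = m) :
    DerSch.IsPseudoCoherentRel h n (K⟦a⟧) :=
  haveI := hK.1
  rel_of_imp fun U _ V φ hU hV hφ hle _ =>
    isPseudoCoherentD_of_iso (((chartF U φ).commShiftIso a).app K).symm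
      (pc_shift (pc_chart hK hU hV hle (hφ hle)) a n ha)

/-- shifts pass through derived tensor products -/
theorem nonempty_LT_shift (P : CochainComplex A.Modules ℤ) [DCoh.HasLTensorCx P] (X : DCoh.D A) (a : ℤ) :
    Nonempty ((DCoh.LTensorCx P).obj (X⟦a⟧) ≅ ((DCoh.LTensorCx P).obj X)⟦a⟧) := by
  haveI : (DCoh.LTensorCx P).Additive := by
    haveI := RHom.hasRSheafHom P
    haveI : (DCoh.LTensorCx P).IsLeftAdjoint := ⟨_, ⟨DCoh.RSheafHomAdj P⟩⟩
    haveI := preservesBinaryBiproducts_of_preservesBinaryCoproducts (DCoh.LTensorCx P)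
    exact Functor.additive_of_preservesBinaryBiproducts _
  let F := DCoh.LTensorCx P
  have one : ∀ Y : DCoh.D A, Nonempty (F.obj (Y⟦(1 : ℤ)⟧) ≅ (F.obj Y)⟦(1 : ℤ)⟧) := fun Y => by
    obtain ⟨δ, hd⟩ := Groth.L29.BC.LTExact.exists_distinguished P (contractibleTriangle Y)
      (contractible_distinguished Y)
    have hz : IsZero (F.obj (contractibleTriangle Y).obj₃) := F.map_isZero (isZero_zero _)
    have hi := (Triangle.isZero₂_iff_isIso₃ _ hd).1 hz
    exact ⟨@asIso _ _ _ _ δ hi⟩
  induction a using Int.induction_on with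
  | zero => exact ⟨F.mapIso ((shiftFunctorZero _ ℤ).app X) ≪≫ ((shiftFunctorZero _ ℤ).app _).symm⟩
  | succ k ih =>
    obtain ⟨e⟩ := ih
    obtain ⟨e₁⟩ := one (X⟦(k : ℤ)⟧)
    exact ⟨F.mapIso ((shiftFunctorAdd' (DCoh.D A) (k : ℤ) 1 _ rfl).app X) ≪≫ e₁ ≪≫
      (shiftFunctor _ (1 : ℤ)).mapIso e ≪≫ ((shiftFunctorAdd' (DCoh.D A) (k : ℤ) 1 _ rfl).app _).symm⟩
  | pred k ih =>
    obtain ⟨e⟩ := ih
    obtain ⟨e₁⟩ := one (X⟦(-(k : ℤ) - 1)⟧)
    exact ⟨(shiftFunctor _ (1 : ℤ)).preimageIso (e₁.symm ≪≫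
      F.mapIso ((shiftFunctorAdd' (DCoh.D A) (-(k : ℤ) - 1) 1 (-(k : ℤ)) (by omega)).app X).symm ≪≫ e ≪≫
      (shiftFunctorAdd' (DCoh.D A) (-(k : ℤ) - 1) 1 (-(k : ℤ)) (by omega)).app _)⟩

/-- restriction to an open -/
theorem nonempty_res_LT {V : Scheme.{u}} (j : V ⟶ A) [IsOpenImmersion j] (P : CochainComplex A.Modules ℤ)
    (hP : DCoh.IsKFlat P) [DCoh.HasLTensorCx P] [DCoh.HasLTensorCx ((PullTensor.pullCx j).obj P)] (K : DCoh.D A) :
    Nonempty ((DCoh.restrictD j).obj ((DCoh.LTensorCx P).obj K) ≅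
      (DCoh.LTensorCx ((PullTensor.pullCx j).obj P)).obj ((DCoh.restrictD j).obj K)) := by
  haveI := KFlat.hasLpull j
  obtain ⟨e⟩ := PullTensor.nonempty_Lpull_LTensorCx j P hP K
  obtain ⟨a⟩ := nonempty_Lpull_iso_restrictD j ((DCoh.LTensorCx P).obj K)
  obtain ⟨b⟩ := nonempty_Lpull_iso_restrictD j K
  exact ⟨a.symm ≪≫ e ≪≫ (DCoh.LTensorCx _).mapIso b⟩

theorem nonempty_res_toD {V : Scheme.{u}} (j : V ⟶ A) [IsOpenImmersion j] (P : CochainComplex A.Modules ℤ)
    (hP : DCoh.IsKFlat P) :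
    Nonempty ((DCoh.restrictD j).obj (DCoh.toD A P) ≅ DCoh.toD V ((PullTensor.pullCx j).obj P)) := by
  haveI := KFlat.hasLpull j
  obtain ⟨a⟩ := nonempty_Lpull_iso_restrictD j (DCoh.toD A P)
  exact ⟨a.symm ≪≫ DerivedApi.objIso (DerivedApi.acyclicKFlat_pullback j) P hP⟩

/-- free modules in a single degree -/
theorem rel_free (P : CochainComplex A.Modules ℤ) (hP : DCoh.IsKFlat P) [DCoh.HasLTensorCx P] {c m i : ℤ}
    (hPc : DerSch.IsPseudoCoherentRel h c (DCoh.toD A P)) (hi : c + i ≤ m) (q : ℕ) :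
    DerSch.IsPseudoCoherentRel h m
      ((DCoh.LTensorCx P).obj ((DerivedCategory.singleFunctor A.Modules i).obj (FlatMod.freeMod A q))) := by
  haveI := hPc.1
  haveI : (DCoh.LTensorCx P).Additive := by
    haveI := RHom.hasRSheafHom P
    haveI : (DCoh.LTensorCx P).IsLeftAdjoint := ⟨_, ⟨DCoh.RSheafHomAdj P⟩⟩
    haveI := preservesBinaryBiproducts_of_preservesBinaryCoproducts (DCoh.LTensorCx P)
    exact Functor.additive_of_preservesBinaryBiproducts _
  let s := DerivedCategory.singleFunctor A.Modules i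
  let F := s ⋙ DCoh.LTensorCx P
  induction q with
  | zero =>
    refine rel_of_isLE ((DerivedCategory.isLE_iff _ _).2 fun j _ => (DerivedCategory.homologyFunctor _ j).map_isZero
      (F.map_isZero ?_))
    exact (IsZero.iff_id_eq_zero _).2 (Sigma.hom_ext _ _ fun j => j.elim0)
  | succ q ih =>
    haveI := preservesBinaryBiproducts_of_preservesBiproducts F
    let e : F.obj (FlatMod.freeMod A (q + 1)) ≅ F.obj (Coh.structureModule A) ⊞ F.obj (FlatMod.freeMod A q) :=
      F.mapIso (coprodFinSuccIso fun _ : Fin (q + 1) => Coh.structureModule A) ≪≫ F.mapBiprod _ _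
    refine rel_iso e.symm ((rel_triangle m _ (binaryBiproductTriangle_distinguished _ _)).2.1 ?_ ih)
    obtain ⟨u⟩ := Groth.Lead.RelPCTest.nonempty_LTensorCx_unit P hP
    obtain ⟨t⟩ := nonempty_LT_shift P (DCoh.inD A (Coh.structureModule A)) (-i)
    exact rel_iso (((DCoh.LTensorCx P).mapIso
      (((DerivedCategory.singleFunctors _).shiftIso (-i) i 0 (by omega)).app _)).symm ≪≫ t ≪≫
        (shiftFunctor _ (-i)).mapIso u).symm
      (rel_shift (m := m - i) (-i) (rel_mono (by omega) hPc) (by omega))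

/-- finite locally free modules in a single degree -/
theorem rel_locFree (P : CochainComplex A.Modules ℤ) (hP : DCoh.IsKFlat P) [DCoh.HasLTensorCx P] {c m i : ℤ}
    (hPc : DerSch.IsPseudoCoherentRel h c (DCoh.toD A P)) (hi : c + i ≤ m) {N : A.Modules}
    (hN : FlatMod.IsFinLocFree N) :
    DerSch.IsPseudoCoherentRel h m ((DCoh.LTensorCx P).obj ((DerivedCategory.singleFunctor A.Modules i).obj N)) := by
  haveI := hPc.1
  refine rel_of_openCover fun x => ?_
  obtain ⟨U, q, hx, ⟨eN⟩⟩ := hN x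
  refine ⟨_, U.ι, inferInstance, by rw [Scheme.Opens.opensRange_ι]; exact hx, ?_⟩
  haveI := KFlat.hasLTensorCx ((PullTensor.pullCx U.ι).obj P)
  obtain ⟨e⟩ := nonempty_res_LT U.ι P hP ((DerivedCategory.singleFunctor A.Modules i).obj N)
  obtain ⟨eP⟩ := nonempty_res_toD U.ι P hP
  exact rel_iso (e ≪≫ (DCoh.LTensorCx _).mapIso
      (((Scheme.Modules.restrictFunctor U.ι).mapDerivedCategorySingleFunctor i).app N ≪≫
        (DerivedCategory.singleFunctor _ i).mapIso eN)).symm
    (rel_free _ (KFlat.pullback_kflat U.ι P hP) (rel_iso eP (rel_restrict U.ι hPc)) hi q)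

/-- strictly perfect complexes -/
theorem rel_strictlyPerfect (P : CochainComplex A.Modules ℤ) (hP : DCoh.IsKFlat P) [DCoh.HasLTensorCx P] {c m : ℤ}
    (hPc : DerSch.IsPseudoCoherentRel h c (DCoh.toD A P)) : ∀ (k : ℕ) (F : CochainComplex A.Modules ℤ) (lo hi : ℤ),
    hi - lo < k → c + hi ≤ m → (∀ i, i < lo ∨ hi < i → IsZero (F.X i)) → (∀ i, FlatMod.IsFinLocFree (F.X i)) →
    DerSch.IsPseudoCoherentRel h m ((DCoh.LTensorCx P).obj (DCoh.toD A F)) := by
  haveI := hPc.1
  haveI : (DCoh.LTensorCx P).Additive := by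
    haveI := RHom.hasRSheafHom P
    haveI : (DCoh.LTensorCx P).IsLeftAdjoint := ⟨_, ⟨DCoh.RSheafHomAdj P⟩⟩
    haveI := preservesBinaryBiproducts_of_preservesBinaryCoproducts (DCoh.LTensorCx P)
    exact Functor.additive_of_preservesBinaryBiproducts _
  intro k
  induction k with
  | zero =>
    intro F lo hi hk _ hF _
    refine rel_of_isLE ((DerivedCategory.isLE_iff _ _).2 fun j _ => (DerivedCategory.homologyFunctor _ j).map_isZero
      ((DCoh.LTensorCx P).map_isZero (DerivedCategory.Q.map_isZero ?_)))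
    exact (IsZero.iff_id_eq_zero _).2 (HomologicalComplex.hom_ext _ _ fun i => (hF i (by omega)).eq_of_src _ _)
  | succ k ih =>
    intro F lo b hk hb hF hL
    let S₁ := (HomologicalComplex.single A.Modules (ComplexShape.up ℤ) b).obj (F.X b)
    let a : S₁ ⟶ F := HomologicalComplex.mkHomFromSingle (𝟙 _) fun j hj => by
      obtain rfl : b + 1 = j := hj
      exact (hF (b + 1) (by omega)).eq_of_tgt _ _
    haveI : ∀ i, Mono (a.f i) := fun i => by
      by_cases hi : i = b
      · subst hi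
        rw [HomologicalComplex.mkHomFromSingle_f]
        infer_instance
      · exact (HomologicalComplex.isZero_single_obj_X _ _ _ _ hi).mono _
    haveI : Mono a := HomologicalComplex.mono_of_mono_f a inferInstance
    let S : ShortComplex (CochainComplex A.Modules ℤ) := ShortComplex.mk a (cokernel.π a) (cokernel.condition a)
    have hS : S.ShortExact := ShortComplex.ShortExact.mk (ShortComplex.exact_of_g_is_cokernel _ (cokernelIsCokernel a))
    have hSi : ∀ i, (S.map (HomologicalComplex.eval A.Modules (ComplexShape.up ℤ) i)).ShortExact := fun i =>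
      hS.map_of_exact _
    have hb3 : IsZero (S.X₃.X b) := by
      haveI : IsIso (a.f b) := by
        rw [HomologicalComplex.mkHomFromSingle_f]; infer_instance
      haveI : Epi (S.map (HomologicalComplex.eval A.Modules (ComplexShape.up ℤ) b)).f := inferInstanceAs (Epi (a.f b))
      haveI := (hSi b).epi_g
      exact IsZero.of_epi_eq_zero (S.map (HomologicalComplex.eval A.Modules (ComplexShape.up ℤ) b)).g
        ((cancel_epi (S.map (HomologicalComplex.eval A.Modules (ComplexShape.up ℤ) b)).f).1 (by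
          rw [comp_zero]; exact (S.map _).zero))
    have hne : ∀ i, i ≠ b → IsIso ((cokernel.π a).f i) := fun i hi => by
      exact (hSi i).isIso_g_iff.2 (HomologicalComplex.isZero_single_obj_X (ComplexShape.up ℤ) b (F.X b) i hi)
    have h3 : DerSch.IsPseudoCoherentRel h m ((DCoh.LTensorCx P).obj (DCoh.toD A S.X₃)) := by
      refine ih S.X₃ lo (b - 1) (by push_cast at hk; omega) (by omega) (fun i hi => ?_) fun i => ?_
      · by_cases hib : i = b
        · subst hib; exact hb3
        · haveI := hne i hib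
          exact (hF i (by omega)).of_iso (asIso ((cokernel.π a).f i)).symm
      · by_cases hib : i = b
        · subst hib; exact Groth.L29.LocFree.of_isZero hb3
        · haveI := hne i hib
          exact Groth.L29.LocFree.of_iso (asIso ((cokernel.π a).f i)) (hL i)
    have hT := DerivedCategory.triangleOfSES_distinguished hS
    obtain ⟨δ, hd⟩ := Groth.L29.BC.LTExact.exists_distinguished P _ (inv_rot_of_distTriang _ hT)
    refine (rel_triangle m _ hd).2.1 ?_ (rel_iso
      ((DCoh.LTensorCx P).mapIso (shiftNegShift (DerivedCategory.Q.obj S.X₃) (1 : ℤ)).symm) h3) |> fun r => r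
    exact rel_iso ((DCoh.LTensorCx P).mapIso ((DerivedCategory.singleFunctorIsoCompQ A.Modules b).app (F.X b)))
      (rel_locFree P hP hPc hb (hL b))

/-- the tensor product with a pseudo-coherent object -/
theorem rel_tensor (P : CochainComplex A.Modules ℤ) (hP : DCoh.IsKFlat P) [DCoh.HasLTensorCx P] {a b c d m : ℤ}
    (hPc : DerSch.IsPseudoCoherentRel h c (DCoh.toD A P)) (hPd : (DCoh.toD A P).IsLE d)
    (Q : DCoh.D A) (hQ : DCoh.IsPseudoCoherentD a Q) (hQb : Q.IsLE b) (h1 : a + d ≤ m) (h2 : c + b ≤ m) :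
    DerSch.IsPseudoCoherentRel h m ((DCoh.LTensorCx P).obj Q) := by
  haveI := hPc.1
  rcases lt_or_ge b a with hba | hba
  · refine rel_of_isLE ?_
    haveI := RHom.isLE_LTensorCx P d hPd Q b hQb
    exact DerivedCategory.TStructure.t.isLE_of_le ((DCoh.LTensorCx P).obj Q) (b + d) (m - 1) (by omega)
  refine rel_of_openCover fun x => ?_
  obtain ⟨V, hx, hV⟩ := (isPC_iff_wit a Q).1 hQ x
  refine ⟨_, V.ι, inferInstance, by rw [Scheme.Opens.opensRange_ι]; exact hx, ?_⟩
  let P' := (PullTensor.pullCx V.ι).obj P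
  haveI := KFlat.hasLTensorCx P'
  obtain ⟨e⟩ := nonempty_res_LT V.ι P hP Q
  obtain ⟨eP⟩ := nonempty_res_toD V.ι P hP
  haveI hQb' : ((resD V).obj Q).IsLE b := haveI := hQb; Groth.L10.DerivedAdj.isLE_map Q b
  have hPd' : (DCoh.toD _ P').IsLE d :=
    haveI := hPd
    haveI : ((DCoh.restrictD V.ι).obj (DCoh.toD A P)).IsLE d := Groth.L10.DerivedAdj.isLE_map (DCoh.toD A P) d
    DerivedCategory.TStructure.t.isLE_of_iso eP d
  have hPc' := rel_iso eP (rel_restrict V.ι hPc)
  refine rel_iso e.symm ?_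
  obtain ⟨F, α, ⟨⟨lo, hi, hv⟩, hL⟩, hα, hFb⟩ := TopCoh.exists_le hba hV
    (fun i hi => DerivedCategory.isZero_of_isLE _ b i hi)
  haveI := hPc'.1
  have hF : DerSch.IsPseudoCoherentRel (V.ι ≫ h) m ((DCoh.LTensorCx P').obj (DCoh.toD _ F)) :=
    rel_strictlyPerfect P' (KFlat.pullback_kflat V.ι P hP) hPc' (b - lo + 1).toNat F lo b (by omega) h2
      (fun i hi' => hi'.elim (fun h' => hv i (Or.inl h')) (hFb i)) hL
  obtain ⟨C, g, δ, hT⟩ := distinguished_cocone_triangle α
  have hC : C.IsLE (a - 1) := (approx_iff_triangle _ hT a).1 hα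
  obtain ⟨δ', hd⟩ := Groth.L29.BC.LTExact.exists_distinguished P' _ (inv_rot_of_distTriang _ hT)
  refine (rel_triangle m _ hd).2.1 hF (rel_iso ((DCoh.LTensorCx P').mapIso
    (shiftNegShift C (1 : ℤ)).symm) (rel_of_isLE ?_))
  haveI := RHom.isLE_LTensorCx P' d hPd' C (a - 1) hC
  exact DerivedCategory.TStructure.t.isLE_of_le ((DCoh.LTensorCx P').obj C) (a - 1 + d) (m - 1) (by omega)

end Groth.L10.TensorCore
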