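import Groth.Agent.S7093
import Groth.Agent.L10.DTen.Exact
import Groth.Agent.L10.DTen.PerfectInd
import Groth.Agent.L10.DTen.SymMon
import Groth.Agent.L10.DRing.AmpTest

/-! Perfect twists of relatively perfect objects. -/

set_option autoImplicit false
set_option linter.style.haveILetI false
set_option backward.defeqAttrib.useBackward true
set_option backward.isDefEq.respectTransparency false
set_option backward.isDefEq.respectTransparency.types false
universe u
attribute [local instance] HasDerivedCategory.standard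
open CategoryTheory CategoryTheory.Limits CategoryTheory.Pretriangulated MonoidalCategory

namespace Groth.L10.RelPC

variable {A : Type u} [CommRing A]

theorem relPerfect_retract {R : Type u} [CommRing R] [Algebra R A] [Module.Flat R A] [Algebra.FinitePresentation R A]
    {X Y : Dual.D A} (r : Retract X Y) (h : Dual2.IsRelPerfect R A Y) : Dual2.IsRelPerfect R A X := by
  obtain ⟨-, hiso, hsat⟩ := Groth.Agent.S7093.result R A
  obtain ⟨Z, g, k, hT⟩ := distinguished_cocone_triangle r.i
  have hk : k = 0 := (Triangle.mor₃_eq_zero_iff_mono₁ _ hT).2 (inferInstanceAs (Mono r.i))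
  obtain ⟨e, -, -⟩ := exists_iso_binaryBiproduct_of_distTriang _ hT hk
  exact (hsat X Z (hiso.of_iso e h)).1

theorem ten_perfect {R : Type u} [CommRing R] [Algebra R A] [Module.Flat R A] [Algebra.FinitePresentation R A]
    (E : DRing.Cx A) (a b : ℤ) (hEb : DRing.VanishesOutside E a b) (hEp : DRing.TermwiseFiniteProjective E)
    [DRing.HasLTensorCx A E] (M : Dual.D A) (hM : Dual2.IsRelPerfect R A M) :
    Dual2.IsRelPerfect R A ((DRing.LTensorCx A E).obj M) := by
  haveI : _root_.DTen.HasLTen A := Groth.L10.DTen.hasLTen A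
  obtain ⟨P, hP, ⟨eP⟩⟩ := Groth.L10.KFlat.exists_rep M
  obtain ⟨htri, hiso, hsat⟩ := Groth.Agent.S7093.result R A
  let Prop' : ObjectProperty (Dual.D A) := fun K => Dual2.IsRelPerfect R A K
  haveI : Prop'.IsClosedUnderIsomorphisms := hiso
  haveI : Prop'.IsTriangulated := htri
  let F := (_root_.DTen.LTen A).obj (DerivedCategory.Q.obj P)
  let ι := Groth.L10.DTen.leftIso P hP
  let Pr : ObjectProperty (Dual.D A) := Prop'.inverseImage F
  have hext : ∀ T : Triangle (Dual.D A), T ∈ distinguishedTriangles → Pr T.obj₁ → Pr T.obj₃ → Pr T.obj₂ := by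
    intro T hT h₁ h₃
    obtain ⟨X, Y, α, ⟨i⟩⟩ := (DerivedCategory.mem_distTriang_iff _).1 (inv_rot_of_distTriang _ hT)
    let Tc := (DerivedCategory.Q : DRing.Cx A ⥤ Dual.D A).mapTriangle.obj (CochainComplex.mappingCone.triangle α)
    let j : T ≅ Tc.rotate := (invRotCompRot.app T).symm ≪≫ (Pretriangulated.rotate (Dual.D A)).mapIso i
    have hS := Groth.L10.DTen.shortExact_tensorLeft P _
      (CochainComplex.mappingCone.triangleRotateShortComplexSplitting α)
    let t : ∀ Z : DRing.Cx A, F.obj (DerivedCategory.Q.obj Z) ≅ DerivedCategory.Q.obj ((Groth.L10.KFlat.T P).obj Z) :=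
      fun Z => ι.app Z
    have := Prop'.ext_of_isTriangulatedClosed₂ _ (DerivedCategory.triangleOfSES_distinguished hS)
      (Prop'.prop_of_iso ((F.mapIso (Triangle.π₁.mapIso j)) ≪≫ t _) h₁)
      (Prop'.prop_of_iso ((F.mapIso (Triangle.π₃.mapIso j ≪≫
        ((DerivedCategory.Q : DRing.Cx A ⥤ Dual.D A).commShiftIso (1 : ℤ)).symm.app X)) ≪≫ t _) h₃)
    exact Prop'.prop_of_iso ((t _).symm ≪≫ (F.mapIso (Triangle.π₂.mapIso j)).symm) this
  have hunit : ∀ n : ℤ, Pr ((_root_.DTen.unit A)⟦n⟧) := fun n => by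
    let U : DRing.Cx A := 𝟙_ (DRing.Cx A)
    haveI := Groth.L10.DTen.isIso_ε A P (U⟦n⟧) (Or.inl hP)
    exact Prop'.prop_of_iso ((DerivedCategory.Q.commShiftIso n).app P).symm
      (Prop'.le_shift n _ (Prop'.prop_of_iso eP.symm hM)) |> fun h =>
        Prop'.prop_of_iso (DerivedCategory.Q.mapIso ((shiftFunctor (DRing.Cx A) n).mapIso (ρ_ P).symm ≪≫
          (CochainComplex.mapBifunctorShift₂Iso P U (curriedTensor (ModuleCat.{u} A)) n).symm) ≪≫
          (asIso ((_root_.DTen.ε A).app (P, U⟦n⟧))).symm ≪≫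
          F.mapIso ((DerivedCategory.Q.commShiftIso n).app U)) h
  have hE : Pr (DRing.toD E) := Groth.L10.DTen.perfect_induction Pr hext
    (fun r h => relPerfect_retract (r.map F) h) hunit ⟨E, a, b, hEb, hEp, ⟨Iso.refl _⟩⟩
  haveI := Groth.L10.DTen.isIso_ε A P E (Or.inl hP)
  obtain ⟨e⟩ := Groth.L10.AmpTest.compute E hP eP
  exact Prop'.prop_of_iso (asIso ((_root_.DTen.ε A).app (P, E)) ≪≫ e.symm) hE

end Groth.L10.RelPC
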