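import Groth.Agent.L10.RelPC.TensorCore
import Groth.Agent.L29.RelPC.BCFamily
import Groth.Agent.L29.RelPC.Closed
import Groth.Agent.L29.DCoh.ClosedProj
import Groth.Agent.L10.RelPC.TensorPullMax
import Groth.Agent.Lead.FlatPerfectCx
import Groth.Agent.L29.DCoh.TildeAlg
import Mathlib.AlgebraicGeometry.AffineSpace

/-!
`Lf^* F ⊗ E` is pseudo-coherent relative to the composite, without quasi-coherence.
-/

set_option autoImplicit false
set_option linter.style.haveILetI false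
set_option backward.defeqAttrib.useBackward true
set_option backward.isDefEq.respectTransparency false
set_option backward.isDefEq.respectTransparency.types false

universe u

open CategoryTheory CategoryTheory.Limits CategoryTheory.Pretriangulated AlgebraicGeometry

attribute [local instance] HasDerivedCategory.standard

namespace Groth.L10.TensorPullGen

open Groth.L00 Groth.L29.DC Groth.L29.DC.ClosedPC Groth.L29.RelPC Groth.L10.TensorCore

attribute [local instance] ClosedPC.additive ClosedPC.exactLeft ClosedPC.exactRight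

variable {X Y S : Scheme.{u}}

theorem flat_affineSpace (n : Type u) (T : Scheme.{u}) : Flat (𝔸(n; T) ↘ T) :=
  MorphismProperty.pullback_fst _ _ <| by
  have := isIso_of_isTerminal specULiftZIsTerminal.{u} terminalIsTerminal (terminal.from _)
  rw [← terminal.comp_from (Spec.map (CommRingCat.ofHom MvPolynomial.C)),
    MorphismProperty.cancel_right_of_respectsIso (P := @Flat),
    HasRingHomProperty.Spec_iff (P := @Flat)]
  exact RingHom.flat_algebraMap_iff.2 (inferInstanceAs (Module.Flat (ULift.{u} ℤ) (MvPolynomial n (ULift.{u} ℤ))))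

/-- affine opens of the source embed into an affine space over the affine open of the target -/
theorem exists_embedding (f : X ⟶ Y) [LocallyOfFiniteType f] {U : X.Opens} (hU : IsAffineOpen U) {W : Y.Opens}
    (hW : IsAffineOpen W) (hle : U ≤ f ⁻¹ᵁ W) :
    ∃ (n : ℕ) (i : (U : Scheme.{u}) ⟶
      ((𝔸(ULift.{u} (Fin n); Y) ↘ Y) ⁻¹ᵁ W : (𝔸(ULift.{u} (Fin n); Y)).Opens)),
      IsClosedImmersion i ∧
        i ≫ Scheme.Opens.ι _ ≫ (𝔸(ULift.{u} (Fin n); Y) ↘ Y) = U.ι ≫ f := by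
  obtain ⟨n, φ, hφ⟩ := exists_isChart f hU hW hle
  let I := ULift.{u} (Fin n)
  let pr := 𝔸(I; Y) ↘ Y
  let A := pr ⁻¹ᵁ W
  haveI : IsAffine (U : Scheme.{u}) := hU
  haveI : IsAffine (A : Scheme.{u}) := hW.preimage pr
  let v : I → Γ((U : Scheme.{u}), ⊤) := fun j => U.topIso.inv (φ (MvPolynomial.X j.down))
  let i₀ := AffineSpace.homOfVector (U.ι ≫ f) v
  have hrange : Set.range i₀ ⊆ Set.range A.ι := by
    rintro _ ⟨u, rfl⟩
    rw [Scheme.Opens.range_ι]
    show pr (i₀ u) ∈ W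
    rw [← Scheme.Hom.comp_apply, AffineSpace.homOfVector_over, Scheme.Hom.comp_apply]
    exact hle u.2
  let i := IsOpenImmersion.lift A.ι i₀ hrange
  have hi : i ≫ A.ι = i₀ := IsOpenImmersion.lift_fac _ _ _
  refine ⟨n, i, IsClosedImmersion.of_surjective_of_isAffine i ?_, by
    rw [← Category.assoc, hi]; exact AffineSpace.homOfVector_over _ _⟩
  intro y
  obtain ⟨p, hp⟩ := hφ.1 (U.topIso.hom y)
  suffices key : ∀ p, ∃ a, i.appTop a = U.topIso.inv (φ p) by
    obtain ⟨a, ha⟩ := key p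
    refine ⟨a, ha.trans ?_⟩
    rw [hp, ← ConcreteCategory.comp_apply, Iso.hom_inv_id, ConcreteCategory.id_apply]
  intro p
  induction p using MvPolynomial.induction_on with
  | C r =>
    refine ⟨(pr ∣_ W).appTop (W.topIso.inv r), ?_⟩
    have hw : i ≫ (pr ∣_ W) = f.resLE W U hle := by
      rw [← cancel_mono W.ι, Category.assoc, morphismRestrict_ι, ← Category.assoc, hi, Scheme.Hom.resLE_comp_ι]
      exact AffineSpace.homOfVector_over _ _
    rw [← ConcreteCategory.comp_apply, ← Scheme.Hom.comp_appTop, hw]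
    change (f.resLE W U hle).app ⊤ (W.topIso.inv r) = _
    rw [Scheme.Hom.resLE_app_top, ConcreteCategory.comp_apply, ConcreteCategory.comp_apply,
      ← ConcreteCategory.comp_apply W.topIso.inv, Iso.inv_hom_id, ConcreteCategory.id_apply]
    exact congrArg U.topIso.inv (RingHom.congr_fun hφ.2 r).symm
  | add p q hp hq =>
    obtain ⟨a, ha⟩ := hp
    obtain ⟨b, hb⟩ := hq
    exact ⟨a + b, by rw [map_add, ha, hb, map_add, map_add]⟩
  | mul_X p j hp =>
    obtain ⟨a, ha⟩ := hp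
    refine ⟨a * A.ι.appTop (AffineSpace.coord Y (ULift.up j : I)), ?_⟩
    rw [map_mul, ha, map_mul, map_mul]
    congr 1
    rw [← ConcreteCategory.comp_apply, ← Scheme.Hom.comp_appTop, hi]
    exact AffineSpace.homOfVector_appTop_coord _ _ _

/-- pullback to an affine space over the target -/
theorem rel_pull_affineSpace (g : Y ⟶ S) [LocallyOfFiniteType g] {c : ℤ} {F : DCoh.D Y}
    (hF : DerSch.IsPseudoCoherentRel g c F) (n : ℕ) (A : (𝔸(ULift.{u} (Fin n); Y)).Opens)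
    [DCoh.HasLpull (A.ι ≫ (𝔸(ULift.{u} (Fin n); Y) ↘ Y))] :
    DerSch.IsPseudoCoherentRel ((A.ι ≫ (𝔸(ULift.{u} (Fin n); Y) ↘ Y)) ≫ g) c
      ((DCoh.Lpull (A.ι ≫ (𝔸(ULift.{u} (Fin n); Y) ↘ Y))).obj F) := by
  let pr := 𝔸(ULift.{u} (Fin n); Y) ↘ Y
  let prS := 𝔸(ULift.{u} (Fin n); S) ↘ S
  let mg := AffineSpace.map (ULift.{u} (Fin n)) g
  haveI : Flat prS := flat_affineSpace _ _
  haveI : Flat pr := flat_affineSpace _ _
  haveI := Groth.L00.KFlat.hasLpull pr
  haveI := Groth.L00.KFlat.hasLpull A.ι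
  have hc : IsPullback pr mg g prS := (AffineSpace.isPullback_map g).flip
  have h1 := rel_baseChange hc hF
  haveI : LocallyOfFiniteType mg := h1.1
  have h2 := (rel_comp_base_iff mg prS (pcMor_of_flat prS) c _).1 h1
  have h3 := rel_restrict A.ι h2
  obtain ⟨e⟩ := nonempty_Lpull_iso_restrictD A.ι ((DCoh.Lpull pr).obj F)
  obtain ⟨e'⟩ := DerivedApi.lpull_comp A.ι pr
  have h4 := rel_iso (e.symm ≪≫ e'.app F) h3
  rwa [show (A.ι ≫ pr) ≫ g = A.ι ≫ mg ≫ prS by rw [Category.assoc, AffineSpace.map_over]]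

/-- the statement near a point, given a bound on `F` there -/
theorem rel_chart (f : X ⟶ Y) (g : Y ⟶ S) [LocallyOfFiniteType f] [LocallyOfFiniteType g] [DCoh.HasLpull f]
    (E : CochainComplex X.Modules ℤ) [DCoh.HasLTensorCx E] {a b c d m : ℤ}
    (hE : DerSch.IsPseudoCoherentRel f a (DCoh.toD X E)) (hEb : (DCoh.toD X E).IsLE b)
    {F : DCoh.D Y} (hF : DerSch.IsPseudoCoherentRel g c F) {U : X.Opens} (hU : IsAffineOpen U) {W : Y.Opens}
    (hW : IsAffineOpen W) (hle : U ≤ f ⁻¹ᵁ W) (hFd : ((resD W).obj F).IsLE d) (h1 : a + d ≤ m) (h2 : c + b ≤ m) :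
    DerSch.IsPseudoCoherentRel (U.ι ≫ f ≫ g) m
      ((DCoh.restrictD U.ι).obj ((DCoh.LTensorCx E).obj ((DCoh.Lpull f).obj F))) := by
  haveI := fun {Z T : Scheme.{u}} (k : Z ⟶ T) => Groth.L00.KFlat.hasLpull k
  haveI := fun {T : Scheme.{u}} (D : CochainComplex T.Modules ℤ) => Groth.L00.KFlat.hasLTensorCx D
  obtain ⟨n, i, hi, hiw⟩ := exists_embedding f hU hW hle
  let pr := 𝔸(ULift.{u} (Fin n); Y) ↘ Y
  let A := pr ⁻¹ᵁ W
  let q := A.ι ≫ pr
  haveI : Flat pr := flat_affineSpace _ _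
  have hiq : i ≫ q = U.ι ≫ f := hiw
  have hG := rel_pull_affineSpace g hF n A
  have hGd : ((DCoh.Lpull q).obj F).IsLE d := by
    obtain ⟨e₁⟩ := nonempty_Lpull_congr (a := A.ι) (b := pr) (a' := pr ∣_ W) (b' := W.ι) (morphismRestrict_ι pr W).symm F
    obtain ⟨e₂⟩ := nonempty_Lpull_iso_restrictD W.ι F
    obtain ⟨e₃⟩ := DerivedApi.lpull_comp A.ι pr
    haveI := hFd
    haveI := Groth.L10.RelPC.TensorPullMax.isLE_Lpull (pr ∣_ W) _ d hFd
    exact DerivedCategory.TStructure.t.isLE_of_iso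
      (((DCoh.Lpull (pr ∣_ W)).mapIso e₂).symm ≪≫ e₁.symm ≪≫ e₃.app F) d
  obtain ⟨P, p, hP, -, hp, -⟩ := Groth.L00.KFlat.exists_resolution (DerivedCategory.Q.objPreimage ((DCoh.Lpull q).obj F))
  haveI := (DerivedCategory.isIso_Q_map_iff_quasiIso _ p).2 hp
  let eP : DCoh.toD _ P ≅ (DCoh.Lpull q).obj F :=
    asIso (DerivedCategory.Q.map p) ≪≫ DerivedCategory.Q.objObjPreimageIso _
  have hPd : (DCoh.toD _ P).IsLE d := haveI := hGd; DerivedCategory.TStructure.t.isLE_of_iso eP.symm d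
  -- the restriction of `E` pushed into affine space
  let EU : DCoh.D (U : Scheme.{u}) := (DCoh.restrictD U.ι).obj (DCoh.toD X E)
  have hEU : DerSch.IsPseudoCoherentRel (i ≫ q) a EU := hiq ▸ rel_restrict U.ι hE
  have hq := (mor_iff.1 (pcMor_of_flat q)).2
  have hQa : DCoh.IsPseudoCoherentD a ((pD i).obj EU) := (pc_iff_rel hq a _).2 ((rel_closed_iff i q a EU).1 hEU)
  have hQb : ((pD i).obj EU).IsLE b :=
    haveI := hEb
    haveI : EU.IsLE b := Groth.L10.DerivedAdj.isLE_map (DCoh.toD X E) b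
    Groth.L10.DerivedAdj.isLE_map EU b
  have key := rel_tensor (h := q ≫ g) P hP (rel_iso eP.symm hG) hPd _ hQa hQb h1 h2
  -- the projection formula
  let P' := ((Scheme.Modules.pullback i).mapHomologicalComplex (ComplexShape.up ℤ)).obj P
  obtain ⟨π⟩ := ClosedProj.nonempty_projection i P hP EU
  have hpD : ∀ K : DCoh.D (U : Scheme.{u}), Nonempty ((DCoh.Rpush i).obj K ≅ (pD i).obj K) := fun K => by
    obtain ⟨r⟩ := ClosedProj.nonempty_Rpush i (DerivedCategory.Q.objPreimage K)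
    exact ⟨(DCoh.Rpush i).mapIso (DerivedCategory.Q.objObjPreimageIso K).symm ≪≫ r ≪≫
      ((Scheme.Modules.pushforward i).mapDerivedCategoryFactors.app _).symm ≪≫
      (pD i).mapIso (DerivedCategory.Q.objObjPreimageIso K)⟩
  obtain ⟨r₁⟩ := hpD EU
  obtain ⟨r₂⟩ := hpD ((DCoh.LTensorCx P').obj EU)
  have key' := (rel_closed_iff i (q ≫ g) m _).2
    (rel_iso ((DCoh.LTensorCx P).mapIso r₁.symm ≪≫ π ≪≫ r₂) key)
  rw [← Category.assoc, hiq, Category.assoc] at key'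
  refine rel_iso (Nonempty.some ?_) key'
  -- identification of the restriction
  obtain ⟨E', p', hE', -, hp', -⟩ := Groth.L00.KFlat.exists_resolution E
  haveI := (DerivedCategory.isIso_Q_map_iff_quasiIso _ p').2 hp'
  let eE : DerivedCategory.Q.obj E' ≅ DerivedCategory.Q.obj E := asIso (DerivedCategory.Q.map p')
  let Eι := (PullTensor.pullCx U.ι).obj E'
  obtain ⟨cE⟩ := Groth.L29.BC.ProjQC.nonempty_LTensorCx_congr eE
  obtain ⟨t⟩ := nonempty_res_LT U.ι E' hE' ((DCoh.Lpull f).obj F)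
  obtain ⟨l₁⟩ := nonempty_Lpull_iso_restrictD U.ι ((DCoh.Lpull f).obj F)
  obtain ⟨l₂⟩ := nonempty_Lpull_congr (a := U.ι) (b := f) (a' := i) (b' := q) hiq.symm F
  have hP' : DCoh.IsKFlat P' := Groth.L00.KFlat.pullback_kflat i P hP
  let eM : (DCoh.restrictD U.ι).obj ((DCoh.Lpull f).obj F) ≅ DCoh.toD _ P' :=
    l₁.symm ≪≫ l₂ ≪≫ (DCoh.Lpull i).mapIso eP.symm ≪≫
      DerivedApi.objIso (DerivedApi.acyclicKFlat_pullback i) P hP
  obtain ⟨cm⟩ := Groth.Lead.FlatPerfect.nonempty_LTensorCx_comm Eι P' hP'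
  obtain ⟨eE'⟩ := nonempty_res_toD U.ι E' hE'
  exact ⟨((DCoh.restrictD U.ι).mapIso (cE.symm.app _) ≪≫ t ≪≫ (DCoh.LTensorCx Eι).mapIso eM ≪≫ cm ≪≫
    (DCoh.LTensorCx P').mapIso (eE'.symm ≪≫ (DCoh.restrictD U.ι).mapIso eE)).symm⟩

/-- `E ⊗ Lf^*F` -/
theorem rel_tensor_Lpull_gen (f : X ⟶ Y) (g : Y ⟶ S) [LocallyOfFiniteType f] [LocallyOfFiniteType g]
    [DCoh.HasLpull f] (E : CochainComplex X.Modules ℤ) [DCoh.HasLTensorCx E] {a b c d m : ℤ}
    (hE : DerSch.IsPseudoCoherentRel f a (DCoh.toD X E)) (hEb : (DCoh.toD X E).IsLE b)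
    {F : DCoh.D Y} (hF : DerSch.IsPseudoCoherentRel g c F) (hFd : F.IsLE d) (h1 : a + d ≤ m) (h2 : c + b ≤ m) :
    DerSch.IsPseudoCoherentRel (f ≫ g) m ((DCoh.LTensorCx E).obj ((DCoh.Lpull f).obj F)) := by
  refine rel_of_openCover fun x => ?_
  obtain ⟨W, V, -, hW, -, hxW⟩ := exists_affine (f x) g
  obtain ⟨_, ⟨U, hU, rfl⟩, hx, hle⟩ := X.isBasis_affineOpens.exists_subset_of_mem_open
    (show x ∈ f ⁻¹ᵁ W from hxW) (f ⁻¹ᵁ W).isOpen
  exact ⟨_, Scheme.Opens.ι U, inferInstance, by rw [Scheme.Opens.opensRange_ι]; exact hx,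
    rel_chart f g E hE hEb hF hU hW hle (haveI := hFd; Groth.L10.DerivedAdj.isLE_map F d) h1 h2⟩

/-- pullback along pseudo-coherent morphisms -/
theorem rel_Lpull_pc (f : X ⟶ Y) (g : Y ⟶ S) [LocallyOfFiniteType f] [LocallyOfFiniteType g]
    (hf : ∀ n : ℤ, DerSch.IsNPseudoCoherent f n) [DCoh.HasLpull f] {m : ℤ} {F : DCoh.D Y}
    (hF : DerSch.IsPseudoCoherentRel g m F) :
    DerSch.IsPseudoCoherentRel (f ≫ g) m ((DCoh.Lpull f).obj F) := by
  refine rel_of_openCover fun x => ?_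
  obtain ⟨W, V, hWV, hW, hV, hxW⟩ := exists_affine (f x) g
  obtain ⟨_, ⟨U, hU, rfl⟩, hx, hle⟩ := X.isBasis_affineOpens.exists_subset_of_mem_open
    (show x ∈ f ⁻¹ᵁ W from hxW) (f ⁻¹ᵁ W).isOpen
  obtain ⟨n, φ, hφ⟩ := exists_isChart g hW hV hWV
  obtain ⟨_, hp⟩ := good_of_rel hF hW hV hWV hWV n φ hφ
  obtain ⟨N, hN⟩ := TildeAlg.exists_isZero hp
  have hFd : ((resD W).obj F).IsLE N := (DerivedCategory.isLE_iff _ _).2 fun j hj =>
    (ClosedPC.isZero_HD_iff _ _ j).1 (hN j (by omega))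
  let E := RHom.O0 X
  haveI := Groth.L00.KFlat.hasLTensorCx E
  have hEk : DCoh.IsKFlat E := isKFlat_of_isStrictlyPerfect RHom.isStrictlyPerfect_O0
  have hEb : (DCoh.toD X E).IsLE 0 := inferInstance
  have h := rel_chart (m := m) f g E (hf (m - N)) hEb hF hU hW hle hFd (by omega) (by omega)
  obtain ⟨M, p, hM, -, hp', -⟩ := Groth.L00.KFlat.exists_resolution (DerivedCategory.Q.objPreimage ((DCoh.Lpull f).obj F))
  haveI := (DerivedCategory.isIso_Q_map_iff_quasiIso _ p).2 hp'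
  let eM : DCoh.toD X M ≅ (DCoh.Lpull f).obj F :=
    asIso (DerivedCategory.Q.map p) ≪≫ DerivedCategory.Q.objObjPreimageIso _
  obtain ⟨u⟩ := nonempty_LTensorCx_iso E M hM
  refine ⟨_, Scheme.Opens.ι U, inferInstance, by rw [Scheme.Opens.opensRange_ι]; exact hx, rel_iso ((DCoh.restrictD (Scheme.Opens.ι U)).mapIso
    ((DCoh.LTensorCx E).mapIso eM.symm ≪≫ u ≪≫ DerivedCategory.Q.mapIso (RHom.unitCxIso.app M) ≪≫ eM)) h⟩

end Groth.L10.TensorPullGen
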