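import Groth.Agent.L10.RelPC.TorFlatBC
import Groth.Agent.L10.RelPC.AmpIndepBC
import Groth.Agent.L29.RelPC.BCRel

/-!
Stalkwise tor amplitude under base change between schemes flat over a common base.
-/

set_option autoImplicit false
set_option linter.style.haveILetI false
set_option backward.isDefEq.respectTransparency false
set_option backward.isDefEq.respectTransparency.types false
set_option backward.defeqAttrib.useBackward true

universe u

open CategoryTheory CategoryTheory.Limits AlgebraicGeometry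

attribute [local instance] HasDerivedCategory.standard

namespace Groth.L10.RelPC.TorIndepBC

open Groth.L00 Groth.L29.DC TorFlatBC

variable {X Y S X' Y' T : Scheme.{u}} {f : X ⟶ Y} {q : Y ⟶ S} {f' : X' ⟶ Y'} {g' : X' ⟶ X} {g : Y' ⟶ Y}
  {q' : Y' ⟶ T} {j : T ⟶ S}

set_option maxHeartbeats 800000 in
theorem torAmpAt_pullCx (hq : IsPullback g q' q j) (hc : IsPullback g' f' f g) [Flat q] [Flat (f ≫ q)]
    (P : CochainComplex X.Modules ℤ) (hP : DCoh.IsKFlat P) (x' : X') {a b : ℤ}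
    (h : DerSch.HasTorAmplitudeAt f a b P (g' x')) :
    DerSch.HasTorAmplitudeAt f' a b ((PullTensor.pullCx g').obj P) x' := by
  obtain ⟨S₀, W, T₀, W', eWS, eTS, eW, eWT, hS, hW, hT, hW', hxW', hpo₀⟩ :=
    Groth.L20.ModStalk.exists_affine_square hq (f' x')
  have hxW : f (g' x') ∈ W := by
    rw [← Scheme.Hom.comp_apply, hc.w, Scheme.Hom.comp_apply]
    exact eW hxW'
  obtain ⟨_, ⟨V, hV, rfl⟩, hxV, eV⟩ :=
    X.isBasis_affineOpens.exists_subset_of_mem_open (show g' x' ∈ f ⁻¹ᵁ W from hxW) (f ⁻¹ᵁ W).2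
  obtain ⟨hU, hpo⟩ := Groth.L29.RelPC.exists_square hc hW hV hW' eV eW
  let U := g' ⁻¹ᵁ V ⊓ f' ⁻¹ᵁ W'
  have hxU : x' ∈ U := ⟨hxV, hxW'⟩
  have eU : U ≤ g' ⁻¹ᵁ V := inf_le_left
  have eU' : U ≤ f' ⁻¹ᵁ W' := inf_le_right
  have eVS : V ≤ (f ≫ q) ⁻¹ᵁ S₀ := fun y hy => eWS (eV hy)
  algebraize [(f.appLE W V eV).hom, (g.appLE W W' eW).hom, (g'.appLE V U eU).hom, (f'.appLE W' U eU').hom,
    ((g'.appLE V U eU).hom.comp (f.appLE W V eV).hom), (q.appLE S₀ W eWS).hom, (j.appLE S₀ T₀ eTS).hom,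
    (q'.appLE T₀ W' eWT).hom, ((g.appLE W W' eW).hom.comp (q.appLE S₀ W eWS).hom)]
  haveI : IsScalarTower Γ(Y, W) Γ(Y', W') Γ(X', U) := IsScalarTower.of_algebraMap_eq' (congrArg CommRingCat.Hom.hom hpo.w)
  haveI : Algebra.IsPushout Γ(Y, W) Γ(X, V) Γ(Y', W') Γ(X', U) := CommRingCat.isPushout_iff_isPushout.mp hpo
  haveI : Algebra.IsPushout Γ(Y, W) Γ(Y', W') Γ(X, V) Γ(X', U) := Algebra.IsPushout.symm ‹_›
  haveI : IsScalarTower Γ(S, S₀) Γ(T, T₀) Γ(Y', W') := IsScalarTower.of_algebraMap_eq' (congrArg CommRingCat.Hom.hom hpo₀.w)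
  haveI : Algebra.IsPushout Γ(S, S₀) Γ(Y, W) Γ(T, T₀) Γ(Y', W') := CommRingCat.isPushout_iff_isPushout.mp hpo₀
  haveI : Algebra.IsPushout Γ(S, S₀) Γ(T, T₀) Γ(Y, W) Γ(Y', W') := Algebra.IsPushout.symm ‹_›
  haveI : Module.Flat Γ(S, S₀) Γ(Y, W) := q.flat_appLE hS hW eWS
  letI := X.presheaf.algebra_section_stalk ⟨g' x', hxV⟩
  haveI hlocV := hV.isLocalization_stalk ⟨g' x', hxV⟩
  letI := X'.presheaf.algebra_section_stalk ⟨x', hxU⟩
  haveI := hU.isLocalization_stalk ⟨x', hxU⟩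
  letI := Y.presheaf.algebra_section_stalk ⟨f (g' x'), hxW⟩
  haveI := hW.isLocalization_stalk ⟨f (g' x'), hxW⟩
  letI := Y'.presheaf.algebra_section_stalk ⟨f' x', hxW'⟩
  haveI := hW'.isLocalization_stalk ⟨f' x', hxW'⟩
  haveI : Module.Flat Γ(X', U) (X'.presheaf.stalk x') :=
    IsLocalization.flat _ (hU.primeIdealOf ⟨x', hxU⟩).asIdeal.primeCompl
  letI : Algebra (X.presheaf.stalk (g' x')) (X'.presheaf.stalk x') := (PullStalk.φ g' x').toAlgebra
  letI : Algebra Γ(X, V) (X'.presheaf.stalk x') :=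
    ((algebraMap Γ(X', U) (X'.presheaf.stalk x')).comp (algebraMap Γ(X, V) Γ(X', U))).toAlgebra
  haveI : IsScalarTower Γ(X, V) Γ(X', U) (X'.presheaf.stalk x') := IsScalarTower.of_algebraMap_eq fun _ => rfl
  haveI : IsScalarTower Γ(X, V) (X.presheaf.stalk (g' x')) (X'.presheaf.stalk x') :=
    IsScalarTower.of_algebraMap_eq fun r => (Groth.L20.ModStalk.stalkMap_germ eU hxU (eU hxU) r).symm
  letI : Algebra Γ(Y, W) (X.presheaf.stalk (g' x')) :=
    ((algebraMap Γ(X, V) (X.presheaf.stalk (g' x'))).comp (algebraMap Γ(Y, W) Γ(X, V))).toAlgebra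
  haveI : IsScalarTower Γ(Y, W) Γ(X, V) (X.presheaf.stalk (g' x')) := IsScalarTower.of_algebraMap_eq fun _ => rfl
  letI : Algebra (Y.presheaf.stalk (f (g' x'))) (X.presheaf.stalk (g' x')) := (f.stalkMap (g' x')).hom.toAlgebra
  haveI : IsScalarTower Γ(Y, W) (Y.presheaf.stalk (f (g' x'))) (X.presheaf.stalk (g' x')) :=
    IsScalarTower.of_algebraMap_eq fun r => (Groth.L20.ModStalk.stalkMap_germ eV hxV hxW r).symm
  letI : Algebra Γ(Y', W') (X'.presheaf.stalk x') :=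
    ((algebraMap Γ(X', U) (X'.presheaf.stalk x')).comp (algebraMap Γ(Y', W') Γ(X', U))).toAlgebra
  haveI : IsScalarTower Γ(Y', W') Γ(X', U) (X'.presheaf.stalk x') := IsScalarTower.of_algebraMap_eq fun _ => rfl
  letI : Algebra (Y'.presheaf.stalk (f' x')) (X'.presheaf.stalk x') := (f'.stalkMap x').hom.toAlgebra
  haveI : IsScalarTower Γ(Y', W') (Y'.presheaf.stalk (f' x')) (X'.presheaf.stalk x') :=
    IsScalarTower.of_algebraMap_eq fun r => (Groth.L20.ModStalk.stalkMap_germ eU' hxU hxW' r).symm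
  let K := (Stk.S X (g' x')).obj P
  have h1 : DRing.HasTorAmplitudeIn Γ(Y, W) a b
      (DRing.toD ((_root_.DTen.resCx (algebraMap Γ(Y, W) (X.presheaf.stalk (g' x')))).obj K)) :=
    (amp_localization_iff (B := Y.presheaf.stalk (f (g' x')))
      (hW.primeIdealOf ⟨f (g' x'), hxW⟩).asIdeal.primeCompl K a b).2 h
  letI : Algebra Γ(S, S₀) Γ(X, V) := ((f ≫ q).appLE S₀ V eVS).hom.toAlgebra
  haveI : Module.Flat Γ(S, S₀) Γ(X, V) := (f ≫ q).flat_appLE hS hV eVS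
  letI : Algebra Γ(S, S₀) (X.presheaf.stalk (g' x')) :=
    ((algebraMap Γ(X, V) (X.presheaf.stalk (g' x'))).comp (algebraMap Γ(S, S₀) Γ(X, V))).toAlgebra
  haveI : IsScalarTower Γ(S, S₀) Γ(X, V) (X.presheaf.stalk (g' x')) := IsScalarTower.of_algebraMap_eq fun _ => rfl
  haveI : IsScalarTower Γ(S, S₀) Γ(Y, W) (X.presheaf.stalk (g' x')) := IsScalarTower.of_algebraMap_eq fun r => by
    change algebraMap Γ(X, V) (X.presheaf.stalk (g' x')) ((f ≫ q).appLE S₀ V eVS r) =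
      algebraMap Γ(X, V) (X.presheaf.stalk (g' x')) (f.appLE W V eV (q.appLE S₀ W eWS r))
    exact congrArg _ (ConcreteCategory.congr_hom (Scheme.Hom.appLE_comp_appLE f q S₀ W V eWS eV) r).symm
  haveI : Module.Flat Γ(X, V) (X.presheaf.stalk (g' x')) :=
    IsLocalization.flat _ (hV.primeIdealOf ⟨g' x', hxV⟩).asIdeal.primeCompl
  haveI : Module.Flat Γ(S, S₀) (X.presheaf.stalk (g' x')) := Module.Flat.trans Γ(S, S₀) Γ(X, V) _
  have hK : DRing.IsKFlat (X.presheaf.stalk (g' x')) K := fun L hL i =>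
    (Groth.L00.KFlat.stalk_KF P hP (g' x') L hL i).of_iso
      ((HomologicalComplex.homologyFunctor _ _ i).mapIso (_root_.DTen.braidCx L _))
  have h2 := AmpIndepBC.amp_indep_bc (R := Γ(S, S₀)) (R' := Γ(T, T₀)) (A' := Γ(Y', W')) (B := Γ(X, V))
    (B' := Γ(X', U)) (T := X'.presheaf.stalk x') (hV.primeIdealOf ⟨g' x', hxV⟩).asIdeal.primeCompl K hK h1
  have h3 := (amp_localization_iff (B := Y'.presheaf.stalk (f' x'))
    (hW'.primeIdealOf ⟨f' x', hxW'⟩).asIdeal.primeCompl _ a b).1 h2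
  exact Groth.L10.DR.amp_of_iso (DerivedCategory.Q.mapIso
    ((_root_.DTen.resCx (f'.stalkMap x').hom).mapIso (Groth.L00.KFlat.pullCxIso g' P x').symm :
      (_root_.DTen.resCx (f'.stalkMap x').hom).obj _ ≅ (DerSch.stalkCxOver f' x').obj ((PullTensor.pullCx g').obj P))) h3

end Groth.L10.RelPC.TorIndepBC
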